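/-
Facts about a single member of the family which are transferred to the ambient group.
-/
import Mathlib
import Cfsg.Agent.Lib.PushingUp.Main

set_option autoImplicit false
set_option linter.style.haveILetI false
set_option linter.unusedSectionVars false

open scoped commutatorElement MatrixGroups

namespace CfsgLib.PushingUp.Family

open Cfsg CfsgLib.LocalEven.NaturalRecognition CfsgLib.PushingUp

variable {G : Type*} [Group G]

local notation:max "𝐂(" R ")" => Subgroup.centralizer (SetLike.coe R)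

local notation:max "𝐍(" R ")" => Subgroup.normalizer (SetLike.coe R)

theorem borel_conj {F : Type*} [Field F] {A : SL(2, F)} (h : A.1 1 0 = 0) (t : F) :
    A * up t * A⁻¹ = up (A.1 0 0 ^ 2 * t) := by
  rw [mul_inv_eq_iff_eq_mul]
  have hd : A.1 0 0 * A.1 1 1 = 1 := by
    have := A.2
    rwa [Matrix.det_fin_two, h, mul_zero, sub_zero] at this
  apply Subtype.ext
  rw [val_mul, val_mul, up_coe, up_coe]
  ext i j
  fin_cases i <;> fin_cases j <;> simp [Matrix.mul_apply, Fin.sum_univ_two, h] <;>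
    linear_combination (-(A.1 0 0 * t)) * hd

variable [Finite G] {p : ℕ} [hp : Fact p.Prime] {F : Type} [Field F] [Fintype F] {E : Subgroup G}
  (pr' : Proj p F E) (hE : IsPushingUpSituation p E)

include pr' hE

theorem map_proj_ne_top : E.map pr'.φ ≠ ⊤ := by
  obtain ⟨P, rfl⟩ := hE.2.1
  intro h
  have h1 := Subgroup.comap_map_eq pr'.φ (P : Subgroup G)
  rw [h, Subgroup.comap_top, sup_comm] at h1
  exact pr'.quot.ker_sup_ne_top P h1.symm

theorem image_ne_of_gen {g : G} (hg : E ⊔ E.map (MulAut.conj g).toMonoidHom = ⊤) :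
    (E.map (MulAut.conj g).toMonoidHom).map pr'.φ ≠ E.map pr'.φ := by
  intro e
  refine map_proj_ne_top pr' hE ?_
  rw [← sup_idem (E.map pr'.φ)]
  nth_rw 2 [← e]
  rw [← Subgroup.map_sup, hg, Subgroup.map_top_of_surjective _ pr'.surj]

theorem image_borel {k : G} {A : SL(2, F)} (hk : pr'.φ k = Elation.pr F A) (hA : A.1 1 0 = 0) :
    (E.map (MulAut.conj k).toMonoidHom).map pr'.φ = E.map pr'.φ := by
  obtain ⟨P, rfl⟩ := hE.2.1
  have h1 : Nat.card ((P : Subgroup G).map pr'.φ) = Fintype.card F := pr'.quot.card_map P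
  have h2 : Nat.card (((P : Subgroup G).map (MulAut.conj k).toMonoidHom).map pr'.φ) = Fintype.card F :=
    pr'.quot.card_map (k • P)
  refine Subgroup.eq_of_le_of_card_ge ?_ (h1.trans h2.symm).le
  rintro _ ⟨_, ⟨s, hs, rfl⟩, rfl⟩
  obtain ⟨t, ht⟩ := pr'.up_mem s hs
  obtain ⟨s', hs', hs'φ⟩ := pr'.up_surj (A.1 0 0 ^ 2 * t)
  refine ⟨s', hs', ?_⟩
  rw [hs'φ]
  show _ = pr'.φ (k * s * k⁻¹)
  rw [map_mul, map_mul, map_inv, hk, ht, ← map_inv, ← map_mul, ← map_mul, borel_conj hA]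

theorem exists_norm {g : G} (hg : E ⊔ E.map (MulAut.conj g).toMonoidHom = ⊤) :
    ∃ s ∈ E, ∃ h, pr'.φ h = Elation.pr F (wel 1) ∧
      E.map (MulAut.conj (s * g)).toMonoidHom = E.map (MulAut.conj h).toMonoidHom := by
  have hne := image_ne_of_gen pr' hE hg
  obtain ⟨A, hA⟩ : ∃ A : SL(2, F), Elation.pr F A = pr'.φ g :=
    QuotientGroup.mk'_surjective _ _
  have hc : A.1 1 0 ≠ 0 := fun h => hne (image_borel pr' hE hA.symm h)
  obtain ⟨s, hs, hsφ⟩ := pr'.up_surj (-(A.1 0 0 / A.1 1 0))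
  obtain ⟨h₀, hh₀⟩ := pr'.surj (Elation.pr F (wel 1))
  have hwinv : (wel (1 : F))⁻¹ = wel (-1) := inv_eq_of_mul_eq_one_right (wel_mul_wel_neg one_ne_zero)
  have hk : pr'.φ (h₀⁻¹ * (s * g)) = Elation.pr F (wel (-1) * (up (-(A.1 0 0 / A.1 1 0)) * A)) := by
    rw [map_mul, map_mul, map_inv, hh₀, hsφ, ← hA, ← map_inv, ← map_mul, ← map_mul, hwinv]
  have hB : (wel (-1) * (up (-(A.1 0 0 / A.1 1 0)) * A)).1 1 0 = 0 := by
    rw [val_mul, val_mul, wel_coe (neg_ne_zero.2 one_ne_zero), up_coe]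
    simp [Matrix.mul_apply, Fin.sum_univ_two, Matrix.vecMul, dotProduct]
    field_simp
    ring
  set k := h₀⁻¹ * (s * g) with hkdef
  have himg := image_borel pr' hE hk hB
  obtain ⟨P, rfl⟩ := hE.2.1
  set K := pr'.φ.ker ⊔ (P : Subgroup G) with hK
  have hle : (P : Subgroup G).map (MulAut.conj k).toMonoidHom ≤ K := by
    rw [hK, sup_comm, ← Subgroup.comap_map_eq, ← himg]
    exact Subgroup.le_comap_map _ _
  obtain ⟨n, hn⟩ := MulAction.exists_smul_eq ↥K (P.subtype (le_sup_right : (P : Subgroup G) ≤ K))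
    ((k • P).subtype hle)
  have hn' : (P : Subgroup G).map (MulAut.conj (n : G)).toMonoidHom =
      (P : Subgroup G).map (MulAut.conj k).toMonoidHom := by
    have h1 := congrArg (fun Q : Sylow p ↥K => (Q : Subgroup ↥K).map K.subtype) hn
    simp only [sylow_smul_eq_map, Sylow.coe_subtype] at h1
    rw [Subgroup.map_map] at h1
    rw [show K.subtype.comp (MulAut.conj n).toMonoidHom = (MulAut.conj (n : G)).toMonoidHom.comp K.subtype from
      MonoidHom.ext fun _ => rfl, ← Subgroup.map_map,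
      Subgroup.map_subgroupOf_eq_of_le (le_sup_right : (P : Subgroup G) ≤ K)] at h1
    rw [h1]
    exact Subgroup.map_subgroupOf_eq_of_le hle
  obtain ⟨κ, hκ, e, he, hne'⟩ := Subgroup.mem_sup_of_normal_left.1 n.2
  refine ⟨s, hs, h₀ * κ, by rw [map_mul, MonoidHom.mem_ker.1 hκ, mul_one, hh₀], ?_⟩
  have hκe : (P : Subgroup G).map (MulAut.conj (n : G)).toMonoidHom =
      (P : Subgroup G).map (MulAut.conj κ).toMonoidHom := by
    show cjg _ _ = cjg _ _
    rw [← hne', ← cjg_cjg, cjg_of_mem (Subgroup.le_normalizer he)]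
  show cjg (s * g) _ = cjg (h₀ * κ) _
  rw [show s * g = h₀ * k by rw [hkdef]; group, ← cjg_cjg, ← cjg_cjg h₀ κ]
  exact congrArg (cjg h₀) (hn'.symm.trans hκe)

theorem reg_pair {g s : G} (hg : E ⊔ E.map (MulAut.conj g).toMonoidHom = ⊤) (hs : s ∈ E)
    (hsT : s ∉ pCore p G) :
    E.map (MulAut.conj g).toMonoidHom ⊔ E.map (MulAut.conj (s * g)).toMonoidHom = ⊤ := by
  have hne := image_ne_of_gen pr' hE hg
  obtain ⟨P, rfl⟩ := hE.2.1
  refine sup_eq_top hE pr'.quot (g • P) ((s * g) • P) fun e => hsT ?_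
  set U := ((g • P : Sylow p G) : Subgroup G).map pr'.φ with hU
  change U = (cjg (s * g) (P : Subgroup G)).map pr'.φ at e
  let R := (g • P).mapSurjective pr'.surj
  have hRU : (R : Subgroup _) = U := rfl
  have hnorm : pr'.φ s ∈ 𝐍(U) := by
    rw [Subgroup.mem_normalizer_iff_map_conj_eq]
    show U.map (MulAut.conj (pr'.φ s)).toMonoidHom = U
    rw [hU, Subgroup.map_map, show (MulAut.conj (pr'.φ s)).toMonoidHom.comp pr'.φ =
      pr'.φ.comp (MulAut.conj s).toMonoidHom from MonoidHom.ext fun x => by simp, ← Subgroup.map_map]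
    show (cjg s (cjg g (P : Subgroup G))).map pr'.φ = U
    rw [cjg_cjg]
    exact e.symm
  have hz : Subgroup.zpowers (pr'.φ s) ≤ (P : Subgroup G).map pr'.φ :=
    Subgroup.zpowers_le.2 ⟨s, hs, rfl⟩
  have hp' : IsPGroup p ↥((R : Subgroup _) ⊔ Subgroup.zpowers (pr'.φ s)) := by
    rw [sup_comm]
    refine IsPGroup.to_sup_of_normal_right' ((P.2.map _).to_le hz) R.2 ?_
    rw [hRU]
    exact Subgroup.zpowers_le.2 hnorm
  have hmem : pr'.φ s ∈ (R : Subgroup _) := by
    have h2 := R.is_maximal' hp' le_sup_left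
    rw [← h2]
    exact Subgroup.mem_sup_right (Subgroup.mem_zpowers _)
  have hd : pr'.φ s ∈ ((P.mapSurjective pr'.surj : Sylow p _) : Subgroup _) ⊓ R := ⟨⟨s, hs, rfl⟩, hmem⟩
  have hinf := pr'.quot.inf_sylow (P.mapSurjective pr'.surj) R (fun h => hne (by
    exact (congrArg Sylow.toSubgroup h).symm))
  have hd' : pr'.φ s = 1 := Subgroup.mem_bot.1 (hinf.le hd)
  exact inf_ker_le hE pr'.quot P ⟨hs, hd'⟩

theorem exists_negEl {T V N : Subgroup G} [V.Normal] [N.Normal] (hT : T = pCore p G)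
    (hb : Edge p (Fintype.card F) ⊤ E T V N) :
    ∃ z : G, (∀ v ∈ V, z * v * z⁻¹ * v ∈ N) ∧ ∀ g : G, ∀ v ∈ V, ⁅⁅z, g⁆, v⁆ ∈ N := by
  haveI : CharP F p := charP_of_card_eq_prime_pow pr'.hF
  have hVV : ⁅V, V⁆ ≤ N := by
    rw [Subgroup.commutator_eq_bot_iff_le_centralizer.2 hb.toSide.V_comm]; exact bot_le
  obtain ⟨h₀, hh₀⟩ := pr'.surj (Elation.pr F (wel 1))
  obtain ⟨ρ, ψ, hρ, hψ, -, hker, -⟩ := (vn_data hE pr' hh₀ hT hb hVV).exists_equiv
  let M1 : SL(2, F) := ⟨-1, by simp [Matrix.det_neg]⟩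
  have hc : ∀ B : SL(2, F), M1 * B * M1⁻¹ * B⁻¹ = 1 := fun B => by
    have e : M1 * B = B * M1 := Subtype.ext (by rw [val_mul, val_mul]; simp [M1])
    rw [e, mul_inv_cancel_right, mul_inv_cancel]
  obtain ⟨z, hz⟩ := hρ M1
  refine ⟨z, fun v hv => ?_, fun g v hv => ?_⟩
  · have hzv : z * v * z⁻¹ ∈ V := (inferInstance : V.Normal).conj_mem v hv z
    rw [← Sec.mk_eq_zero (h := hVV) (V.mul_mem hzv hv), Sec.mk_mul hzv hv, ← Sec.smul_mk z hv]
    refine ψ.injective ?_
    rw [map_add, hψ, hz, map_zero]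
    simp [M1, Matrix.neg_mulVec]
  · rw [← Sec.smul_eq_iff (h := hVV) _ hv]
    refine (hker _).1 ?_ _
    rw [map_commutatorElement, hz, commutatorElement_def]
    exact hc _

end CfsgLib.PushingUp.Family
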