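/-
Subgroups of largest measure relative to an edge group, and their transport between neighbouring edge groups.
-/
import Mathlib
import Cfsg.Agent.Lib.ChermakDelgado.Basic
import Cfsg.Agent.Lib.PushingUp.Twin

set_option autoImplicit false
set_option linter.unusedSectionVars false

namespace CfsgLib.PushingUp.Family

variable {X : Type*} [Group X]

local notation:max "𝐂(" R ")" => Subgroup.centralizer (SetLike.coe R)

local notation:max "𝐍(" R ")" => Subgroup.normalizer (SetLike.coe R)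

/-- The value of the measure at `E` itself. -/
noncomputable def msr (E : Subgroup X) : ℕ := Nat.card E * Nat.card ↥(E ⊓ 𝐂(E))

/-- `E` has the largest measure among its subgroups. -/
def IsPeak (E : Subgroup X) : Prop := ∀ Y ≤ E, Nat.card Y * Nat.card ↥(E ⊓ 𝐂(Y)) ≤ msr E

/-- `Y` is a subgroup of `E` of measure at least that of `E`. -/
def Lg (E Y : Subgroup X) : Prop := Y ≤ E ∧ msr E ≤ Nat.card Y * Nat.card ↥(E ⊓ 𝐂(Y))

theorem Lg.le {E Y : Subgroup X} (h : Lg E Y) : Y ≤ E := h.1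

theorem Lg.eq {E Y : Subgroup X} (hT : IsPeak E) (h : Lg E Y) :
    Nat.card Y * Nat.card ↥(E ⊓ 𝐂(Y)) = msr E := le_antisymm (hT Y h.1) h.2

theorem lg_self (E : Subgroup X) : Lg E E := ⟨le_rfl, le_rfl⟩

theorem inf_centralizer_sup (E A B : Subgroup X) :
    E ⊓ 𝐂(A ⊔ B) = (E ⊓ 𝐂(A)) ⊓ (E ⊓ 𝐂(B)) := by
  rw [CfsgLib.ChermakDelgado.centralizer_sup]
  exact le_antisymm (le_inf (inf_le_inf_left _ inf_le_left) (inf_le_inf_left _ inf_le_right))
    (le_inf (inf_le_left.trans inf_le_left) (le_inf (inf_le_left.trans inf_le_right) (inf_le_right.trans inf_le_right)))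

variable [Finite X]

theorem lg_pair {E A B : Subgroup X} (hT : IsPeak E) (hA : Lg E A) (hB : Lg E B) :
    Lg E (A ⊔ B) ∧ Lg E (A ⊓ B) ∧ Nat.card ↥(A ⊔ B) * Nat.card ↥(A ⊓ B) = Nat.card A * Nat.card B ∧
      E ⊓ 𝐂(A ⊓ B) = (E ⊓ 𝐂(A)) ⊔ (E ⊓ 𝐂(B)) := by
  have h1 := CfsgLib.LocalEvenSix.card_mul_card_le A B
  have h2 := CfsgLib.LocalEvenSix.card_mul_card_le (E ⊓ 𝐂(A)) (E ⊓ 𝐂(B))
  rw [← inf_centralizer_sup] at h2
  have hsub : (E ⊓ 𝐂(A)) ⊔ (E ⊓ 𝐂(B)) ≤ E ⊓ 𝐂(A ⊓ B) :=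
    sup_le (inf_le_inf_left _ (CfsgLib.ChermakDelgado.cent_mono inf_le_left))
      (inf_le_inf_left _ (CfsgLib.ChermakDelgado.cent_mono inf_le_right))
  have h3 := Subgroup.card_le_of_le hsub
  have hS : A ⊔ B ≤ E := sup_le hA.1 hB.1
  have hI : A ⊓ B ≤ E := inf_le_left.trans hA.1
  have hm1 := hT _ hS
  have hm2 := hT _ hI
  set f := msr E
  set a := Nat.card ↥(A ⊔ B)
  set b := Nat.card ↥(A ⊓ B)
  set a' := Nat.card ↥(E ⊓ 𝐂(A ⊔ B))
  set b' := Nat.card ↥(E ⊓ 𝐂(A ⊓ B))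
  set s := Nat.card ↥((E ⊓ 𝐂(A)) ⊔ (E ⊓ 𝐂(B)))
  have hf : 0 < f := Nat.mul_pos Nat.card_pos Nat.card_pos
  have hff : f * f ≤ (Nat.card A * Nat.card B) * (Nat.card ↥(E ⊓ 𝐂(A)) * Nat.card ↥(E ⊓ 𝐂(B))) := by
    calc f * f ≤ (Nat.card A * Nat.card ↥(E ⊓ 𝐂(A))) * (Nat.card B * Nat.card ↥(E ⊓ 𝐂(B))) :=
          Nat.mul_le_mul hA.2 hB.2
      _ = _ := by ring
  have hchain : f * f ≤ (a * b) * (s * a') := hff.trans (Nat.mul_le_mul h1 h2)
  have hchain2 : (a * b) * (s * a') ≤ (a * b) * (b' * a') := Nat.mul_le_mul_left _ (Nat.mul_le_mul_right _ h3)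
  have heq : (a * b) * (b' * a') = (a * a') * (b * b') := by ring
  have hA' : a * a' = f := by
    by_contra h
    have : (a * a') * (b * b') < f * f :=
      Nat.mul_lt_mul_of_lt_of_le (lt_of_le_of_ne hm1 h) hm2 hf
    omega
  have hB' : b * b' = f := by
    by_contra h
    have : (a * a') * (b * b') < f * f :=
      Nat.mul_lt_mul_of_le_of_lt hm1 (lt_of_le_of_ne hm2 h) hf
    omega
  have hall : (a * b) * (b' * a') = f * f := by rw [heq, hA', hB']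
  have ha'b' : 0 < b' * a' := Nat.mul_pos Nat.card_pos Nat.card_pos
  refine ⟨⟨hS, hA'.ge⟩, ⟨hI, hB'.ge⟩, ?_, ?_⟩
  · refine le_antisymm ?_ h1
    refine Nat.le_of_mul_le_mul_right (c := b' * a') ?_ ha'b'
    rw [hall]
    exact hff.trans (Nat.mul_le_mul_left _ (h2.trans (Nat.mul_le_mul_right _ h3)))
  · refine (Subgroup.eq_of_le_of_card_ge hsub ?_).symm
    have hab : 0 < a * b := Nat.mul_pos Nat.card_pos Nat.card_pos
    have h4 : (a * b) * (b' * a') ≤ (a * b) * (s * a') := hall ▸ hchain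
    exact Nat.le_of_mul_le_mul_right (Nat.le_of_mul_le_mul_left h4 hab) Nat.card_pos

theorem Lg.sup {E A B : Subgroup X} (hA : Lg E A) (hT : IsPeak E) (hB : Lg E B) : Lg E (A ⊔ B) :=
  (lg_pair hT hA hB).1

theorem Lg.inf {E A B : Subgroup X} (hA : Lg E A) (hT : IsPeak E) (hB : Lg E B) : Lg E (A ⊓ B) :=
  (lg_pair hT hA hB).2.1

theorem Lg.sup_iSup {E A : Subgroup X} (hA : Lg E A) (hT : IsPeak E) {κ : Sort*} {f : κ → Subgroup X}
    (hf : ∀ k, Lg E (f k)) : Lg E (A ⊔ ⨆ k, f k) := by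
  obtain ⟨M, ⟨hM, hMs, hAM⟩, hmax⟩ := (inferInstance : WellFoundedGT (Subgroup X)).wf.has_min
    {M : Subgroup X | Lg E M ∧ M ≤ A ⊔ ⨆ k, f k ∧ A ≤ M} ⟨A, hA, le_sup_left, le_rfl⟩
  have hle : A ⊔ ⨆ k, f k ≤ M := sup_le hAM (iSup_le fun k => by
    by_contra hcon
    exact hmax (M ⊔ f k) ⟨hM.sup hT (hf k), sup_le hMs ((le_iSup f k).trans le_sup_right), hAM.trans le_sup_left⟩
      (left_lt_sup.2 hcon))
  rwa [le_antisymm hle hMs]

theorem Lg.cent {E A : Subgroup X} (hA : Lg E A) (hT : IsPeak E) :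
    Lg E (E ⊓ 𝐂(A)) ∧ E ⊓ 𝐂(E ⊓ 𝐂(A)) = A := by
  have hsub : A ≤ E ⊓ 𝐂(E ⊓ 𝐂(A)) := le_inf hA.1 (Subgroup.le_centralizer_iff.1 inf_le_right)
  have h1 := Subgroup.card_le_of_le hsub
  have h2 := hT (E ⊓ 𝐂(A)) inf_le_left
  have h3 := hA.eq hT
  refine ⟨⟨inf_le_left, ?_⟩, (Subgroup.eq_of_le_of_card_ge hsub ?_).symm⟩
  · rw [← h3, mul_comm]
    exact Nat.mul_le_mul_left _ h1
  · refine Nat.le_of_mul_le_mul_left ?_ (Nat.card_pos (α := ↥(E ⊓ 𝐂(A))))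
    rw [mul_comm _ (Nat.card A), h3]
    exact h2

/-- A subgroup of largest measure whose centralizer lies in a second edge group. -/
theorem Lg.transport {E E' A : Subgroup X} (hA : Lg E A) (h : msr E' = msr E) (hAE : A ≤ E')
    (hC : E ⊓ 𝐂(A) ≤ E') : Lg E' A :=
  ⟨hAE, (h.le.trans hA.2).trans (Nat.mul_le_mul_left _ (Subgroup.card_le_of_le (le_inf hC inf_le_right)))⟩

/-- An abelian subgroup of the largest possible order is its own centralizer. -/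
theorem lg_abelian {E A : Subgroup X} (hT : IsPeak E) (hAE : A ≤ E) (hAc : A ≤ 𝐂(A))
    (hcard : Nat.card A * Nat.card A = msr E) : Lg E A ∧ E ⊓ 𝐂(A) = A := by
  have hsub : A ≤ E ⊓ 𝐂(A) := le_inf hAE hAc
  have h1 := Subgroup.card_le_of_le hsub
  refine ⟨⟨hAE, hcard ▸ Nat.mul_le_mul_left _ h1⟩, (Subgroup.eq_of_le_of_card_ge hsub ?_).symm⟩
  refine Nat.le_of_mul_le_mul_left ?_ (Nat.card_pos (α := A))
  rw [hcard]
  exact hT A hAE

/-- The two indices cut out by a large abelian subgroup agree. -/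
theorem Lg.card_cut {E A Y : Subgroup X} (hY : Lg E Y) (hT : IsPeak E) (hA : Lg E A) (hAc : E ⊓ 𝐂(A) = A) :
    Nat.card Y * Nat.card ↥(A ⊓ (E ⊓ 𝐂(Y))) = Nat.card ↥(A ⊓ Y) * Nat.card A := by
  obtain ⟨hs, -, hcard, -⟩ := lg_pair hT hY hA
  have h1 := hs.eq hT
  rw [inf_centralizer_sup, hAc, inf_comm (E ⊓ 𝐂(Y)) A, ← hA.eq hT, hAc] at h1
  rw [inf_comm Y A] at hcard
  refine Nat.eq_of_mul_eq_mul_left (Nat.card_pos (α := A)) ?_
  calc Nat.card A * (Nat.card Y * Nat.card ↥(A ⊓ (E ⊓ 𝐂(Y))))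
      = (Nat.card Y * Nat.card A) * Nat.card ↥(A ⊓ (E ⊓ 𝐂(Y))) := by ring
    _ = Nat.card ↥(A ⊓ Y) * (Nat.card ↥(Y ⊔ A) * Nat.card ↥(A ⊓ (E ⊓ 𝐂(Y)))) := by rw [← hcard]; ring
    _ = _ := by rw [h1]; ring

end CfsgLib.PushingUp.Family

namespace CfsgLib.PushingUp.Side

open CfsgLib.PushingUp.Family

variable {X : Type*} [Group X] [Finite X] {p q : ℕ} {E T V : Subgroup X}

theorem peak (h : Side p q E T V) : IsPeak E := fun Y hY => (h.measure Y hY).trans h.card_pair.le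

theorem lg_V (h : Side p q E T V) : Lg E V :=
  ⟨h.V_le_E, by rw [h.CV, mul_comm]; exact h.card_pair.ge⟩

theorem lg_T (h : Side p q E T V) : Lg E T := ⟨h.T_le, by rw [h.CT]; exact h.card_pair.ge⟩

theorem derived_le (h : Side p q E T V) : ⁅E, E⁆ ≤ T := by
  refine le_trans (le_inf (Subgroup.commutator_le_self E) ?_) h.CV.le
  rw [← Subgroup.commutator_eq_bot_iff_le_centralizer]
  have h1 : ⁅⁅V, E⁆, E⁆ = ⊥ :=
    Subgroup.commutator_eq_bot_iff_le_centralizer.2 (h.comm.trans inf_le_right)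
  exact Subgroup.commutator_commutator_eq_bot_of_rotate (by rw [Subgroup.commutator_comm E V]; exact h1) h1

end CfsgLib.PushingUp.Side
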