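/-
The coset graph of a finite family of groups sharing one edge group: incidence, walks, critical walks.
-/
import Mathlib
import Cfsg.Agent.Lib.PushingUp.Graph
import Cfsg.Agent.Lib.PushingUp.Family.Large

set_option autoImplicit false
set_option linter.style.haveILetI false
set_option linter.unusedSectionVars false

open scoped commutatorElement

namespace CfsgLib.PushingUp.Family

variable {Ω : Type*} [Group Ω] {ι : Type*}

local notation:max "𝐂(" R ")" => Subgroup.centralizer (SetLike.coe R)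

local notation:max "𝐍(" R ")" => Subgroup.normalizer (SetLike.coe R)

/-- The data of the family. -/
structure Amb (p : ℕ) (q : ι → ℕ) (H : ι → Subgroup Ω) (S₀ : Subgroup Ω) (T V N : ι → Subgroup Ω)
    (W : ι → Set Ω) : Prop where
  nonempty : Nonempty ι
  edge : ∀ i, Edge p (q i) (H i) S₀ (T i) (V i) (N i)
  W_mem : ∀ i, ∀ h ∈ W i, h ∈ H i
  W_gen : ∀ i, ∀ h ∈ W i, H i ≤ S₀ ⊔ cjg h S₀
  W_ne : ∀ i, (W i).Nonempty
  norm : ∀ i, ∀ g ∈ H i, H i ≤ S₀ ⊔ cjg g S₀ → ∃ s ∈ S₀, ∃ h ∈ W i, cjg (s * g) S₀ = cjg h S₀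
  reg : ∀ i, ∀ g ∈ H i, H i ≤ S₀ ⊔ cjg g S₀ → ∀ s ∈ S₀, s ∉ T i → H i ≤ cjg g S₀ ⊔ cjg (s * g) S₀
  syl : ∀ i, ∀ P : Subgroup Ω, P ≤ H i → IsPGroup p P → ∃ g ∈ H i, P ≤ cjg g S₀
  negEl : p ≠ 2 → ∀ i, ∃ z ∈ H i, (∀ v ∈ V i, z * v * z⁻¹ * v ∈ N i) ∧
    ∀ g ∈ H i, ∀ v ∈ V i, ⁅⁅z, g⁆, v⁆ ∈ N i
  big : ∀ i, ∃ A ≤ S₀, A ≤ 𝐂(A) ∧ Nat.card A * Nat.card A = msr S₀ ∧ ¬ A ≤ T i
  hd : ∀ C ≤ S₀, Lg S₀ C → S₀ ⊓ 𝐂(C) ≤ C → ∃ i, ∃ ω ∈ 𝐍(S₀), ¬ cjg ω (H i) ≤ 𝐍(C)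

/-- The subgroup attached to a vertex. -/
def at' (K : ι → Subgroup Ω) (v : ι × Ω) : Subgroup Ω := cjg v.2 (K v.1)

/-- Translation of a vertex. -/
def tr (a : Ω) (v : ι × Ω) : ι × Ω := (v.1, a * v.2)

theorem at_tr (K : ι → Subgroup Ω) (a : Ω) (v : ι × Ω) : at' K (tr a v) = cjg a (at' K v) :=
  (cjg_cjg a v.2 (K v.1)).symm

theorem tr_tr (a b : Ω) (v : ι × Ω) : tr a (tr b v) = tr (a * b) v := by
  simp [tr, mul_assoc]

theorem tr_one (v : ι × Ω) : tr 1 v = v := by simp [tr]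

theorem cjg_inj {a : Ω} {K L : Subgroup Ω} : cjg a K ≤ cjg a L ↔ K ≤ L :=
  Subgroup.map_le_map_iff_of_injective (MulEquiv.injective _)

theorem card_cjg (a : Ω) (K : Subgroup Ω) : Nat.card (cjg a K) = Nat.card K :=
  Subgroup.card_map_of_injective (MulEquiv.injective _)

theorem cjg_inf (a : Ω) (K L : Subgroup Ω) : cjg a (K ⊓ L) = cjg a K ⊓ cjg a L :=
  Subgroup.map_inf _ _ _ (MulEquiv.injective _)

theorem msr_cjg (a : Ω) (K : Subgroup Ω) : msr (cjg a K) = msr K := by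
  unfold msr
  rw [← cjg_centralizer, ← cjg_inf, card_cjg, card_cjg]

theorem cjg_le_of_le {a : Ω} {K L : Subgroup Ω} (h : cjg a K ≤ L) : K ≤ cjg a⁻¹ L := by
  rw [← cjg_inj (a := a), cjg_cjg, mul_inv_cancel, cjg_one]; exact h

variable (H : ι → Subgroup Ω) (S₀ : Subgroup Ω)

/-- Incidence of a vertex with an edge group. -/
def Inc (v : ι × Ω) (E : Subgroup Ω) : Prop := ∃ g ∈ H v.1, E = cjg (v.2 * g) S₀

/-- Two edges at a vertex generating its group. -/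
def Opp (v : ι × Ω) (E E' : Subgroup Ω) : Prop := Inc H S₀ v E ∧ Inc H S₀ v E' ∧ at' H v ≤ E ⊔ E'

/-- A walk of length `n`. -/
def Walk (n : ℕ) (w : ℕ → ι × Ω) (e : ℕ → Subgroup Ω) : Prop :=
  ∀ i, i < n → Inc H S₀ (w i) (e i) ∧ Inc H S₀ (w (i + 1)) (e i)

/-- Connected vertices. -/
def Conn (v v' : ι × Ω) : Prop := ∃ n w e, Walk H S₀ n w e ∧ w 0 = v ∧ w n = v'

variable (V : ι → Subgroup Ω)

/-- The small members at distance less than `n` commute. -/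
def Comm (n : ℕ) : Prop :=
  ∀ m, m < n → ∀ w e, Walk H S₀ m w e → at' V (w 0) ≤ 𝐂(at' V (w m))

/-- A critical walk. -/
def Crit (b : ℕ) (w : ℕ → ι × Ω) (e : ℕ → Subgroup Ω) : Prop :=
  Walk H S₀ b w e ∧ ¬ at' V (w 0) ≤ 𝐂(at' V (w b))

variable {H S₀ V}

theorem inc_translate {v : ι × Ω} {a : Ω} {E : Subgroup Ω} (h : Inc H S₀ v E) : Inc H S₀ (tr a v) (cjg a E) := by
  obtain ⟨g, hg, rfl⟩ := h
  exact ⟨g, hg, by simp [tr, cjg_cjg, mul_assoc]⟩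

theorem opp_translate {v : ι × Ω} {a : Ω} {E E' : Subgroup Ω} (h : Opp H S₀ v E E') :
    Opp H S₀ (tr a v) (cjg a E) (cjg a E') :=
  ⟨inc_translate h.1, inc_translate h.2.1, by rw [at_tr, ← cjg_sup]; exact cjg_mono h.2.2⟩

theorem Opp.symm {v : ι × Ω} {E E' : Subgroup Ω} (h : Opp H S₀ v E E') : Opp H S₀ v E' E :=
  ⟨h.2.1, h.1, sup_comm E E' ▸ h.2.2⟩

theorem inc_base {i : ι} {ω : Ω} (hω : ω ∈ 𝐍(S₀)) : Inc H S₀ (i, ω) S₀ :=
  ⟨1, (H i).one_mem, by rw [mul_one, cjg_of_mem hω]⟩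

theorem Walk.rev {n : ℕ} {w : ℕ → ι × Ω} {e : ℕ → Subgroup Ω} (h : Walk H S₀ n w e) :
    Walk H S₀ n (fun i => w (n - i)) (fun i => e (n - 1 - i)) := by
  intro i hi
  have h1 := h (n - 1 - i) (by omega)
  rw [show n - 1 - i + 1 = n - i by omega] at h1
  show Inc H S₀ (w (n - i)) _ ∧ Inc H S₀ (w (n - (i + 1))) _
  rw [show n - (i + 1) = n - 1 - i by omega]
  exact ⟨h1.2, h1.1⟩

theorem Conn.symm {v v' : ι × Ω} (h : Conn H S₀ v v') : Conn H S₀ v' v := by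
  obtain ⟨n, w, e, hw, h0, hn⟩ := h
  exact ⟨n, _, _, hw.rev, by simpa using hn, by simpa using h0⟩

theorem Conn.trans {u v v' : ι × Ω} (h : Conn H S₀ u v) (h' : Conn H S₀ v v') : Conn H S₀ u v' := by
  obtain ⟨n, w, e, hw, h0, hn⟩ := h
  obtain ⟨m, w', e', hw', h0', hm⟩ := h'
  refine ⟨n + m, fun i => if i ≤ n then w i else w' (i - n), fun i => if i < n then e i else e' (i - n), ?_, ?_, ?_⟩
  · intro i hi
    rcases Nat.lt_or_ge i n with hlt | hge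
    · simp only [show i ≤ n by omega, show i + 1 ≤ n by omega, if_true, hlt]
      exact hw i hlt
    · have h1 := hw' (i - n) (by omega)
      simp only [show ¬ i < n by omega, show ¬ i + 1 ≤ n by omega, if_false, show i + 1 - n = i - n + 1 by omega]
      rcases Nat.eq_or_lt_of_le hge with rfl | hgt
      · simp only [le_refl, if_true, Nat.sub_self] at h1 ⊢
        rw [hn, ← h0']
        exact h1
      · simp only [show ¬ i ≤ n by omega, if_false]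
        exact h1
  · simp [h0]
  · rcases Nat.eq_zero_or_pos m with rfl | hpos
    · simp only [Nat.add_zero, le_refl, if_true, hn, ← hm, h0']
    · simp only [show ¬ n + m ≤ n by omega, if_false, Nat.add_sub_cancel_left, hm]

theorem conn_of_inc {u v : ι × Ω} {E : Subgroup Ω} (hu : Inc H S₀ u E) (hv : Inc H S₀ v E) : Conn H S₀ u v :=
  ⟨1, fun i => if i = 0 then u else v, fun _ => E, fun i hi => by
    obtain rfl : i = 0 := by omega
    exact ⟨hu, hv⟩, rfl, rfl⟩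

theorem Conn.translate {u v : ι × Ω} (a : Ω) (h : Conn H S₀ u v) : Conn H S₀ (tr a u) (tr a v) := by
  obtain ⟨n, w, e, hw, h0, hn⟩ := h
  exact ⟨n, fun i => tr a (w i), fun i => cjg a (e i),
    fun i hi => ⟨inc_translate (hw i hi).1, inc_translate (hw i hi).2⟩, by simp [h0], by simp [hn]⟩

namespace Amb

variable [Finite Ω] {p : ℕ} {q : ι → ℕ} {T N : ι → Subgroup Ω} {W : ι → Set Ω}
  (A : Amb p q H S₀ T V N W)

local notation "Hx" v => at' H v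
local notation "Tx" v => at' T v
local notation "Vx" v => at' V v
local notation "Nx" v => at' N v

include A

theorem edge_at {v : ι × Ω} {E : Subgroup Ω} (h : Inc H S₀ v E) :
    Edge p (q v.1) (Hx v) E (Tx v) (Vx v) (Nx v) := by
  obtain ⟨i, a⟩ := v
  obtain ⟨g, hg, rfl⟩ := h
  have e := (A.edge i).map (f := (MulAut.conj (a * g)).toMonoidHom) (MulEquiv.injective _)
  change Edge p (q i) (cjg (a * g) (H i)) (cjg (a * g) S₀) (cjg (a * g) (T i)) (cjg (a * g) (V i))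
    (cjg (a * g) (N i)) at e
  have hN : g ∈ 𝐍(N i) := by
    rw [(A.edge i).N_eq]
    refine Subgroup.mem_normalizer_iff.2 fun y => ?_
    have hc : ∀ {g : Ω}, g ∈ H i → ∀ y, y ∈ V i ⊓ 𝐂(H i) → g * y * g⁻¹ ∈ V i ⊓ 𝐂(H i) := fun {g} hg y hy => by
      rw [Subgroup.mem_centralizer_iff.1 hy.2 g hg, mul_inv_cancel_right]; exact hy
    refine ⟨hc hg y, fun hy => ?_⟩
    have h2 := hc ((H i).inv_mem hg) _ hy
    simpa [mul_assoc] using h2
  rw [← cjg_cjg a g (H i), ← cjg_cjg a g (T i), ← cjg_cjg a g (V i), ← cjg_cjg a g (N i),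
    cjg_of_mem (Subgroup.le_normalizer hg), cjg_of_mem ((A.edge i).H_nT hg), cjg_of_mem ((A.edge i).H_nV hg),
    cjg_of_mem hN] at e
  exact e

theorem card_edge {v : ι × Ω} {E : Subgroup Ω} (h : Inc H S₀ v E) : Nat.card E = Nat.card S₀ := by
  obtain ⟨g, -, rfl⟩ := h
  exact card_cjg _ _

theorem msr_edge {v : ι × Ω} {E : Subgroup Ω} (h : Inc H S₀ v E) : msr E = msr S₀ := by
  obtain ⟨g, -, rfl⟩ := h
  exact msr_cjg _ _

theorem mover {v : ι × Ω} {E E' : Subgroup Ω} (h : Inc H S₀ v E) (h' : Inc H S₀ v E') :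
    ∃ γ ∈ Hx v, cjg γ E = E' := by
  obtain ⟨g, hg, rfl⟩ := h
  obtain ⟨g', hg', rfl⟩ := h'
  refine ⟨v.2 * (g' * g⁻¹) * v.2⁻¹, conj_mem_cjg ((H v.1).mul_mem hg' ((H v.1).inv_mem hg)), ?_⟩
  rw [cjg_cjg]
  congr 1
  group

theorem tr_mem {v : ι × Ω} {γ : Ω} (hγ : γ ∈ Hx v) :
    cjg γ (Hx v) = (Hx v) ∧ cjg γ (Tx v) = (Tx v) ∧ cjg γ (Vx v) = (Vx v) := by
  have E := A.edge_at (v := v) ⟨1, (H v.1).one_mem, rfl⟩
  exact ⟨cjg_of_mem (Subgroup.le_normalizer hγ), cjg_of_mem (E.H_nT hγ), cjg_of_mem (E.H_nV hγ)⟩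

/-- An element of the vertex group moves an edge to an edge at the same vertex. -/
theorem inc_move {v : ι × Ω} {E : Subgroup Ω} {γ : Ω} (h : Inc H S₀ v E) (hγ : γ ∈ Hx v) :
    Inc H S₀ v (cjg γ E) := by
  obtain ⟨g, hg, rfl⟩ := h
  obtain ⟨k, hk, rfl⟩ := hγ
  refine ⟨k * g, (H v.1).mul_mem hk hg, ?_⟩
  rw [cjg_cjg]
  congr 1
  simp [mul_assoc]

theorem opp_move {v : ι × Ω} {E E' : Subgroup Ω} {γ : Ω} (h : Opp H S₀ v E E') (hγ : γ ∈ Hx v) :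
    Opp H S₀ v (cjg γ E) (cjg γ E') := by
  refine ⟨A.inc_move h.1 hγ, A.inc_move h.2.1 hγ, ?_⟩
  rw [← cjg_sup]
  exact (A.tr_mem hγ).1.ge.trans (cjg_mono h.2.2)

theorem exists_opp {v : ι × Ω} {E : Subgroup Ω} (h : Inc H S₀ v E) : ∃ E', Opp H S₀ v E E' := by
  obtain ⟨i, a⟩ := v
  obtain ⟨g, hg, rfl⟩ := h
  obtain ⟨w, hw⟩ := A.W_ne i
  refine ⟨cjg (a * g * w) S₀, ⟨g, hg, rfl⟩, ⟨g * w, (H i).mul_mem hg (A.W_mem i w hw), ?_⟩, ?_⟩
  · rw [mul_assoc]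
  · have h1 := cjg_mono (a := a * g) (A.W_gen i w hw)
    rw [cjg_sup, cjg_cjg, ← cjg_cjg a g (H i), cjg_of_mem (Subgroup.le_normalizer hg)] at h1
    exact h1

theorem reg_at {v : ι × Ω} {E E' : Subgroup Ω} (h : Opp H S₀ v E E') {s : Ω} (hs : s ∈ E)
    (hsT : s ∉ Tx v) : Opp H S₀ v E' (cjg s E') := by
  have hsH : s ∈ Hx v := (A.edge_at h.1).E_le hs
  refine ⟨h.2.1, A.inc_move h.2.1 hsH, ?_⟩
  obtain ⟨i, a⟩ := v
  obtain ⟨⟨g, hg, rfl⟩, ⟨g', hg', rfl⟩, hgen⟩ := h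
  set c := a * g with hc
  obtain ⟨s₀, hs₀, rfl⟩ := hs
  have hH : cjg c (H i) = at' H (i, a) := by
    rw [hc, ← cjg_cjg, cjg_of_mem (Subgroup.le_normalizer hg)]; rfl
  have hT : cjg c (T i) = at' T (i, a) := by
    rw [hc, ← cjg_cjg, cjg_of_mem ((A.edge i).H_nT hg)]; rfl
  have hs₀T : s₀ ∉ T i := fun h => hsT (hT ▸ conj_mem_cjg h)
  have h1 : H i ≤ S₀ ⊔ cjg (g⁻¹ * g') S₀ := by
    rw [← cjg_inj (a := c), hH, cjg_sup, cjg_cjg, show c * (g⁻¹ * g') = a * g' by rw [hc]; group]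
    exact hgen
  have h2 := cjg_mono (a := c) (A.reg i _ ((H i).mul_mem ((H i).inv_mem hg) hg') h1 s₀ hs₀ hs₀T)
  rw [hH, cjg_sup, cjg_cjg, cjg_cjg, show c * (g⁻¹ * g') = a * g' by rw [hc]; group,
    show c * (s₀ * (g⁻¹ * g')) = (c * s₀ * c⁻¹) * (a * g') by rw [hc]; group, ← cjg_cjg (c * s₀ * c⁻¹)] at h2
  exact h2

theorem norm_at {v : ι × Ω} {E E' : Subgroup Ω} (h : Opp H S₀ v E E') :
    ∃ a : Ω, ∃ w ∈ W v.1, cjg a E = S₀ ∧ cjg a E' = cjg w S₀ ∧ cjg a (Hx v) = H v.1 ∧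
      cjg a (Tx v) = T v.1 ∧ cjg a (Vx v) = V v.1 := by
  obtain ⟨i, c⟩ := v
  obtain ⟨⟨g, hg, rfl⟩, ⟨g', hg', rfl⟩, hgen⟩ := h
  have h1 : H i ≤ S₀ ⊔ cjg (g⁻¹ * g') S₀ := by
    rw [← cjg_inj (a := c * g), ← cjg_cjg c g, cjg_of_mem (Subgroup.le_normalizer hg), cjg_sup, cjg_cjg,
      show c * g * (g⁻¹ * g') = c * g' by group]
    exact hgen
  obtain ⟨s, hs, w, hw, e⟩ := A.norm i _ ((H i).mul_mem ((H i).inv_mem hg) hg') h1
  have hsg : s * g⁻¹ ∈ H i := (H i).mul_mem ((A.edge i).E_le hs) ((H i).inv_mem hg)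
  refine ⟨s * (c * g)⁻¹, w, hw, ?_, ?_, ?_, ?_, ?_⟩
  · rw [cjg_cjg, inv_mul_cancel_right, cjg_of_mem (Subgroup.le_normalizer hs)]
  · rw [cjg_cjg, ← e]; congr 1; group
  all_goals
    show cjg _ (cjg c _) = _
    rw [cjg_cjg, show s * (c * g)⁻¹ * c = s * g⁻¹ by group]
  · exact cjg_of_mem (Subgroup.le_normalizer hsg)
  · exact cjg_of_mem ((A.edge i).H_nT hsg)
  · exact cjg_of_mem ((A.edge i).H_nV hsg)

theorem exists_le_edge {v : ι × Ω} {P : Subgroup Ω} (hP : P ≤ Hx v) (hp : IsPGroup p P) :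
    ∃ E, Inc H S₀ v E ∧ P ≤ E := by
  obtain ⟨i, a⟩ := v
  obtain ⟨g, hg, hle⟩ := A.syl i (cjg a⁻¹ P) (by
    rw [← cjg_inj (a := a), cjg_cjg, mul_inv_cancel, cjg_one]; exact hP) (hp.map _)
  refine ⟨cjg (a * g) S₀, ⟨g, hg, rfl⟩, ?_⟩
  rw [← cjg_cjg, ← cjg_inj (a := a⁻¹), cjg_cjg a⁻¹ a, inv_mul_cancel, cjg_one]
  exact hle

/-- Two edges inside a subgroup of the vertex group are conjugate there. -/
theorem conj_in [hp : Fact p.Prime] {v : ι × Ω} {E E' K : Subgroup Ω} (h : Inc H S₀ v E) (h' : Inc H S₀ v E')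
    (hK : K ≤ Hx v) (hE : E ≤ K) (hE' : E' ≤ K) : ∃ γ ∈ K, cjg γ E' = E := by
  have key : ∀ {E : Subgroup Ω}, Inc H S₀ v E → E ≤ K → ∃ P : Sylow p ↥K, (P : Subgroup ↥K).map K.subtype = E := by
    intro E h hE
    obtain ⟨P, hP⟩ := ((A.edge_at h).isP.of_equiv (Subgroup.subgroupOfEquivOfLe hE).symm).exists_le_sylow
    refine ⟨P, ?_⟩
    have h1 : E ≤ (P : Subgroup ↥K).map K.subtype := fun x hx => ⟨⟨x, hE hx⟩, hP hx, rfl⟩
    obtain ⟨F, hF, hle⟩ := A.exists_le_edge ((Subgroup.map_subtype_le _).trans hK) (P.2.map K.subtype)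
    refine (Subgroup.eq_of_le_of_card_ge h1 ?_).symm
    rw [A.card_edge h, ← A.card_edge hF]
    exact Subgroup.card_le_of_le hle
  obtain ⟨P, rfl⟩ := key h hE
  obtain ⟨P', rfl⟩ := key h' hE'
  obtain ⟨γ, rfl⟩ := MulAction.exists_smul_eq K P' P
  refine ⟨γ, γ.2, ?_⟩
  rw [sylow_smul_eq_map, cjg, Subgroup.map_map, Subgroup.map_map]
  congr 1

theorem big_at {v : ι × Ω} {E : Subgroup Ω} (h : Inc H S₀ v E) :
    ∃ A' : Subgroup Ω, A' ≤ E ∧ A' ≤ 𝐂(A') ∧ Nat.card A' * Nat.card A' = msr E ∧ ¬ A' ≤ Tx v := by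
  obtain ⟨i, a⟩ := v
  have hm := A.msr_edge h
  obtain ⟨g, hg, rfl⟩ := h
  obtain ⟨A₀, hA₀, hAc, hcard, hT⟩ := A.big i
  refine ⟨cjg (a * g) A₀, cjg_mono hA₀, ?_, ?_, fun h => hT ?_⟩
  · rw [← cjg_centralizer]; exact cjg_mono hAc
  · rw [card_cjg, hcard, hm]
  · change cjg (a * g) A₀ ≤ cjg a (T i) at h
    rw [← cjg_cjg, cjg_inj] at h
    rw [← cjg_inj (a := g), cjg_of_mem ((A.edge i).H_nT hg)]
    exact h

theorem negEl_at (hp2 : p ≠ 2) (v : ι × Ω) :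
    ∃ z ∈ Hx v, (∀ x ∈ Vx v, z * x * z⁻¹ * x ∈ Nx v) ∧ ∀ g ∈ Hx v, ∀ x ∈ Vx v, ⁅⁅z, g⁆, x⁆ ∈ Nx v := by
  obtain ⟨i, a⟩ := v
  obtain ⟨z, hz, h1, h2⟩ := A.negEl hp2 i
  refine ⟨a * z * a⁻¹, conj_mem_cjg hz, ?_, ?_⟩
  · rintro _ ⟨x, hx, rfl⟩
    refine ⟨_, h1 x hx, ?_⟩
    simp only [MulEquiv.coe_toMonoidHom, MulAut.conj_apply]
    group
  · rintro _ ⟨g, hg, rfl⟩ _ ⟨x, hx, rfl⟩
    refine ⟨_, h2 g hg x hx, ?_⟩
    simp only [MulEquiv.coe_toMonoidHom, MulAut.conj_apply, commutatorElement_def]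
    group

/-- Passing a large subgroup across a vertex. -/
theorem lg_cross {v : ι × Ω} {E E' Y : Subgroup Ω} (h : Inc H S₀ v E) (h' : Inc H S₀ v E') (hY : Lg E Y)
    (hV : (Vx v) ≤ Y) (hYE : Y ≤ E') : Lg E' Y := by
  refine hY.transport (by rw [A.msr_edge h', A.msr_edge h]) hYE ?_
  refine (inf_le_inf_left E (Subgroup.centralizer_le (SetLike.coe_subset_coe.2 hV))).trans ?_
  rw [(A.edge_at h).CV]
  exact (A.edge_at h').T_le

theorem reach {b : ℕ} (hC : Comm H S₀ V b) :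
    ∀ n, 1 ≤ n → n ≤ b → ∀ w e, Walk H S₀ n w e → (Vx (w 0)) ≤ e (n - 1) := by
  intro n
  induction n with
  | zero => omega
  | succ n ih =>
    intro _ hn w e hw
    show (Vx (w 0)) ≤ e n
    rcases Nat.eq_zero_or_pos n with rfl | hpos
    · exact (A.edge_at (hw 0 (by omega)).1).toSide.V_le_E
    have h1 := ih hpos (by omega) w e (fun i hi => hw i (by omega))
    have h2 := hC n (by omega) w e (fun i hi => hw i (by omega))
    have hE := A.edge_at (hw (n - 1) (by omega)).2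
    rw [Nat.sub_add_cancel hpos] at hE
    exact ((le_inf h1 h2).trans hE.CV.le).trans (A.edge_at (hw n (by omega)).1).T_le

theorem exists_crit : ∃ b w e, 1 ≤ b ∧ Comm H S₀ V b ∧ Crit H S₀ V b w e := by
  classical
  have hex : ∃ n w e, Crit H S₀ V n w e := by
    by_contra hno
    push Not at hno
    have hC : ∀ b, Comm H S₀ V b := fun b m _ w e hw => by
      by_contra h
      exact hno m w e ⟨hw, h⟩
    have hconn : ∀ {u v}, Conn H S₀ u v → (Vx u) ≤ 𝐂(Vx v) := by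
      rintro u v ⟨n, w, e, hw, rfl, rfl⟩
      exact hC (n + 1) n (by omega) w e hw
    obtain ⟨j₀⟩ := A.nonempty
    set R : Set (ι × Ω) := {v | Conn H S₀ v (j₀, 1)}
    have hbase : ∀ i : ι, ∀ ω ∈ 𝐍(S₀), (i, ω) ∈ R := fun i ω hω =>
      conn_of_inc (inc_base hω) (inc_base (Subgroup.one_mem _))
    set Y := ⨆ v : R, (Vx (v : ι × Ω)) with hY
    have hYS : Y ≤ S₀ := by
      refine iSup_le fun ⟨v, n, w, e, hw, hv, hn⟩ => ?_
      show (Vx v) ≤ S₀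
      subst hv
      rcases Nat.eq_zero_or_pos n with rfl | hpos
      · rw [hn]
        exact (A.edge_at (inc_base (i := j₀) (Subgroup.one_mem 𝐍(S₀)))).toSide.V_le_E
      have h1 := A.reach (hC (n + 1)) n hpos (by omega) w e hw
      have h2 := hC (n + 1) n (by omega) w e hw
      have hE := A.edge_at (hw (n - 1) (by omega)).2
      rw [Nat.sub_add_cancel hpos, hn] at hE
      rw [hn] at h2
      exact (le_inf h1 h2).trans (hE.CV.le.trans (A.edge_at (inc_base (Subgroup.one_mem _))).T_le)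
    have hYc : Y ≤ 𝐂(Y) := by
      refine iSup_le fun u => Subgroup.le_centralizer_iff.1 (iSup_le fun v => ?_)
      exact hconn (Conn.trans v.2 (Conn.symm u.2))
    have hT : IsPeak S₀ := (A.edge j₀).toSide.peak
    have hVY : ∀ i : ι, ∀ ω ∈ 𝐍(S₀), (Vx (i, ω)) ≤ Y := fun i ω hω =>
      le_iSup (fun v : R => (Vx (v : ι × Ω))) ⟨_, hbase i ω hω⟩
    set M := (Vx (j₀, (1 : Ω))) ⊔ ⨆ M : {M : Subgroup Ω // Lg S₀ M ∧ M ≤ Y}, (M : Subgroup Ω) with hM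
    have hMl : Lg S₀ M :=
      ((A.edge_at (inc_base (Subgroup.one_mem _))).toSide.lg_V).sup_iSup hT fun M => M.2.1
    have hMY : M ≤ Y := sup_le (hVY _ _ (Subgroup.one_mem _)) (iSup_le fun M => M.2.2)
    have hle : ∀ {Z}, Lg S₀ Z → Z ≤ Y → Z ≤ M := fun {Z} h1 h2 =>
      (le_iSup (fun M : {M : Subgroup Ω // Lg S₀ M ∧ M ≤ Y} => (M : Subgroup Ω)) ⟨Z, h1, h2⟩).trans le_sup_right
    obtain ⟨hCl, hCC⟩ := hMl.cent hT
    obtain ⟨i, ω, hω, hn⟩ := A.hd (S₀ ⊓ 𝐂(M)) inf_le_left hCl (by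
      rw [hCC]; exact le_inf hMl.le ((hMY.trans hYc).trans (Subgroup.centralizer_le (SetLike.coe_subset_coe.2 hMY))))
    set u : ι × Ω := (i, ω)
    have hu : Inc H S₀ u S₀ := inc_base hω
    have Eu := A.edge_at hu
    have hVu : (Vx u) ≤ M := hle Eu.toSide.lg_V (hVY i ω hω)
    have hMn : (Hx u) ≤ 𝐍(M) := by
      have hle' : ∀ γ ∈ Hx u, cjg γ M ≤ M := by
        intro γ hγ
        have hYγ : cjg γ Y ≤ Y := by
          rw [cjg, Subgroup.map_iSup]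
          refine iSup_le fun v => ?_
          change cjg γ (Vx (v : ι × Ω)) ≤ Y
          rw [← at_tr]
          refine le_iSup (fun v : R => (Vx (v : ι × Ω))) ⟨tr γ v, ?_⟩
          refine Conn.trans ((Conn.trans v.2 (conn_of_inc (inc_base (Subgroup.one_mem _)) hu)).translate γ) ?_
          exact Conn.trans (conn_of_inc (inc_translate hu) (A.inc_move hu hγ)) (hbase i ω hω)
        have hMY' : cjg γ M ≤ Y := (cjg_mono hMY).trans hYγ
        refine hle ⟨hMY'.trans hYS, ?_⟩ hMY'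
        have hCT : S₀ ⊓ 𝐂(M) ≤ (Tx u) :=
          (inf_le_inf_left S₀ (Subgroup.centralizer_le (SetLike.coe_subset_coe.2 hVu))).trans Eu.CV.le
        rw [card_cjg, ← hMl.eq hT, ← card_cjg γ (S₀ ⊓ 𝐂(M))]
        refine Nat.mul_le_mul_left _ (Subgroup.card_le_of_le (le_inf ?_ ?_))
        · exact ((cjg_mono hCT).trans (A.tr_mem hγ).2.1.le).trans Eu.T_le
        · rw [← cjg_centralizer]; exact cjg_mono inf_le_right
      intro γ hγ
      refine Subgroup.mem_normalizer_iff_map_conj_eq.2 (Subgroup.eq_of_le_of_card_ge (hle' γ hγ) ?_)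
      exact (card_cjg γ M).ge
    refine hn ?_
    have hCT : S₀ ⊓ 𝐂(M) = (Tx u) ⊓ 𝐂(M) :=
      le_antisymm (le_inf ((inf_le_inf_left S₀ (Subgroup.centralizer_le (SetLike.coe_subset_coe.2 hVu))).trans
        Eu.CV.le) inf_le_right) (inf_le_inf_right _ Eu.T_le)
    show (Hx u) ≤ 𝐍(S₀ ⊓ 𝐂(M))
    rw [hCT]
    intro γ hγ
    refine Subgroup.mem_normalizer_iff_map_conj_eq.2 ?_
    show cjg γ _ = _
    rw [cjg_inf, cjg_centralizer, (A.tr_mem hγ).2.1, cjg_of_mem (hMn hγ)]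
  obtain ⟨w, e, hb⟩ := Nat.find_spec hex
  refine ⟨Nat.find hex, w, e, ?_, fun m hm w' e' hw' => ?_, hb⟩
  · by_contra h0
    have h0' : Nat.find hex = 0 := by omega
    rw [h0'] at hb
    refine hb.2 ?_
    show cjg _ _ ≤ 𝐂(cjg _ _)
    rw [← cjg_centralizer]
    exact cjg_mono (A.edge _).toSide.V_comm
  · by_contra h
    exact Nat.find_min hex hm ⟨w', e', hw', h⟩

theorem comm_adj {b : ℕ} (hC : Comm H S₀ V b) (hb : 2 ≤ b) {u v : ι × Ω} {E : Subgroup Ω} (hu : Inc H S₀ u E)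
    (hv : Inc H S₀ v E) : (Vx u) ≤ 𝐂(Vx v) :=
  hC 1 (by omega) (fun i => if i = 0 then u else v) (fun _ => E) (fun i hi => by
    obtain rfl : i = 0 := by omega
    exact ⟨hu, hv⟩)

section Critical

variable {b : ℕ} (hC : Comm H S₀ V b) (hb : 1 ≤ b) {w : ℕ → ι × Ω} {e : ℕ → Subgroup Ω}
  (hw : Crit H S₀ V b w e)

include hC hb hw

theorem crit_facts :
    (Vx (w 0)) ≤ e (b - 1) ∧ (Vx (w b)) ≤ e 0 ∧
    (Vx (w 0)) ⊔ (Tx (w b)) = e (b - 1) ∧ (Vx (w b)) ⊔ (Tx (w 0)) = e 0 ∧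
    (Vx (w 0)) ⊓ (Tx (w b)) = e 0 ⊓ 𝐂(e 0) ∧
    (Vx (w b)) ⊓ (Tx (w 0)) = e (b - 1) ⊓ 𝐂(e (b - 1)) ∧
    ⁅(Vx (w 0)), (Vx (w b))⁆ ≤ (e 0 ⊓ 𝐂(e 0)) ⊓ (e (b - 1) ⊓ 𝐂(e (b - 1))) ∧
    e 0 ⊓ 𝐂(e 0) ≤ ⁅(Vx (w 0)), (Vx (w b))⁆ ⊔ (Nx (w 0)) ∧ q (w 0).1 = q (w b).1 := by
  have h1 := A.reach hC b hb le_rfl w e hw.1
  have h2 := A.reach hC b hb le_rfl _ _ hw.1.rev
  rw [Nat.sub_zero, Nat.sub_self] at h2
  have E0 := A.edge_at (hw.1 0 (by omega)).1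
  have Eb := A.edge_at (hw.1 (b - 1) (by omega)).2
  rw [Nat.sub_add_cancel hb] at Eb
  obtain ⟨hq, f1, f2, e1, e2, hR, hE⟩ := E0.toSide.crit Eb.toSide h1 h2 hw.2
  exact ⟨h1, h2, f1, f2, e1, e2, hR, E0.span.trans (sup_le_sup_right hE _), hq⟩

theorem crit_rev : Crit H S₀ V b (fun i => w (b - i)) (fun i => e (b - 1 - i)) := by
  refine ⟨hw.1.rev, fun h => hw.2 ?_⟩
  dsimp only at h
  rw [Nat.sub_zero, Nat.sub_self] at h
  exact Subgroup.le_centralizer_iff.1 h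

theorem crit_cent {x : Ω} (hx : x ∈ (Vx (w 0))) (hc : x ∈ 𝐂((Vx (w b)))) : x ∈ e 0 ⊓ 𝐂(e 0) := by
  obtain ⟨h1, -, -, -, e1, -⟩ := A.crit_facts hC hb hw
  have Eb := A.edge_at (hw.1 (b - 1) (by omega)).2
  rw [Nat.sub_add_cancel hb] at Eb
  rw [← e1]
  exact ⟨hx, Eb.CV.le ⟨h1 hx, hc⟩⟩

/-- A critical walk can be shifted backwards. -/
theorem shift {E' : Subgroup Ω} {u : ι × Ω} (hopp : Opp H S₀ (w 0) (e 0) E')
    (hu : Inc H S₀ u E') (hgood : ¬ (Hx (w 0)) ≤ 𝐍((Vx (w 0)) ⊔ (Vx u))) :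
    ¬ (Vx u) ≤ 𝐂((Vx (w (b - 1)))) := by
  intro hc
  obtain ⟨-, h2, h3, h4, -, -, hR, -⟩ := A.crit_facts hC hb hw
  have hE' := hopp.2.1
  have hle : (Vx u) ≤ e (b - 1) := by
    rcases Nat.lt_or_ge b 2 with h | h
    · obtain rfl : b = 1 := by omega
      exact ((le_inf (A.edge_at hu).toSide.V_le_E hc).trans (A.edge_at hE').CV.le).trans
        (A.edge_at (hw.1 0 (by omega)).1).T_le
    have hW : Walk H S₀ b (fun i => if i = 0 then u else w (i - 1)) (fun i => if i = 0 then E' else e (i - 1)) := by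
      intro i hi
      rcases Nat.eq_zero_or_pos i with rfl | hpos
      · simp only [if_true, zero_add, if_false, Nat.sub_self, show (1 : ℕ) ≠ 0 from one_ne_zero]
        exact ⟨hu, hE'⟩
      · simp only [show i ≠ 0 by omega, if_false, show i + 1 ≠ 0 by omega]
        have h5 := hw.1 (i - 1) (by omega)
        rw [Nat.sub_add_cancel hpos] at h5
        exact h5
    have h5 := A.reach hC b hb le_rfl _ _ hW
    simp only [if_true, show b - 1 ≠ 0 by omega, if_false] at h5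
    have h6 := A.edge_at (hw.1 (b - 1 - 1) (by omega)).2
    rw [show b - 1 - 1 + 1 = b - 1 by omega] at h6
    exact ((le_inf h5 hc).trans h6.CV.le).trans (A.edge_at (hw.1 (b - 1) (by omega)).1).T_le
  have E0 := A.edge_at (hw.1 0 (by omega)).1
  have E1 := A.edge_at hE'
  have Eu := A.edge_at hu
  have Eb := A.edge_at (hw.1 (b - 1) (by omega)).2
  rw [Nat.sub_add_cancel hb] at Eb
  have hnorm : (Vx (w b)) ≤ 𝐍((Vx u) ⊔ (Vx (w 0))) := by
    refine normalizes_sup (h2.trans E0.nV) ?_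
    have hcl : ⁅(Vx (w b)), (Vx (w 0)) ⊔ (Tx (w b))⁆ ≤ ⁅(Vx (w 0)), (Vx (w b))⁆ := by
      refine commutator_sup_le (by rw [Subgroup.commutator_comm]) ?_ ?_
      · rw [Subgroup.commutator_eq_bot_iff_le_centralizer.2 Eb.toSide.V_cent]; exact bot_le
      · rw [h3]
        exact (Subgroup.le_centralizer_iff.1 ((hR.trans inf_le_right).trans inf_le_right)).trans
          (Subgroup.centralizer_le_normalizer _)
    rw [h3] at hcl
    rw [Subgroup.commutator_comm]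
    refine ((Subgroup.commutator_mono le_rfl hle).trans hcl).trans ?_
    exact ((hR.trans inf_le_left).trans E0.toSide.Z_le).trans le_sup_right
  have hnE' : E' ≤ 𝐍((Vx u) ⊔ (Vx (w 0))) := le_normalizer_sup Eu.nV E1.nV
  refine hgood ?_
  rw [sup_comm]
  refine hopp.2.2.trans (sup_le ?_ hnE')
  rw [← h4]
  exact sup_le hnorm (E1.T_le.trans hnE')

/-- At a critical walk of length at least two the first two small members are not normal at the second vertex. -/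
theorem auto (hb2 : 2 ≤ b) : ¬ (Hx (w 1)) ≤ 𝐍((Vx (w 1)) ⊔ (Vx (w 0))) := by
  intro hn
  obtain ⟨γ, hγH, he⟩ := A.mover (hw.1 0 (by omega)).2 (hw.1 1 (by omega)).1
  have hinc : Inc H S₀ (tr γ (w 0)) (e 1) := he ▸ inc_translate (hw.1 0 (by omega)).1
  have hW : cjg γ ((Vx (w 1)) ⊔ (Vx (w 0))) = (Vx (w 1)) ⊔ (Vx (w 0)) := cjg_of_mem (hn hγH)
  rw [cjg_sup, ← at_tr V γ (w 0), (A.tr_mem hγH).2.2] at hW
  refine hw.2 ((le_sup_right : (Vx (w 0)) ≤ (Vx (w 1)) ⊔ (Vx (w 0))).trans (hW.ge.trans (sup_le ?_ ?_)))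
  · have h1 := hC (b - 1) (by omega) (fun i => w (i + 1)) (fun i => e (i + 1)) (fun i hi => hw.1 (i + 1) (by omega))
    simp only [zero_add] at h1
    rwa [Nat.sub_add_cancel hb] at h1
  · have h1 := hC (b - 1) (by omega) (fun i => if i = 0 then tr γ (w 0) else w (i + 1)) (fun i => e (i + 1))
      (fun i hi => by
        rcases Nat.eq_zero_or_pos i with rfl | hpos
        · simp only [if_true, zero_add, show (1 : ℕ) ≠ 0 from one_ne_zero, if_false]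
          exact ⟨hinc, (hw.1 1 (by omega)).2⟩
        · simp only [show i ≠ 0 by omega, if_false, show i + 1 ≠ 0 by omega]
          exact hw.1 (i + 1) (by omega))
    simp only [if_true, show b - 1 ≠ 0 by omega, if_false] at h1
    rwa [Nat.sub_add_cancel hb] at h1

end Critical

end Amb

end CfsgLib.PushingUp.Family
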