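/-
A critical walk whose first two small members form a normal subgroup at the first vertex: common consequences.
-/
import Mathlib
import Cfsg.Agent.Lib.PushingUp.Family.Graph

set_option autoImplicit false
set_option linter.style.haveILetI false
set_option linter.unusedSectionVars false

open scoped commutatorElement

namespace CfsgLib.PushingUp.Family

variable {Ω : Type*} [Group Ω] {ι : Type*} {H : ι → Subgroup Ω} {S₀ : Subgroup Ω}

local notation:max "𝐂(" R ")" => Subgroup.centralizer (SetLike.coe R)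

local notation:max "𝐍(" R ")" => Subgroup.normalizer (SetLike.coe R)

theorem le_normalizer_centralizer {A K : Subgroup Ω} (h : A ≤ 𝐍(K)) : A ≤ 𝐍(𝐂(K)) := fun a ha =>
  Subgroup.mem_normalizer_iff_map_conj_eq.2 (by
    show cjg a 𝐂(K) = 𝐂(K)
    rw [cjg_centralizer, cjg_of_mem (h ha)])

/-- The situation at the start of a critical walk, with `B` the small member at its other end. -/
structure Bad (T V N : ι → Subgroup Ω) (x g : ι × Ω) (E B : Subgroup Ω) : Prop where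
  hx : Inc H S₀ x E
  hg : Inc H S₀ g E
  comm : at' V x ≤ 𝐂(at' V g)
  ne : at' T x ≠ at' T g
  norm : at' H x ≤ 𝐍(at' V x ⊔ at' V g)
  B_le : B ≤ E
  B_sup : B ⊔ at' T x = E
  B_comm : B ≤ 𝐂(at' V g)
  B_cent : ∀ v ∈ at' V x, v ∈ 𝐂(B) → v ∈ E ⊓ 𝐂(E)
  B_R : ⁅at' V x, B⁆ ≤ E ⊓ 𝐂(E)
  span : E ⊓ 𝐂(E) ≤ ⁅at' V x, B⁆ ⊔ at' N x

variable [Finite Ω] {p : ℕ} {q : ι → ℕ} {T V N : ι → Subgroup Ω} {W : ι → Set Ω}
  (A : Amb p q H S₀ T V N W)

local notation "Hx" v => at' H v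
local notation "Tx" v => at' T v
local notation "Vx" v => at' V v
local notation "Nx" v => at' N v

include A

theorem Amb.N_facts {x : ι × Ω} {E : Subgroup Ω} (h : Inc H S₀ x E) :
    (Nx x) ≤ E ⊓ 𝐂(E) ∧ (Nx x) ≤ (Vx x) ∧ (Nx x) ≤ 𝐂(Hx x) := by
  have e := A.edge_at h
  rw [e.N_eq]
  exact ⟨le_inf (inf_le_left.trans e.toSide.V_le_E)
    (inf_le_right.trans (Subgroup.centralizer_le (SetLike.coe_subset_coe.2 e.E_le))), inf_le_left, inf_le_right⟩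

theorem Amb.zz_le {x : ι × Ω} {E E' : Subgroup Ω} (h : Opp H S₀ x E E') :
    (E ⊓ 𝐂(E)) ⊓ (E' ⊓ 𝐂(E')) ≤ (Nx x) := by
  intro z hz
  rw [(A.edge_at h.1).N_eq]
  refine ⟨(A.edge_at h.1).toSide.Z_le hz.1, Subgroup.centralizer_le (SetLike.coe_subset_coe.2 h.2.2) ?_⟩
  rw [CfsgLib.ChermakDelgado.centralizer_sup]
  exact ⟨hz.1.2, hz.2.2⟩

theorem Amb.zz_sup {x : ι × Ω} {E E' : Subgroup Ω} (h : Opp H S₀ x E E') :
    (E ⊓ 𝐂(E)) ⊔ (E' ⊓ 𝐂(E')) = (Vx x) := by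
  have e := A.edge_at h.1
  have e' := A.edge_at h.2.1
  have hcard := CfsgLib.LocalEvenSix.card_mul_card_le (E ⊓ 𝐂(E)) (E' ⊓ 𝐂(E'))
  have hle := Subgroup.card_le_of_le (A.zz_le h)
  refine Subgroup.eq_of_le_of_card_ge (sup_le e.toSide.Z_le e'.toSide.Z_le) ?_
  refine Nat.le_of_mul_le_mul_right ?_ (Nat.card_pos (α := ↥(Nx x)))
  calc Nat.card ↥(Vx x) * Nat.card ↥(Nx x) = Nat.card ↥(E ⊓ 𝐂(E)) * Nat.card ↥(E' ⊓ 𝐂(E')) := by
        rw [e.cardV, e.cardZ, e'.cardZ]; ring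
    _ ≤ _ := hcard.trans (Nat.mul_le_mul_left _ hle)

theorem Amb.big_sup {x : ι × Ω} {E A' : Subgroup Ω} (h : Inc H S₀ x E) (hA : A' ≤ E) (hAc : A' ≤ 𝐂(A'))
    (hcard : Nat.card A' * Nat.card A' = msr E) (hAT : ¬ A' ≤ (Tx x)) : A' ⊔ (Tx x) = E := by
  have e := A.edge_at h
  have hc : (A' ⊓ (Tx x)) ≤ 𝐂(Vx x) := inf_le_right.trans e.toSide.T_cent
  have hY : (A' ⊓ (Tx x)) ⊔ (Vx x) ≤ 𝐂((A' ⊓ (Tx x)) ⊔ (Vx x)) :=
    CfsgLib.ChermakDelgado.comm_sup ((inf_le_left.trans hAc).trans (Subgroup.centralizer_le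
      (SetLike.coe_subset_coe.2 inf_le_left))) e.toSide.V_comm hc
  have hYE : (A' ⊓ (Tx x)) ⊔ (Vx x) ≤ E := sup_le (inf_le_left.trans hA) e.toSide.V_le_E
  have hle : Nat.card ↥((A' ⊓ (Tx x)) ⊔ (Vx x)) ≤ Nat.card A' := by
    refine Nat.mul_self_le_mul_self_iff.1 ?_
    rw [hcard]
    exact (Nat.mul_le_mul_left _ (Subgroup.card_le_of_le (le_inf hYE hY))).trans (e.toSide.peak _ hYE)
  have e1 := CfsgLib.Coprime.card_sup_mul_card_inf (H := A' ⊓ (Tx x)) (N := (Vx x))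
    ((inf_le_left.trans hA).trans e.nV)
  have hinf : (Vx x) ⊓ (A' ⊓ (Tx x)) ≤ E ⊓ 𝐂(E) := by
    rw [← e.toSide.mem_Z_of_commute hA hAT]
    exact inf_le_inf_left _ (inf_le_left.trans hAc)
  rw [e.cardV] at e1
  have hi := Subgroup.card_le_of_le hinf
  have h2 : Nat.card ↥(A' ⊓ (Tx x)) * q x.1 ≤ Nat.card A' := by
    refine Nat.le_of_mul_le_mul_right ?_ (Nat.card_pos (α := ↥(E ⊓ 𝐂(E))))
    calc Nat.card ↥(A' ⊓ (Tx x)) * q x.1 * Nat.card ↥(E ⊓ 𝐂(E))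
        = Nat.card ↥(A' ⊓ (Tx x)) * (q x.1 * Nat.card ↥(E ⊓ 𝐂(E))) := mul_assoc _ _ _
      _ ≤ _ := e1 ▸ Nat.mul_le_mul hle hi
  have e2 := CfsgLib.Coprime.card_sup_mul_card_inf (H := A') (N := (Tx x)) (hA.trans e.nT)
  rw [inf_comm] at e2
  refine Subgroup.eq_of_le_of_card_ge (sup_le hA e.T_le) ?_
  refine Nat.le_of_mul_le_mul_right ?_ (Nat.card_pos (α := ↥(A' ⊓ (Tx x))))
  rw [e2, e.cardE]
  calc q x.1 * Nat.card ↥(Tx x) * Nat.card ↥(A' ⊓ (Tx x))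
      = Nat.card ↥(A' ⊓ (Tx x)) * q x.1 * Nat.card ↥(Tx x) := by ring
    _ ≤ _ := Nat.mul_le_mul_right _ h2

/-- Factorisations through the centralizers of two conjugates combine. -/
theorem Amb.decomp {x : ι × Ω} {E B Y : Subgroup Ω} {γ : Ω} (hopp : Opp H S₀ x E (cjg γ E)) (hBE : B ≤ E) (hYc : Y ≤ 𝐂(Vx x)) (hVY : (Vx x) ≤ Y)
    (h1 : Y ≤ (Vx x) ⊔ (Y ⊓ 𝐂(B))) (h2 : Y ≤ (Vx x) ⊔ (Y ⊓ 𝐂(cjg γ B))) :
    Y ≤ (Vx x) ⊔ (Y ⊓ 𝐂(B ⊔ cjg γ B)) := by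
  intro y hy
  have hN : ∀ K : Subgroup Ω, (Vx x) ≤ 𝐍(Y ⊓ K) := fun K =>
    (Subgroup.le_centralizer_iff.1 ((inf_le_left : Y ⊓ K ≤ Y).trans hYc)).trans
      (Subgroup.centralizer_le_normalizer _)
  obtain ⟨v, hv, m, hm, rfl⟩ := CfsgLib.Coprime.exists_mul_of_mem_sup (hN _) (h1 hy)
  obtain ⟨v₂, hv₂, m₂, hm₂, rfl⟩ := CfsgLib.Coprime.exists_mul_of_mem_sup (hN _) (h2 hm.1)
  obtain ⟨z, hz, z', hz', rfl⟩ := CfsgLib.Coprime.exists_mul_of_mem_sup (H := E ⊓ 𝐂(E))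
    (N := cjg γ E ⊓ 𝐂(cjg γ E))
    (((A.edge_at hopp.1).toSide.Z_le.trans (A.edge_at hopp.1).toSide.V_comm).trans
      ((Subgroup.centralizer_le (SetLike.coe_subset_coe.2 (A.edge_at hopp.2.1).toSide.Z_le)).trans
        (Subgroup.centralizer_le_normalizer _))) ((A.zz_sup hopp).ge hv₂)
  have hzV := (A.edge_at hopp.1).toSide.Z_le hz
  have hz'V := (A.edge_at hopp.2.1).toSide.Z_le hz'
  have hzB : z ∈ 𝐂(B) := Subgroup.centralizer_le (SetLike.coe_subset_coe.2 hBE) hz.2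
  have hz'B : z' ∈ 𝐂(cjg γ B) := Subgroup.centralizer_le (SetLike.coe_subset_coe.2 (cjg_mono hBE)) hz'.2
  have hk : z' * m₂ ∈ Y ⊓ 𝐂(B ⊔ cjg γ B) := by
    refine ⟨Y.mul_mem (hVY hz'V) hm₂.1, ?_⟩
    rw [CfsgLib.ChermakDelgado.centralizer_sup]
    refine ⟨?_, Subgroup.mul_mem _ hz'B hm₂.2⟩
    have h3 := Subgroup.mul_mem _ (Subgroup.inv_mem _ hzB) hm.2
    rwa [show z⁻¹ * (z * z' * m₂) = z' * m₂ by group] at h3
  rw [show v * (z * z' * m₂) = (v * z) * (z' * m₂) by group]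
  exact Subgroup.mul_mem_sup ((Vx x).mul_mem hv hzV) hk

namespace Bad

variable {x g : ι × Ω} {E B : Subgroup Ω} (D : Bad (H := H) (S₀ := S₀) T V N x g E B)

local notation "C" => at' V x ⊔ at' V g
local notation "T0" => at' T x ⊓ at' T g

include D

theorem V_le : (Vx x) ≤ (Tx g) := by
  rw [← (A.edge_at D.hg).CV]
  exact le_inf (A.edge_at D.hx).toSide.V_le_E D.comm

theorem Vg_le : (Vx g) ≤ (Tx x) := by
  rw [← (A.edge_at D.hx).CV]
  exact le_inf (A.edge_at D.hg).toSide.V_le_E (Subgroup.le_centralizer_iff.1 D.comm)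

theorem C_le : C ≤ T0 :=
  sup_le (le_inf (A.edge_at D.hx).V_le (D.V_le A)) (le_inf (D.Vg_le A) (A.edge_at D.hg).V_le)

theorem C_comm : C ≤ 𝐂(C) :=
  CfsgLib.ChermakDelgado.comm_sup (A.edge_at D.hx).toSide.V_comm (A.edge_at D.hg).toSide.V_comm D.comm

theorem T0_eq : E ⊓ 𝐂(C) = T0 := by
  rw [inf_centralizer_sup, (A.edge_at D.hx).CV, (A.edge_at D.hg).CV]

theorem twin :
    (Tx x) ⊔ (Tx g) = E ∧ E ⊓ 𝐂(T0) = C ∧ Nat.card ↥(Tx x) = q g.1 * Nat.card ↥T0 ∧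
      Nat.card ↥C * Nat.card ↥(E ⊓ 𝐂(E)) = Nat.card ↥(Vx x) * Nat.card ↥(Vx g) :=
  (A.edge_at D.hx).toSide.twin (A.edge_at D.hg).toSide D.ne

theorem T0_norm : (Hx x) ≤ 𝐍(T0) := by
  have h : T0 = (Tx x) ⊓ 𝐂(C) := by
    refine le_antisymm (le_inf inf_le_left ((D.T0_eq A).ge.trans inf_le_right)) ?_
    rw [← D.T0_eq A]
    exact le_inf ((le_inf (inf_le_left.trans (A.edge_at D.hx).T_le) inf_le_right)) le_rfl |>.trans inf_le_left
  rw [h]
  exact le_normalizer_inf' (A.edge_at D.hx).H_nT (le_normalizer_centralizer D.norm)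

theorem E_derived : ⁅E, E⁆ ≤ T0 := le_inf (A.edge_at D.hx).toSide.derived_le (A.edge_at D.hg).toSide.derived_le

theorem C_edge : ⁅C, E⁆ ≤ E ⊓ 𝐂(E) := by
  rw [Subgroup.commutator_comm]
  refine commutator_sup_le ?_ ?_ ((sup_le (A.edge_at D.hx).toSide.V_le_E (A.edge_at D.hg).toSide.V_le_E).trans
    ((Subgroup.le_centralizer_iff.1 inf_le_right).trans (Subgroup.centralizer_le_normalizer _)))
  · rw [Subgroup.commutator_comm]; exact (A.edge_at D.hx).comm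
  · rw [Subgroup.commutator_comm]; exact (A.edge_at D.hg).comm

theorem T_move : ⁅(Tx x), (Hx x)⁆ ≤ T0 := by
  obtain ⟨E', hopp⟩ := A.exists_opp D.hx
  obtain ⟨γ, hγ, rfl⟩ := A.mover D.hx hopp.2.1
  have h1 : ⁅(Tx x), E⁆ ≤ T0 := (Subgroup.commutator_mono (A.edge_at D.hx).T_le le_rfl).trans (D.E_derived A)
  refine (Subgroup.commutator_mono le_rfl hopp.2.2).trans (commutator_sup_le h1 ?_
    ((sup_le (A.edge_at D.hx).E_le (A.edge_at hopp.2.1).E_le).trans (D.T0_norm A)))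
  calc ⁅(Tx x), cjg γ E⁆ = cjg γ ⁅(Tx x), E⁆ := by rw [cjg_commutator, (A.tr_mem hγ).2.1]
    _ ≤ cjg γ T0 := cjg_mono h1
    _ = T0 := cjg_of_mem (D.T0_norm A hγ)

theorem C_move : ⁅C, (Hx x)⁆ ≤ (Vx x) := by
  obtain ⟨E', hopp⟩ := A.exists_opp D.hx
  obtain ⟨γ, hγ, rfl⟩ := A.mover D.hx hopp.2.1
  have h1 : ⁅C, E⁆ ≤ (Vx x) := (D.C_edge A).trans (A.edge_at D.hx).toSide.Z_le
  refine (Subgroup.commutator_mono le_rfl hopp.2.2).trans (commutator_sup_le h1 ?_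
    ((sup_le (A.edge_at D.hx).E_le (A.edge_at hopp.2.1).E_le).trans (A.edge_at D.hx).H_nV))
  rw [← cjg_of_mem (D.norm hγ), ← cjg_commutator]
  exact (cjg_mono h1).trans (A.tr_mem hγ).2.2.le

theorem C_T : ⁅C, (Tx x)⁆ ≤ (Nx x) := by
  obtain ⟨E', hopp⟩ := A.exists_opp D.hx
  obtain ⟨γ, hγ, rfl⟩ := A.mover D.hx hopp.2.1
  refine le_trans (le_inf ((Subgroup.commutator_mono le_rfl (A.edge_at D.hx).T_le).trans (D.C_edge A)) ?_)
    (A.zz_le hopp)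
  rw [← cjg_of_mem (D.norm hγ), ← (A.tr_mem hγ).2.1, ← cjg_commutator, ← cjg_centralizer, ← cjg_inf]
  exact cjg_mono ((Subgroup.commutator_mono le_rfl (A.edge_at D.hx).T_le).trans (D.C_edge A))

section Pair

variable {γ : Ω} (hγ : γ ∈ at' H x) (hopp : Opp H S₀ x E (cjg γ E))

local notation "L" => B ⊔ cjg γ B
local notation "MC" => C ⊓ 𝐂(B ⊔ cjg γ B)

include hγ hopp

theorem L_le : L ≤ (Hx x) :=
  sup_le (D.B_le.trans (A.edge_at D.hx).E_le)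
    ((cjg_mono (D.B_le.trans (A.edge_at D.hx).E_le)).trans (A.tr_mem hγ).1.le)

theorem L_sup : L ⊔ (Tx x) = (Hx x) := by
  refine le_antisymm (sup_le (D.L_le A hγ hopp) ((A.edge_at D.hx).T_le.trans (A.edge_at D.hx).E_le))
    (hopp.2.2.trans ?_)
  conv_lhs => rw [← D.B_sup]
  refine sup_le (sup_le_sup_right le_sup_left _) ?_
  rw [cjg_sup, (A.tr_mem hγ).2.1]
  exact sup_le_sup_right le_sup_right _

theorem exists_L {δ : Ω} (hδ : δ ∈ Hx x) : ∃ k ∈ L, cjg k E = cjg δ E := by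
  obtain ⟨k, hk, t, ht, rfl⟩ := CfsgLib.Coprime.exists_mul_of_mem_sup
    ((D.L_le A hγ hopp).trans (A.edge_at D.hx).H_nT) ((D.L_sup A hγ hopp).ge hδ)
  exact ⟨k, hk, by rw [← cjg_cjg, cjg_of_mem (Subgroup.le_normalizer ((A.edge_at D.hx).T_le ht))]⟩

theorem C_decomp : C ≤ (Vx x) ⊔ MC := by
  refine A.decomp hopp D.B_le ((D.C_comm A).trans (Subgroup.centralizer_le
    (SetLike.coe_subset_coe.2 le_sup_left))) le_sup_left ?_ ?_
  · exact sup_le_sup_left (le_inf le_sup_right (Subgroup.le_centralizer_iff.1 D.B_comm)) _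
  · have h1 : cjg γ C = C := cjg_of_mem (D.norm hγ)
    have h2 : cjg γ (Vx g) ≤ C ⊓ 𝐂(cjg γ B) := by
      refine le_inf ((cjg_mono le_sup_right).trans h1.le) ?_
      rw [← cjg_centralizer]
      exact cjg_mono (Subgroup.le_centralizer_iff.1 D.B_comm)
    calc C = cjg γ C := h1.symm
      _ = (Vx x) ⊔ cjg γ (Vx g) := by rw [cjg_sup, (A.tr_mem hγ).2.2]
      _ ≤ _ := sup_le_sup_left h2 _

theorem MC_inf : MC ⊓ (Vx x) ≤ (Nx x) := by
  intro v hv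
  have hc := hv.1.2
  refine A.zz_le hopp ⟨D.B_cent v hv.2 (Subgroup.centralizer_le (SetLike.coe_subset_coe.2 le_sup_left) hc), ?_⟩
  have h1 : γ⁻¹ * v * γ ∈ E ⊓ 𝐂(E) := by
    refine D.B_cent _ (mem_cjg.1 ((A.tr_mem hγ).2.2.ge hv.2)) ?_
    refine mem_cjg.1 ?_
    rw [cjg_centralizer]
    exact Subgroup.centralizer_le (SetLike.coe_subset_coe.2 le_sup_right) hc
  rw [← cjg_centralizer, ← cjg_inf]
  exact mem_cjg.2 h1

theorem N_le_MC : (Nx x) ≤ MC :=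
  le_inf ((A.N_facts D.hx).2.1.trans le_sup_left)
    ((A.N_facts D.hx).2.2.trans (Subgroup.centralizer_le (SetLike.coe_subset_coe.2 (D.L_le A hγ hopp))))

theorem MC_Z : MC ⊓ (E ⊓ 𝐂(E)) ≤ (Nx x) :=
  (inf_le_inf_left _ (A.edge_at D.hx).toSide.Z_le).trans (D.MC_inf A hγ hopp)

theorem Z_le_Vg : E ⊓ 𝐂(E) ≤ (Vx g) := (A.edge_at D.hg).toSide.Z_le

theorem MC_le : MC ≤ (Vx g) := by
  intro c hc
  obtain ⟨v, hv, u, hu, rfl⟩ := CfsgLib.Coprime.exists_mul_of_mem_sup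
    ((A.edge_at D.hx).toSide.V_le_E.trans (A.edge_at D.hg).nV) hc.1
  refine (Vx g).mul_mem (D.Z_le_Vg A hγ hopp (D.B_cent v hv ?_)) hu
  have h1 := Subgroup.mul_mem _ (Subgroup.centralizer_le (SetLike.coe_subset_coe.2 (le_sup_left (b := cjg γ B))) hc.2)
    (Subgroup.inv_mem _ (Subgroup.le_centralizer_iff.1 D.B_comm hu))
  rwa [mul_inv_cancel_right] at h1

theorem Vg_decomp : (Vx g) ≤ (E ⊓ 𝐂(E)) ⊔ MC := by
  intro u hu
  obtain ⟨v, hv, m, hm, rfl⟩ := CfsgLib.Coprime.exists_mul_of_mem_sup (H := (Vx x)) (N := MC)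
    (((le_sup_left : (Vx x) ≤ C).trans (D.C_comm A)).trans
      ((Subgroup.centralizer_le (SetLike.coe_subset_coe.2 inf_le_left)).trans (Subgroup.centralizer_le_normalizer _)))
    (D.C_decomp A hγ hopp (Subgroup.mem_sup_right hu))
  refine Subgroup.mul_mem_sup (D.B_cent v hv ?_) hm
  have h1 := Subgroup.mul_mem _ (Subgroup.le_centralizer_iff.1 D.B_comm hu)
    (Subgroup.inv_mem _ (Subgroup.centralizer_le (SetLike.coe_subset_coe.2 (le_sup_left (b := cjg γ B))) hm.2))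
  rwa [mul_inv_cancel_right] at h1

end Pair

theorem big_in_T {γ : Ω} (hγ : γ ∈ Hx x) (hopp : Opp H S₀ x E (cjg γ E)) :
    ∃ A' : Subgroup Ω, A' ≤ E ∧ A' ≤ 𝐂(A') ∧ Lg E A' ∧ E ⊓ 𝐂(A') = A' ∧ ¬ A' ≤ (Tx g) ∧
      (Tx x) ≤ (A' ⊓ (Tx x)) ⊔ T0 ∧ E ≤ (A' ⊓ (Tx x)) ⊔ (Tx g) := by
  obtain ⟨A', hA, hAc, hcard, hAT⟩ := A.big_at D.hg
  have ex := A.edge_at D.hx
  have eg := A.edge_at D.hg
  obtain ⟨hl, hself⟩ := lg_abelian ex.toSide.peak hA hAc hcard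
  obtain ⟨ht1, ht2, ht3, ht4⟩ := D.twin A
  have hsupg := A.big_sup D.hg hA hAc hcard hAT
  suffices h : (Tx x) ≤ (A' ⊓ (Tx x)) ⊔ T0 by
    refine ⟨A', hA, hAc, hl, hself, hAT, h, ?_⟩
    rw [← ht1]
    exact sup_le (h.trans (sup_le_sup_left inf_le_right _)) le_sup_right
  intro t ht
  by_cases hAx : A' ≤ (Tx x)
  · obtain ⟨a, ha, τ, hτ, rfl⟩ := CfsgLib.Coprime.exists_mul_of_mem_sup (hA.trans eg.nT)
      (hsupg.ge (ex.T_le ht))
    exact Subgroup.mul_mem_sup ⟨ha, hAx ha⟩ ⟨(Subgroup.mul_mem_cancel_left _ (hAx ha)).1 ht, hτ⟩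
  obtain ⟨a, ha, haT⟩ := SetLike.not_le_iff_exists.1 hAx
  have hAC : A' ⊓ C ≤ E ⊓ 𝐂(E) := by
    intro c hc
    obtain ⟨α, hα, m, hm, e⟩ := CfsgLib.Coprime.exists_mul_of_mem_sup (H := (Vx x))
      (N := C ⊓ 𝐂(B ⊔ cjg γ B)) (((le_sup_left : (Vx x) ≤ C).trans (D.C_comm A)).trans
        ((Subgroup.centralizer_le (SetLike.coe_subset_coe.2 inf_le_left)).trans
          (Subgroup.centralizer_le_normalizer _))) (D.C_decomp A hγ hopp hc.2)
    obtain ⟨v', hv', t', ht', rfl⟩ := CfsgLib.Coprime.exists_mul_of_mem_sup (D.B_le.trans ex.nT)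
      (D.B_sup.ge (hA ha))
    set n := ⁅m, t'⁆ with hn'
    have hn : n ∈ (Nx x) := D.C_T A (Subgroup.commutator_mem_commutator hm.1 ht')
    have hnE := (A.N_facts D.hx).1 hn
    have hmv : v' * m = m * v' :=
      Subgroup.mem_centralizer_iff.1 hm.2 v' (Subgroup.mem_sup_left hv')
    have hnc : ∀ y ∈ E, y * n = n * y := fun y hy => Subgroup.mem_centralizer_iff.1 hnE.2 y hy
    have hac : (v' * t') * c = c * (v' * t') := Subgroup.mem_centralizer_iff.1 (hAc hc.1) _ ha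
    have hfix : ⁅α, v' * t'⁆ ∈ (Nx x) := by
      have e3 : (v' * t') * m = n⁻¹ * m * (v' * t') := by
        have h4 : t' * m = n⁻¹ * m * t' := by rw [hn', commutatorElement_def]; group
        calc v' * t' * m = v' * (t' * m) := mul_assoc _ _ _
          _ = (v' * n⁻¹) * m * t' := by rw [h4]; group
          _ = (n⁻¹ * v') * m * t' := by
              rw [(show Commute v' n from hnc v' (D.B_le hv')).inv_right.eq]
          _ = n⁻¹ * (v' * m) * t' := by group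
          _ = _ := by rw [hmv]; group
      have e4 : (v' * t') * α * n⁻¹ = α * (v' * t') := by
        refine mul_right_cancel (b := m * (v' * t')) ?_
        calc (v' * t') * α * n⁻¹ * (m * (v' * t')) = (v' * t') * α * (n⁻¹ * m * (v' * t')) := by group
          _ = (v' * t') * (α * ((v' * t') * m)) := by rw [← e3]; group
          _ = α * (v' * t') * (m * (v' * t')) := by
            have h5 : (v' * t') * (α * m) = (α * m) * (v' * t') := e ▸ hac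
            calc (v' * t') * (α * ((v' * t') * m))
                = (v' * t') * (α * (n⁻¹ * m * (v' * t'))) := by rw [e3]
              _ = (v' * t') * (α * n⁻¹) * (m * (v' * t')) := by group
              _ = (v' * t') * (n⁻¹ * α) * (m * (v' * t')) := by
                  rw [(show Commute α n from hnc α (ex.toSide.V_le_E hα)).inv_right.eq]
              _ = n⁻¹ * ((v' * t') * (α * m)) * (v' * t') := by
                  have h6 := (show Commute (v' * t') n from hnc _ (hA ha)).inv_right.eq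
                  calc (v' * t') * (n⁻¹ * α) * (m * (v' * t'))
                      = ((v' * t') * n⁻¹) * α * m * (v' * t') := by group
                    _ = _ := by rw [h6]; group
              _ = (n⁻¹ * α * m) * (v' * t') * (v' * t') := by rw [h5]; group
              _ = (α * n⁻¹) * m * (v' * t') * (v' * t') := by
                  rw [← (show Commute α n from hnc α (ex.toSide.V_le_E hα)).inv_right.eq]
              _ = α * (n⁻¹ * m * (v' * t')) * (v' * t') := by group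
              _ = _ := by rw [← e3]; group
      have e5 : ⁅α, v' * t'⁆ = n⁻¹ := by
        rw [commutatorElement_def, ← e4]
        have h7 := (show Commute α n from hnc α (ex.toSide.V_le_E hα)).inv_inv.eq
        have h8 := (show Commute (v' * t') n from hnc _ (hA ha)).inv_right.eq
        calc v' * t' * α * n⁻¹ * α⁻¹ * (v' * t')⁻¹ = v' * t' * α * (n⁻¹ * α⁻¹) * (v' * t')⁻¹ := by group
          _ = v' * t' * α * (α⁻¹ * n⁻¹) * (v' * t')⁻¹ := by rw [h7]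
          _ = ((v' * t') * n⁻¹) * (v' * t')⁻¹ := by group
          _ = _ := by rw [h8]; group
      rw [e5]; exact (Nx x).inv_mem hn
    have hαc : α ∈ E ⊓ 𝐂(E) :=
      ⟨ex.toSide.V_le_E hα, ex.fixed α hα _ (hA ha) haT hfix⟩
    have hcg : c ∈ (Vx g) := e ▸ (Vx g).mul_mem (D.Z_le_Vg A hγ hopp hαc) (D.MC_le A hγ hopp hm)
    rw [← eg.toSide.mem_Z_of_commute hA hAT]
    exact ⟨hcg, hAc hc.1⟩
  have hY : (A' ⊓ T0) ⊔ C ≤ 𝐂((A' ⊓ T0) ⊔ C) :=
    CfsgLib.ChermakDelgado.comm_sup ((inf_le_left.trans hAc).trans (Subgroup.centralizer_le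
      (SetLike.coe_subset_coe.2 inf_le_left))) (D.C_comm A) (inf_le_right.trans ((D.T0_eq A).ge.trans inf_le_right))
  have hCE : C ≤ E := (D.C_le A).trans (inf_le_left.trans ex.T_le)
  have hYE : (A' ⊓ T0) ⊔ C ≤ E := sup_le (inf_le_left.trans hA) hCE
  have hle : Nat.card ↥((A' ⊓ T0) ⊔ C) ≤ Nat.card A' := by
    refine Nat.mul_self_le_mul_self_iff.1 ?_
    rw [hcard]
    exact (Nat.mul_le_mul_left _ (Subgroup.card_le_of_le (le_inf hYE hY))).trans (ex.toSide.peak _ hYE)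
  have e1 := CfsgLib.LocalEvenSix.card_mul_card_le (A' ⊓ T0) C
  have hinf := Subgroup.card_le_of_le ((inf_le_inf_right C (inf_le_left : A' ⊓ T0 ≤ A')).trans hAC)
  have hnT0 : E ≤ 𝐍(T0) := le_normalizer_inf' ex.nT eg.nT
  have e2 := CfsgLib.Coprime.card_sup_mul_card_inf (H := A') (N := T0) (hA.trans hnT0)
  rw [inf_comm T0 A'] at e2
  have hC : Nat.card ↥C = q x.1 * q g.1 * Nat.card ↥(E ⊓ 𝐂(E)) := by
    refine Nat.eq_of_mul_eq_mul_right (Nat.card_pos (α := ↥(E ⊓ 𝐂(E)))) ?_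
    rw [ht4, ex.cardV, eg.cardV]; ring
  have h2 : Nat.card ↥(A' ⊓ T0) * (q x.1 * q g.1) ≤ Nat.card A' := by
    refine Nat.le_of_mul_le_mul_right ?_ (Nat.card_pos (α := ↥(E ⊓ 𝐂(E))))
    calc Nat.card ↥(A' ⊓ T0) * (q x.1 * q g.1) * Nat.card ↥(E ⊓ 𝐂(E))
        = Nat.card ↥(A' ⊓ T0) * Nat.card ↥C := by rw [hC]; ring
      _ ≤ _ := e1.trans (Nat.mul_le_mul hle hinf)
  have htop : A' ⊔ T0 = E := by
    refine Subgroup.eq_of_le_of_card_ge (sup_le hA (inf_le_left.trans ex.T_le)) ?_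
    refine Nat.le_of_mul_le_mul_right ?_ (Nat.card_pos (α := ↥(A' ⊓ T0)))
    rw [e2, ex.cardE, ht3]
    calc q x.1 * (q g.1 * Nat.card ↥T0) * Nat.card ↥(A' ⊓ T0)
        = Nat.card ↥(A' ⊓ T0) * (q x.1 * q g.1) * Nat.card ↥T0 := by ring
      _ ≤ _ := Nat.mul_le_mul_right _ h2
  obtain ⟨a', ha', τ, hτ, rfl⟩ := CfsgLib.Coprime.exists_mul_of_mem_sup (hA.trans hnT0) (htop.ge (ex.T_le ht))
  exact Subgroup.mul_mem_sup ⟨ha', (Subgroup.mul_mem_cancel_right _ hτ.1).1 ht⟩ hτ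

end Bad

end CfsgLib.PushingUp.Family
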