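/-
At a critical walk of length at least three the first two small members are not normal at the first vertex.
-/
import Mathlib
import Cfsg.Agent.Lib.PushingUp.Family.AutoCommon

set_option autoImplicit false
set_option linter.style.haveILetI false
set_option linter.unusedSectionVars false
set_option linter.unusedVariables false

open scoped commutatorElement

namespace CfsgLib.PushingUp.Family

variable {Ω : Type*} [Group Ω] {ι : Type*} {H : ι → Subgroup Ω} {S₀ : Subgroup Ω}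

local notation:max "𝐂(" R ")" => Subgroup.centralizer (SetLike.coe R)

local notation:max "𝐍(" R ")" => Subgroup.normalizer (SetLike.coe R)

variable [Finite Ω] {p : ℕ} {q : ι → ℕ} {T V N : ι → Subgroup Ω} {W : ι → Set Ω}
  (A : Amb p q H S₀ T V N W)

local notation "Hx" v:max => at' H v
local notation "Tx" v:max => at' T v
local notation "Vx" v:max => at' V v
local notation "Nx" v:max => at' N v

include A

theorem Amb.bad_of_crit {b : ℕ} (hC : Comm H S₀ V b) (hb : 2 ≤ b) {w : ℕ → ι × Ω} {e : ℕ → Subgroup Ω}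
    (hw : Crit H S₀ V b w e) (hn : (Hx (w 0)) ≤ 𝐍((Vx (w 0)) ⊔ (Vx (w 1)))) :
    Bad (H := H) (S₀ := S₀) T V N (w 0) (w 1) (e 0) (Vx (w b)) := by
  obtain ⟨h1, h2, f1, f2, -, -, hR, hspan, -⟩ := A.crit_facts hC (by omega) hw
  have h0 := (hw.1 0 (by omega)).1
  have h1' := (hw.1 0 (by omega)).2
  rw [zero_add] at h1'
  have hcg : (Vx (w 1)) ≤ 𝐂(Vx (w b)) := by
    have h3 := hC (b - 1) (by omega) (fun i => w (i + 1)) (fun i => e (i + 1)) (fun i hi => hw.1 (i + 1) (by omega))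
    simp only [zero_add] at h3
    rwa [Nat.sub_add_cancel (by omega : 1 ≤ b)] at h3
  exact
    { hx := h0
      hg := h1'
      comm := A.comm_adj hC hb h0 h1'
      ne := fun e' => hw.2 (by rw [← (A.edge_at h0).CT, e', (A.edge_at h1').CT]; exact hcg)
      norm := hn
      B_le := h2
      B_sup := f2
      B_comm := Subgroup.le_centralizer_iff.1 hcg
      B_cent := fun v hv hc => A.crit_cent hC (by omega) hw hv hc
      B_R := hR.trans inf_le_left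
      span := hspan }

/-- The small members along a walk form a large subgroup of the first edge. -/
theorem Amb.lg_walk {b : ℕ} (hC : Comm H S₀ V b) :
    ∀ n, 1 ≤ n → n ≤ b → ∀ w e, Walk H S₀ n w e → Lg (e 0) (⨆ i : Fin n, (Vx (w (i + 1)))) := by
  intro n
  induction n with
  | zero => omega
  | succ n ih =>
    intro _ hn w e hw
    have h01 := (hw 0 (by omega)).2
    rw [zero_add] at h01
    rcases Nat.eq_zero_or_pos n with rfl | hpos
    · have e' : (⨆ i : Fin 1, (Vx (w ((i : ℕ) + 1)))) = (Vx (w 1)) :=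
        le_antisymm (iSup_le fun i => by fin_cases i; rfl) (le_iSup (fun i : Fin 1 => (Vx (w ((i : ℕ) + 1)))) 0)
      rw [e']
      exact (A.edge_at h01).toSide.lg_V
    have h11 := (hw 1 (by omega)).1
    have ih' := ih hpos (by omega) (fun i => w (i + 1)) (fun i => e (i + 1)) (fun i hi => hw (i + 1) (by omega))
    simp only [zero_add] at ih'
    have hl := (A.edge_at h11).toSide.lg_V.sup (A.edge_at h11).toSide.peak ih'
    have e' : (⨆ i : Fin (n + 1), (Vx (w ((i : ℕ) + 1)))) =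
        (Vx (w 1)) ⊔ ⨆ i : Fin n, (Vx (w ((i : ℕ) + 1 + 1))) := by
      refine le_antisymm (iSup_le fun i => ?_) (sup_le ?_ (iSup_le fun i => ?_))
      · rcases Nat.eq_zero_or_pos (i : ℕ) with h | h
        · rw [h]; exact le_sup_left
        · refine le_trans ?_ le_sup_right
          refine le_trans ?_ (le_iSup (fun j : Fin n => (Vx (w ((j : ℕ) + 1 + 1))))
            ⟨(i : ℕ) - 1, by have := i.2; omega⟩)
          simp only [Nat.sub_add_cancel h, le_refl]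
      · exact le_iSup (fun i : Fin (n + 1) => (Vx (w ((i : ℕ) + 1)))) 0
      · exact le_iSup (fun i : Fin (n + 1) => (Vx (w ((i : ℕ) + 1)))) i.succ
    have hle : (⨆ i : Fin (n + 1), (Vx (w ((i : ℕ) + 1)))) ≤ e 0 := by
      refine iSup_le fun i => ?_
      have hW : Walk H S₀ ((i : ℕ) + 1) w e := fun j hj => hw j (by have := i.2; omega)
      have h2 := A.reach hC ((i : ℕ) + 1) (by omega) (by have := i.2; omega) _ _ hW.rev
      simpa using h2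
    rw [e'] at hle ⊢
    exact A.lg_cross h11 h01 hl le_sup_left hle

namespace Bad

variable {x g : ι × Ω} {E B : Subgroup Ω} (D : Bad (H := H) (S₀ := S₀) T V N x g E B)
  (hnear : ∀ a ∈ at' H g, ∀ c ∈ at' H g, at' V (tr a x) ≤ 𝐂(at' V (tr c x)))

local notation "C" => at' V x ⊔ at' V g
local notation "T0" => at' T x ⊓ at' T g

include D

/-- The translates of the first small member around the second vertex. -/
theorem trans_facts {δ : Ω} (hδ : δ ∈ Hx g) :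
    Inc H S₀ (tr δ x) (cjg δ E) ∧ Inc H S₀ g (cjg δ E) ∧ (Vx (tr δ x)) ≤ (Tx g) ∧ (Tx g) ≤ cjg δ E ∧
      (Tx g) ≠ (Tx (tr δ x)) ∧ ⁅(Vx (tr δ x)), (Tx g)⁆ ≤ (Vx g) ∧
      cjg δ C = (Vx (tr δ x)) ⊔ (Vx g) := by
  have h1 := inc_translate (a := δ) D.hx
  have h2 := A.inc_move D.hg hδ
  refine ⟨h1, h2, ?_, (A.edge_at h2).T_le, fun h => D.ne ?_, ?_, ?_⟩
  · rw [at_tr, ← (A.tr_mem hδ).2.1]
    exact cjg_mono (D.V_le A)
  · rw [at_tr, ← (A.tr_mem hδ).2.1] at h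
    exact (Subgroup.map_injective (MulEquiv.injective _) h).symm
  · exact ((Subgroup.commutator_mono le_rfl (A.edge_at h2).T_le).trans (A.edge_at h1).comm).trans
      (A.edge_at h2).toSide.Z_le
  · rw [cjg_sup, at_tr, (A.tr_mem hδ).2.2]

include hnear

theorem trans_le {δ : Ω} (hδ : δ ∈ Hx g) : (Vx (tr δ x)) ≤ T0 := by
  obtain ⟨h1, h2, h3, -⟩ := D.trans_facts A hδ
  refine le_inf ?_ h3
  rw [← (A.edge_at D.hx).CV]
  exact le_inf (h3.trans (A.edge_at D.hg).T_le) (by simpa [tr_one] using hnear δ hδ 1 (Subgroup.one_mem _))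

/-- The contradiction from one commutator pairing with values fixed by the other end. -/
theorem key {γ δ v : Ω} (hγ : γ ∈ Hx x) (hopp : Opp H S₀ x E (cjg γ E)) (hδ : δ ∈ Hx g)
    (hopp' : Opp H S₀ g E (cjg δ E)) (hv : v ∈ T0) (hvy : v ∉ Tx (tr δ x))
    (hval : ∀ u ∈ Vx (tr δ x), ⁅u, v⁆ ∈ C ⊓ 𝐂(B ⊔ cjg γ B)) : False := by
  obtain ⟨A', hA, hAc, hl, hself, hAT, hTx, hE⟩ := D.big_in_T A hγ hopp
  have ex := A.edge_at D.hx
  have eg := A.edge_at D.hg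
  obtain ⟨t, ht, htg⟩ : ∃ t, t ∈ A' ⊓ (Tx x) ∧ t ∉ Tx g := by
    by_contra hno
    push Not at hno
    exact eg.toSide.not_le (hE.trans (sup_le (fun a ha => hno a ha) le_rfl))
  set y := tr δ x
  obtain ⟨hy, hgy, hyT, hTy, hney, hyc, hyC⟩ := D.trans_facts A hδ
  have ey := A.edge_at hy
  have egy := A.edge_at hgy
  set eδ := cjg δ E
  have hmem : ∀ s : ↥(A' ⊓ (Tx x)), (s : Ω) * δ ∈ Hx g := fun s =>
    (Hx g).mul_mem (eg.E_le (hA s.2.1)) hδ
  have hsV : ∀ s : ↥(A' ⊓ (Tx x)), cjg (s : Ω) (Vx y) = (Vx (tr ((s : Ω) * δ) x)) := fun s => by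
    rw [← at_tr, tr_tr]
  -- the large subgroup
  set Us := C ⊔ ⨆ s : ↥(A' ⊓ (Tx x)), ((Vx g) ⊔ cjg (s : Ω) (Vx y)) with hUs
  have hUT : Us ≤ T0 := sup_le (D.C_le A) (iSup_le fun s => sup_le (le_sup_right.trans (D.C_le A))
    (by rw [hsV]; exact D.trans_le A hnear (hmem s)))
  have hUc : Us ≤ 𝐂(Us) := by
    have hCU : Us ≤ 𝐂(C) := hUT.trans ((D.T0_eq A).ge.trans inf_le_right)
    have h2 : ∀ s : ↥(A' ⊓ (Tx x)), Us ≤ 𝐂((Vx g) ⊔ cjg (s : Ω) (Vx y)) := by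
      intro s
      rw [CfsgLib.ChermakDelgado.centralizer_sup]
      refine le_inf (hCU.trans (CfsgLib.ChermakDelgado.cent_mono le_sup_right)) ?_
      rw [hUs, hsV]
      refine sup_le (Subgroup.le_centralizer_iff.1 ?_) (iSup_le fun r => sup_le ?_ (by
        rw [hsV]; exact hnear _ (hmem r) _ (hmem s)))
      · exact (D.trans_le A hnear (hmem s)).trans ((D.T0_eq A).ge.trans inf_le_right)
      · exact Subgroup.le_centralizer_iff.1 ((D.trans_facts A (hmem s)).2.2.1.trans eg.toSide.T_cent)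
    rw [Subgroup.le_centralizer_iff]
    exact sup_le (Subgroup.le_centralizer_iff.1 hCU) (iSup_le fun s => Subgroup.le_centralizer_iff.1 (h2 s))
  have hUg : ⁅Us, (Tx g)⁆ ≤ (Vx g) := by
    have h0 : ⁅C, (Tx g)⁆ ≤ (Vx g) :=
      ((Subgroup.commutator_mono le_rfl eg.T_le).trans (D.C_edge A)).trans eg.toSide.Z_le
    rw [Subgroup.commutator_comm] at h0
    rw [Subgroup.commutator_comm, hUs]
    have hn : ∀ {Y : Subgroup Ω}, Y ≤ T0 → Y ≤ 𝐍(Vx g) := fun h => h.trans (inf_le_right.trans (eg.T_le.trans eg.nV))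
    refine commutator_sup_le h0 ?_ (hn hUT)
    rw [Subgroup.commutator_comm]
    rw [Subgroup.commutator_le]
    intro u hu τ hτ
    let K : Subgroup Ω :=
      { carrier := {u | u ∈ Us ∧ ∀ τ ∈ (Tx g), ⁅u, τ⁆ ∈ (Vx g)}
        one_mem' := ⟨Us.one_mem, fun τ _ => by rw [commutatorElement_one_left]; exact Subgroup.one_mem _⟩
        mul_mem' := fun {a c} ha hc => ⟨Us.mul_mem ha.1 hc.1, fun τ hτ => by
          rw [commutatorElement_mul_left_eq_conj_mul]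
          exact Subgroup.mul_mem _ ((Subgroup.mem_normalizer_iff.1 (hn hUT ha.1) _).1 (hc.2 τ hτ)) (ha.2 τ hτ)⟩
        inv_mem' := fun {a} ha => ⟨Us.inv_mem ha.1, fun τ hτ => by
          rw [show ⁅a⁻¹, τ⁆ = a⁻¹ * ⁅a, τ⁆⁻¹ * a by simp only [commutatorElement_def]; group]
          refine (Subgroup.mem_normalizer_iff.1 (hn hUT ha.1) _).2 ?_
          rw [show a * (a⁻¹ * ⁅a, τ⁆⁻¹ * a) * a⁻¹ = ⁅a, τ⁆⁻¹ by group]
          exact Subgroup.inv_mem _ (ha.2 τ hτ)⟩ }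
    have hK : (⨆ s : ↥(A' ⊓ (Tx x)), ((Vx g) ⊔ cjg (s : Ω) (Vx y))) ≤ K :=
      iSup_le fun s => sup_le
        (fun u hu => ⟨Subgroup.mem_sup_left (Subgroup.mem_sup_right hu), fun τ hτ => by
          rw [commutatorElement_eq_one_iff_commute.2 (Subgroup.mem_centralizer_iff.1 (eg.toSide.T_cent hτ) u hu)]
          exact Subgroup.one_mem _⟩)
        (fun u hu => ⟨Subgroup.mem_sup_right ((le_iSup (fun s : ↥(A' ⊓ (Tx x)) => (Vx g) ⊔ cjg (s : Ω) (Vx y)) s)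
            (Subgroup.mem_sup_right hu)), fun τ hτ => (D.trans_facts A (hmem s)).2.2.2.2.2.1
              (Subgroup.commutator_mem_commutator (hsV s ▸ hu) hτ)⟩)
    exact (hK hu).2 τ hτ
  have hUl : Lg E Us := by
    refine Lg.sup_iSup (ex.toSide.lg_V.sup ex.toSide.peak eg.toSide.lg_V) ex.toSide.peak fun s => ?_
    obtain ⟨i1, i2, i3, -⟩ := D.trans_facts A (hmem s)
    rw [hsV]
    exact A.lg_cross i2 D.hg ((A.edge_at i2).toSide.lg_V.sup (A.edge_at i2).toSide.peak (A.edge_at i1).toSide.lg_V)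
      le_sup_left (sup_le eg.toSide.V_le_E (i3.trans eg.T_le))
  have hCU : C ≤ Us := le_sup_left
  have hyU : (Vx y) ≤ Us := by
    refine le_trans ?_ ((le_iSup (fun s : ↥(A' ⊓ (Tx x)) => (Vx g) ⊔ cjg (s : Ω) (Vx y)) 1).trans le_sup_right)
    simp [cjg_one]
  have htU : cjg t Us ≤ Us := by
    have htH : t ∈ Hx g := eg.E_le (hA ht.1)
    have h1 : cjg t C ≤ Us := (cjg_of_mem (D.norm (ex.E_le (hA ht.1)))).le.trans hCU
    have h2 : cjg t (⨆ s : ↥(A' ⊓ (Tx x)), ((Vx g) ⊔ cjg (s : Ω) (Vx y))) ≤ Us := by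
      rw [cjg, Subgroup.map_iSup]
      refine iSup_le fun s => ?_
      change cjg t ((Vx g) ⊔ cjg (s : Ω) (Vx y)) ≤ Us
      rw [cjg_sup, (A.tr_mem htH).2.2, cjg_cjg]
      exact (le_iSup (fun s : ↥(A' ⊓ (Tx x)) => (Vx g) ⊔ cjg (s : Ω) (Vx y))
        ⟨t * s, Subgroup.mul_mem _ ht s.2⟩).trans le_sup_right
    conv_lhs => rw [hUs, cjg_sup]
    exact sup_le h1 h2
  -- counting
  set K0 := A' ⊓ (T0 ⊓ (Tx y)) with hK0
  have hcut : A' ⊓ (E ⊓ 𝐂(Us)) = K0 := by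
    refine le_antisymm ?_ ?_
    · rintro a ⟨ha, haE, hac⟩
      have haT0 : a ∈ T0 := (D.T0_eq A).le ⟨haE, CfsgLib.ChermakDelgado.cent_mono hCU hac⟩
      exact ⟨ha, haT0, ey.CV.le ⟨hTy haT0.2, CfsgLib.ChermakDelgado.cent_mono hyU hac⟩⟩
    · rintro a ⟨ha, haT0, hay⟩
      refine ⟨ha, hA ha, ?_⟩
      have haC : a ∈ 𝐂(C) := ((D.T0_eq A).ge haT0).2
      refine Subgroup.le_centralizer_iff.1 (sup_le (Subgroup.le_centralizer_iff.1
        (Subgroup.zpowers_le.2 haC)) (iSup_le fun s => Subgroup.le_centralizer_iff.1 ?_)) (Subgroup.mem_zpowers a)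
      rw [Subgroup.zpowers_le, CfsgLib.ChermakDelgado.centralizer_sup]
      refine ⟨CfsgLib.ChermakDelgado.cent_mono le_sup_right haC, ?_⟩
      rw [← cjg_centralizer]
      refine mem_cjg.2 ?_
      have h3 : (s : Ω)⁻¹ * a * s = a := by
        rw [mul_assoc, ← Subgroup.mem_centralizer_iff.1 (hAc ha) s s.2.1, inv_mul_cancel_left]
      rw [h3]
      exact ey.toSide.T_cent hay
  have c1 := hUl.card_cut ex.toSide.peak hl hself
  rw [hcut] at c1
  have c2 := (ex.toSide.lg_V.sup ex.toSide.peak eg.toSide.lg_V).card_cut ex.toSide.peak hl hself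
  rw [D.T0_eq A] at c2
  set H' := (A' ⊓ Us) ⊔ C with hH'
  have hH'U : H' ≤ Us := sup_le inf_le_right hCU
  have c3 := CfsgLib.Coprime.card_sup_mul_card_inf (H := A' ⊓ Us) (N := C)
    (((inf_le_right.trans hUT).trans ((D.T0_eq A).ge.trans inf_le_right)).trans (Subgroup.centralizer_le_normalizer _))
  rw [show C ⊓ (A' ⊓ Us) = A' ⊓ C from le_antisymm (le_inf (inf_le_right.trans inf_le_left) inf_le_left)
    (le_inf inf_le_right (le_inf inf_le_left (inf_le_right.trans hCU)))] at c3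
  have c4 : Nat.card ↥Us * Nat.card ↥K0 = Nat.card ↥H' * Nat.card ↥(A' ⊓ T0) := by
    refine Nat.eq_of_mul_eq_mul_right (Nat.card_pos (α := ↥(A' ⊓ C))) ?_
    calc Nat.card ↥Us * Nat.card ↥K0 * Nat.card ↥(A' ⊓ C)
        = Nat.card ↥(A' ⊓ Us) * (Nat.card ↥(A' ⊓ C) * Nat.card ↥A') := by rw [c1]; ring
      _ = (Nat.card ↥H' * Nat.card ↥(A' ⊓ C)) * Nat.card ↥(A' ⊓ T0) := by rw [← c2, hH', c3]; ring
      _ = _ := by ring
  have hTg : Nat.card ↥(Tx g) = q y.1 * Nat.card ↥((Tx g) ⊓ (Tx y)) := (egy.toSide.twin ey.toSide hney).2.2.1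
  have hi : (A' ⊓ T0) ⊓ ((Tx g) ⊓ (Tx y)) ≤ K0 := fun a ha => ⟨ha.1.1, ha.1.2, ha.2.2⟩
  have hJ : (A' ⊓ T0) ⊔ ((Tx g) ⊓ (Tx y)) ≤ (Tx g) := sup_le (inf_le_right.trans inf_le_right) inf_le_left
  have c5 := (CfsgLib.LocalEvenSix.card_mul_card_le (A' ⊓ T0) ((Tx g) ⊓ (Tx y))).trans
    (Nat.mul_le_mul_left _ (Subgroup.card_le_of_le hi))
  have c6 : Nat.card ↥(A' ⊓ T0) ≤ q y.1 * Nat.card ↥K0 := by
    refine Nat.le_of_mul_le_mul_right ?_ (Nat.card_pos (α := ↥((Tx g) ⊓ (Tx y))))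
    calc Nat.card ↥(A' ⊓ T0) * Nat.card ↥((Tx g) ⊓ (Tx y))
        ≤ Nat.card ↥(Tx g) * Nat.card ↥K0 := c5.trans (Nat.mul_le_mul_right _ (Subgroup.card_le_of_le hJ))
      _ = _ := by rw [hTg]; ring
  -- the equaliser of the pairing and its translate
  have hvg : v ∈ Tx g := hv.2
  have hve : v ∈ eδ := hTy hvg
  have hcm : ∀ {a c : Ω}, a ∈ Us → c ∈ Us → ∀ {τ}, τ ∈ (Tx g) → ⁅a * c, τ⁆ = ⁅c, τ⁆ * ⁅a, τ⁆ := by
    intro a c ha hc τ hτ
    rw [commutatorElement_mul_left_eq_conj_mul, (show Commute a ⁅c, τ⁆ from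
      Subgroup.mem_centralizer_iff.1 (hUc (hCU (Subgroup.mem_sup_right (hUg (Subgroup.commutator_mem_commutator hc hτ))))) a ha).eq,
      mul_inv_cancel_right]
  have hci : ∀ {a : Ω}, a ∈ Us → ∀ {τ}, τ ∈ (Tx g) → ⁅a⁻¹, τ⁆ = ⁅a, τ⁆⁻¹ := by
    intro a ha τ hτ
    have h1 := hcm ha (Us.inv_mem ha) hτ
    rw [mul_inv_cancel, commutatorElement_one_left] at h1
    exact eq_inv_of_mul_eq_one_left h1.symm
  have htmem : ∀ {u : Ω}, u ∈ Us → t * u * t⁻¹ ∈ Us := fun hu => htU (conj_mem_cjg hu)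
  let P : Subgroup Ω :=
    { carrier := {u | u ∈ Us ∧ ⁅t * u * t⁻¹, v⁆ = ⁅u, v⁆}
      one_mem' := ⟨Us.one_mem, by rw [mul_one, mul_inv_cancel]⟩
      mul_mem' := fun {a c} ha hc => ⟨Us.mul_mem ha.1 hc.1, by
        rw [show t * (a * c) * t⁻¹ = (t * a * t⁻¹) * (t * c * t⁻¹) by group,
          hcm (htmem ha.1) (htmem hc.1) hvg, hcm ha.1 hc.1 hvg, ha.2, hc.2]⟩
      inv_mem' := fun {a} ha => ⟨Us.inv_mem ha.1, by
        rw [show t * a⁻¹ * t⁻¹ = (t * a * t⁻¹)⁻¹ by group, hci (htmem ha.1) hvg, hci ha.1 hvg, ha.2]⟩ }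
  have hH'P : H' ≤ P := by
    refine sup_le (fun u hu => ⟨hu.2, ?_⟩) fun u hu => ⟨hCU hu, ?_⟩
    · rw [Subgroup.mem_centralizer_iff.1 (hAc hu.1) t ht.1, mul_inv_cancel_right]
    · have h1 : t * u * t⁻¹ ∈ C := (cjg_of_mem (D.norm (ex.E_le (hA ht.1)))).le (conj_mem_cjg hu)
      have hz : ∀ {c}, c ∈ C → ⁅c, v⁆ = 1 := fun hc => commutatorElement_eq_one_iff_commute.2
        (Subgroup.mem_centralizer_iff.1 ((D.T0_eq A).ge hv).2 _ hc)
      rw [hz h1, hz hu]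
  have hoppt : Opp H S₀ g eδ (cjg t eδ) := A.reg_at hopp' (hA ht.1) htg
  have hval_e : ∀ {u τ : Ω}, u ∈ Vx y → τ ∈ eδ → ⁅u, τ⁆ ∈ eδ ⊓ 𝐂(eδ) := fun hu hτ =>
    ey.comm (Subgroup.commutator_mem_commutator hu hτ)
  have hval_t : ∀ {u τ : Ω}, u ∈ Vx y → τ ∈ (Tx g) →
      ⁅t * u * t⁻¹, τ⁆ ∈ cjg t eδ ⊓ 𝐂(cjg t eδ) := by
    intro u τ hu hτ
    have h1 := inc_translate (a := t) hy
    refine (A.edge_at h1).comm (Subgroup.commutator_mem_commutator ?_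
      ((A.edge_at (A.inc_move hgy (eg.E_le (hA ht.1)))).T_le hτ))
    rw [at_tr]; exact conj_mem_cjg hu
  have hN : ∀ {u : Ω}, u ∈ Vx y → ⁅u, v⁆ ∈ Nx g → u ∈ eδ ⊓ 𝐂(eδ) := by
    intro u hu hr
    refine ⟨ey.toSide.V_le_E hu, ey.fixed u hu v hve hvy ?_⟩
    have hNx : ⁅u, v⁆ ∈ Nx x := D.MC_Z A hγ hopp ⟨hval u hu, (A.N_facts D.hg).1 hr⟩
    have hfix := Subgroup.mem_centralizer_iff.1 ((A.N_facts D.hg).2.2 hr) δ hδ
    have e1 : δ * ⁅u, v⁆ * δ⁻¹ = ⁅u, v⁆ := by rw [hfix, mul_inv_cancel_right]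
    rw [← e1, at_tr]
    exact conj_mem_cjg hNx
  have hPy : P ⊓ (Vx y) ≤ eδ ⊓ 𝐂(eδ) := by
    intro u hu
    refine hN hu.2 (A.zz_le hoppt ⟨hval_e hu.2 hve, ?_⟩)
    rw [← hu.1.2]
    exact hval_t hu.2 hvg
  have hPU : P ≤ Us := fun u hu => hu.1
  have c7 := (CfsgLib.LocalEvenSix.card_mul_card_le P (Vx y)).trans
    (Nat.mul_le_mul_left _ (Subgroup.card_le_of_le hPy))
  rw [ey.cardV, ← mul_assoc] at c7
  have c8 : Nat.card ↥P * q y.1 ≤ Nat.card ↥(P ⊔ (Vx y)) := Nat.le_of_mul_le_mul_right c7 Nat.card_pos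
  have c9 := Subgroup.card_le_of_le (sup_le hPU hyU)
  have c10 := Subgroup.card_le_of_le hH'P
  have c11 : Nat.card ↥Us ≤ q y.1 * Nat.card ↥H' := by
    refine Nat.le_of_mul_le_mul_right ?_ (Nat.card_pos (α := ↥K0))
    rw [c4]
    calc Nat.card ↥H' * Nat.card ↥(A' ⊓ T0) ≤ Nat.card ↥H' * (q y.1 * Nat.card ↥K0) := Nat.mul_le_mul_left _ c6
      _ = _ := by ring
  have c12 : q y.1 * Nat.card ↥H' ≤ q y.1 * Nat.card ↥P := Nat.mul_le_mul_left _ c10
  have hq : 0 < q y.1 := lt_of_lt_of_le two_pos ey.two_le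
  have hsupP : P ⊔ (Vx y) = Us := Subgroup.eq_of_le_of_card_ge (sup_le hPU hyU) (by
    calc Nat.card ↥Us ≤ q y.1 * Nat.card ↥P := c11.trans c12
      _ ≤ _ := by rw [mul_comm]; exact c8)
  have hPH : H' = P := Subgroup.eq_of_le_of_card_ge hH'P (Nat.le_of_mul_le_mul_left (by
    rw [mul_comm (q y.1)]
    exact (c8.trans c9).trans c11) hq)
  have hsurj : (A' ⊓ T0) ⊔ ((Tx g) ⊓ (Tx y)) = (Tx g) := by
    refine Subgroup.eq_of_le_of_card_ge hJ ?_
    have h1 : q y.1 * Nat.card ↥K0 ≤ Nat.card ↥(A' ⊓ T0) := by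
      refine Nat.le_of_mul_le_mul_left ?_ (Nat.card_pos (α := ↥H'))
      calc Nat.card ↥H' * (q y.1 * Nat.card ↥K0) = q y.1 * Nat.card ↥P * Nat.card ↥K0 := by rw [hPH]; ring
        _ ≤ Nat.card ↥Us * Nat.card ↥K0 := Nat.mul_le_mul_right _ (by rw [mul_comm]; exact c8.trans c9)
        _ = _ := c4
    refine Nat.le_of_mul_le_mul_right ?_ (Nat.card_pos (α := ↥K0))
    refine le_trans ?_ c5
    rw [hTg]
    calc q y.1 * Nat.card ↥((Tx g) ⊓ (Tx y)) * Nat.card ↥K0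
        = q y.1 * Nat.card ↥K0 * Nat.card ↥((Tx g) ⊓ (Tx y)) := by ring
      _ ≤ _ := Nat.mul_le_mul_right _ h1
  obtain ⟨a, ha, τ, hτ, rfl⟩ := CfsgLib.Coprime.exists_mul_of_mem_sup
    ((inf_le_right.trans inf_le_right).trans (hTy.trans (le_normalizer_inf' egy.nT ey.nT))) (hsurj.ge hvg)
  have hag : a ∈ Tx g := ha.2.2
  have hau : ∀ {u : Ω}, u ∈ Vx y → ⁅u, a * τ⁆ = ⁅u, a⁆ := fun {u} hu => by
    rw [commutatorElement_mul_right_eq_mul_conj, commutatorElement_eq_one_iff_commute.2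
      (show Commute u τ from (Subgroup.mem_centralizer_iff.1 (ey.toSide.T_cent hτ.2) u hu)), mul_one, mul_inv_cancel_right]
  obtain ⟨u, hu, huz⟩ : ∃ u ∈ Vx y, u ∉ eδ ⊓ 𝐂(eδ) := by
    by_contra hno
    push Not at hno
    have h1 := Subgroup.card_le_of_le (fun u hu => hno u hu : (Vx y) ≤ eδ ⊓ 𝐂(eδ))
    rw [ey.cardV] at h1
    have h2 := ey.two_le
    have h3 : 0 < Nat.card ↥(eδ ⊓ 𝐂(eδ)) := Nat.card_pos
    nlinarith
  refine huz (hN hu ?_)
  rw [hau hu]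
  obtain ⟨h, hh, u', hu', e⟩ := CfsgLib.Coprime.exists_mul_of_mem_sup (H := P) (N := (Vx y))
    (((hPU.trans hUc).trans (CfsgLib.ChermakDelgado.cent_mono hyU)).trans (Subgroup.centralizer_le_normalizer _))
    (hsupP.ge (htmem (hyU hu)))
  have hha : ⁅h, a⁆ = 1 := by
    have h1 : h ∈ Subgroup.centralizer ({a} : Set Ω) := by
      refine (sup_le ?_ ?_ : H' ≤ _) (hPH.ge hh)
      · exact fun c hc => Subgroup.mem_centralizer_singleton_iff.2 (Subgroup.mem_centralizer_iff.1 (hAc hc.1) a ha.1).symm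
      · exact fun c hc => Subgroup.mem_centralizer_singleton_iff.2
          (Subgroup.mem_centralizer_iff.1 ((D.T0_eq A).ge ha.2).2 c hc)
    exact commutatorElement_eq_one_iff_mul_comm.2 (Subgroup.mem_centralizer_singleton_iff.1 h1)
  have hta : Commute t a := (Subgroup.mem_centralizer_iff.1 (hAc ha.1) t ht.1)
  have e2 : t * ⁅u, a⁆ * t⁻¹ = ⁅u', a⁆ := by
    rw [show t * ⁅u, a⁆ * t⁻¹ = ⁅t * u * t⁻¹, t * a * t⁻¹⁆ by simp only [commutatorElement_def]; group,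
      hta.eq, mul_inv_cancel_right, e, hcm (hPU hh) (hyU hu') hag, hha, mul_one]
  have hmem2 : t * ⁅u, a⁆ * t⁻¹ ∈ Nx g := by
    refine A.zz_le hoppt ⟨e2 ▸ hval_e hu' (hTy hag), ?_⟩
    rw [show t * ⁅u, a⁆ * t⁻¹ = ⁅t * u * t⁻¹, t * a * t⁻¹⁆ by simp only [commutatorElement_def]; group,
      hta.eq, mul_inv_cancel_right]
    exact hval_t hu hag
  have h4 := Subgroup.mem_centralizer_iff.1 ((A.N_facts D.hg).2.2 hmem2) t (eg.E_le (hA ht.1))
  have e3 : ⁅u, a⁆ = t * ⁅u, a⁆ * t⁻¹ := by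
    calc ⁅u, a⁆ = t⁻¹ * ((t * ⁅u, a⁆ * t⁻¹) * t) := by group
      _ = t⁻¹ * (t * (t * ⁅u, a⁆ * t⁻¹)) := by rw [h4]
      _ = _ := by group
  rw [e3]
  exact hmem2

end Bad

theorem Amb.auto_long [hp : Fact p.Prime] {b : ℕ} (hC : Comm H S₀ V b) (hb : 3 ≤ b) {w : ℕ → ι × Ω}
    {e : ℕ → Subgroup Ω} (hw : Crit H S₀ V b w e) : ¬ (Hx (w 0)) ≤ 𝐍((Vx (w 0)) ⊔ (Vx (w 1))) := by
  classical
  intro hn
  have D := A.bad_of_crit hC (by omega) hw hn
  have hnear : ∀ a ∈ Hx (w 1), ∀ c ∈ Hx (w 1), (Vx (tr a (w 0))) ≤ 𝐂(Vx (tr c (w 0))) := by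
    intro a ha c hc
    refine hC 2 (by omega) (fun i => if i = 0 then tr a (w 0) else if i = 1 then w 1 else tr c (w 0))
      (fun i => if i = 0 then cjg a (e 0) else cjg c (e 0)) fun i hi => ?_
    match i, hi with
    | 0, _ => exact ⟨inc_translate D.hx, A.inc_move D.hg ha⟩
    | 1, _ => exact ⟨A.inc_move D.hg hc, inc_translate D.hx⟩
  have hwi : ∀ a ∈ Hx (w 1), ∀ i, 1 ≤ i → i < b → (Vx (tr a (w 0))) ≤ 𝐂(Vx (w i)) := by
    intro a ha i hi1 hib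
    have h1 := hC i hib (fun j => if j = 0 then tr a (w 0) else w j) (fun j => if j = 0 then cjg a (e 0) else e j)
      (fun j hj => by
        rcases Nat.eq_zero_or_pos j with rfl | hpos
        · simp only [if_true, zero_add, show (1 : ℕ) ≠ 0 from one_ne_zero, if_false]
          exact ⟨inc_translate D.hx, A.inc_move D.hg ha⟩
        · simp only [show j ≠ 0 by omega, if_false, show j + 1 ≠ 0 by omega]
          exact hw.1 j (by omega))
    simpa [show i ≠ 0 by omega] using h1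
  have ex := A.edge_at D.hx
  have eg := A.edge_at D.hg
  set x := w 0
  set g := w 1
  set E := e 0
  set B := (Vx (w b))
  by_cases hall : ∀ δ ∈ Hx g, Opp H S₀ g E (cjg δ E) → (Tx x) ⊓ (Tx g) ≤ (Tx (tr δ x))
  · obtain ⟨E', hopp⟩ := A.exists_opp D.hg
    obtain ⟨δ, hδ, rfl⟩ := A.mover D.hg hopp.2.1
    obtain ⟨h1, h2, -, -, -, -, hcC⟩ := D.trans_facts A hδ
    have hVy : (Vx (tr δ x)) ≤ (Vx x) ⊔ (Vx g) := by
      rw [← (D.twin A).2.1]
      exact le_inf ((D.trans_le A hnear hδ).trans (inf_le_left.trans ex.T_le))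
        (Subgroup.le_centralizer_iff.1 ((hall δ hδ hopp).trans (A.edge_at h1).toSide.T_cent))
    have hCeq : cjg δ ((Vx x) ⊔ (Vx g)) = (Vx x) ⊔ (Vx g) := by
      refine Subgroup.eq_of_le_of_card_ge ?_ (card_cjg _ _).ge
      rw [hcC]; exact sup_le hVy le_sup_right
    have hEn : E ≤ 𝐍((Vx x) ⊔ (Vx g)) := le_normalizer_sup ex.nV eg.nV
    have hgn : (Hx g) ≤ 𝐍((Vx x) ⊔ (Vx g)) := by
      refine hopp.2.2.trans (sup_le hEn ?_)
      have h3 := cjg_normalizer (a := δ) hEn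
      rwa [hCeq] at h3
    obtain ⟨γ', hγ', he⟩ := A.mover D.hg (hw.1 1 (by omega)).1
    have hu : Inc H S₀ (tr γ' x) (e 1) := he ▸ inc_translate D.hx
    have hcC' := (D.trans_facts A hγ').2.2.2.2.2.2
    refine hw.2 ((le_sup_left : (Vx x) ≤ (Vx x) ⊔ (Vx g)).trans ((cjg_of_mem (hgn hγ')).ge.trans ?_))
    rw [hcC']
    refine sup_le ?_ (Subgroup.le_centralizer_iff.1 D.B_comm)
    have h1 := hC (b - 1) (by omega) (fun i => if i = 0 then tr γ' x else w (i + 1)) (fun i => e (i + 1))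
      (fun i hi => by
        rcases Nat.eq_zero_or_pos i with rfl | hpos
        · simp only [if_true, zero_add, show (1 : ℕ) ≠ 0 from one_ne_zero, if_false]
          exact ⟨hu, (hw.1 1 (by omega)).2⟩
        · simp only [show i ≠ 0 by omega, if_false, show i + 1 ≠ 0 by omega]
          exact hw.1 (i + 1) (by omega))
    simp only [if_true, show b - 1 ≠ 0 by omega, if_false] at h1
    rwa [Nat.sub_add_cancel (by omega : 1 ≤ b)] at h1
  push Not at hall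
  obtain ⟨δ₀, hδ₀, hopp₀, hnle⟩ := hall
  obtain ⟨v₀, hv₀, hv₀y⟩ := SetLike.not_le_iff_exists.1 hnle
  obtain ⟨E', hopp⟩ := A.exists_opp D.hx
  obtain ⟨γ, hγ, rfl⟩ := A.mover D.hx hopp.2.1
  obtain ⟨k, hk, hkE⟩ := D.exists_L A hγ hopp hγ
  have hkH : k ∈ Hx x := D.L_le A hγ hopp hk
  set U1 := ((Vx x) ⊔ (Vx g)) ⊔ ⨆ δ : {δ // δ ∈ Hx g ∧ Opp H S₀ g E (cjg δ E)}, (Vx (tr (δ : Ω) x)) with hU1
  have hU1T : U1 ≤ (Tx x) ⊓ (Tx g) := sup_le (D.C_le A) (iSup_le fun δ => D.trans_le A hnear δ.2.1)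
  have hU1g : ∀ u ∈ U1, ∀ τ ∈ Tx g, ⁅u, τ⁆ ∈ Vx g := by
    have hn : ∀ {c}, c ∈ U1 → c ∈ 𝐍(Vx g) := fun hc => eg.nV (eg.T_le (hU1T hc).2)
    let K : Subgroup Ω :=
      { carrier := {u | u ∈ U1 ∧ ∀ τ ∈ (Tx g), ⁅u, τ⁆ ∈ (Vx g)}
        one_mem' := ⟨U1.one_mem, fun τ _ => by rw [commutatorElement_one_left]; exact Subgroup.one_mem _⟩
        mul_mem' := fun {a c} ha hc => ⟨U1.mul_mem ha.1 hc.1, fun τ hτ => by
          rw [commutatorElement_mul_left_eq_conj_mul]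
          exact Subgroup.mul_mem _ ((Subgroup.mem_normalizer_iff.1 (hn ha.1) _).1 (hc.2 τ hτ)) (ha.2 τ hτ)⟩
        inv_mem' := fun {a} ha => ⟨U1.inv_mem ha.1, fun τ hτ => by
          rw [show ⁅a⁻¹, τ⁆ = a⁻¹ * ⁅a, τ⁆⁻¹ * a by simp only [commutatorElement_def]; group]
          refine (Subgroup.mem_normalizer_iff.1 (hn ha.1) _).2 ?_
          rw [show a * (a⁻¹ * ⁅a, τ⁆⁻¹ * a) * a⁻¹ = ⁅a, τ⁆⁻¹ by group]
          exact Subgroup.inv_mem _ (ha.2 τ hτ)⟩ }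
    have hK : U1 ≤ K := sup_le
      (fun u hu => ⟨Subgroup.mem_sup_left hu, fun τ hτ => eg.toSide.Z_le
        (D.C_edge A (Subgroup.commutator_mem_commutator hu (eg.T_le hτ)))⟩)
      (iSup_le fun δ u hu => ⟨Subgroup.mem_sup_right
        (le_iSup (fun δ : {δ // δ ∈ Hx g ∧ Opp H S₀ g E (cjg δ E)} => (Vx (tr (δ : Ω) x))) δ hu),
        fun τ hτ => (D.trans_facts A δ.2.1).2.2.2.2.2.1 (Subgroup.commutator_mem_commutator hu hτ)⟩)
    exact fun u hu => (hK hu).2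
  have hkT0 : cjg k ((Tx x) ⊓ (Tx g)) = (Tx x) ⊓ (Tx g) := cjg_of_mem (D.T0_norm A hkH)
  -- the part of `k (Vg)` centralized by `B`
  have hkV : ∀ {γ : Ω}, γ ∈ Hx x → Opp H S₀ x E (cjg γ E) → ∀ {k : Ω}, k ∈ B ⊔ cjg γ B →
      cjg k E = cjg γ E → ∀ r ∈ cjg k (Vx g), (r ∈ 𝐂(B) ∨ r ∈ Vx g) →
        r ∈ ((Vx x) ⊔ (Vx g)) ⊓ 𝐂(B ⊔ cjg γ B) := by
    intro γ hγ hopp k hk hkE r hr hrc
    set M := ((Vx x) ⊔ (Vx g)) ⊓ 𝐂(B ⊔ cjg γ B)
    have hM : cjg k M = M := by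
      refine cjg_of_mem (Subgroup.centralizer_le_normalizer _ ?_)
      exact Subgroup.mem_centralizer_iff.2 fun m hm => (Subgroup.mem_centralizer_iff.1 hm.2 k hk).symm
    have h1 := cjg_mono (a := k) (D.Vg_decomp A hγ hopp) hr
    rw [cjg_sup, hM, cjg_inf, cjg_centralizer, hkE] at h1
    obtain ⟨z, hz, m, hm, rfl⟩ := CfsgLib.Coprime.exists_mul_of_mem_sup
      (((A.edge_at hopp.2.1).toSide.Z_le.trans le_sup_left).trans ((D.C_comm A).trans
        ((CfsgLib.ChermakDelgado.cent_mono inf_le_left).trans (Subgroup.centralizer_le_normalizer _)))) h1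
    refine M.mul_mem (D.N_le_MC A hγ hopp (A.zz_le hopp ⟨?_, hz⟩)) hm
    have hzV := (A.edge_at hopp.2.1).toSide.Z_le hz
    rcases hrc with hc | hc
    · refine D.B_cent z hzV ?_
      have h2 := Subgroup.mul_mem _ hc (Subgroup.inv_mem _ (CfsgLib.ChermakDelgado.cent_mono le_sup_left hm.2))
      rwa [mul_inv_cancel_right] at h2
    · rw [← ex.toSide.twin_inf eg.toSide D.ne]
      exact ⟨hzV, (Subgroup.mul_mem_cancel_right _ (D.MC_le A hγ hopp hm)).1 hc⟩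
  by_cases hk1 : ∀ i, 1 ≤ i → i < b → cjg k U1 ≤ 𝐂(Vx (w i))
  · -- all commute
    have hdec : ∀ Y : Subgroup Ω, (Vx x) ≤ Y → Y ≤ E → (∀ i, 1 ≤ i → i < b → Y ≤ 𝐂(Vx (w i))) →
        Y ≤ (Vx x) ⊔ (Y ⊓ 𝐂(B)) := by
      intro Y hVY hYE hY
      obtain ⟨-, -, -, -, -, -, -, -, hq⟩ := A.crit_facts hC (by omega) hw
      set Wl := ⨆ i : Fin (b - 1), (Vx (w ((i : ℕ) + 1))) with hWl
      have hl1 : Lg E Wl := A.lg_walk hC (b - 1) (by omega) (by omega) w e fun i hi => hw.1 i (by omega)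
      have hl2 : Lg E (Wl ⊔ B) := by
        have h := A.lg_walk hC b (by omega) le_rfl w e hw.1
        have e' : (⨆ i : Fin b, (Vx (w ((i : ℕ) + 1)))) = Wl ⊔ B := by
          refine le_antisymm (iSup_le fun i => ?_) (sup_le (iSup_le fun i => ?_) ?_)
          · rcases Nat.lt_or_ge (i : ℕ) (b - 1) with h' | h'
            · exact (le_iSup (fun i : Fin (b - 1) => (Vx (w ((i : ℕ) + 1)))) ⟨i, h'⟩).trans le_sup_left
            · rw [show (i : ℕ) + 1 = b by have := i.2; omega]; exact le_sup_right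
          · exact le_iSup (fun i : Fin b => (Vx (w ((i : ℕ) + 1)))) ⟨i, by have := i.2; omega⟩
          · have h2 := le_iSup (fun i : Fin b => (Vx (w ((i : ℕ) + 1)))) ⟨b - 1, by omega⟩
            simp only [Nat.sub_add_cancel (by omega : 1 ≤ b)] at h2
            exact h2
        rwa [e'] at h
      have hWB : Wl ≤ 𝐂(B) := iSup_le fun i => by
        have h1 := hC (b - ((i : ℕ) + 1)) (by omega) (fun j => w ((i : ℕ) + 1 + j)) (fun j => e ((i : ℕ) + 1 + j))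
          (fun j hj => hw.1 ((i : ℕ) + 1 + j) (by omega))
        simp only [Nat.add_zero, show (i : ℕ) + 1 + (b - ((i : ℕ) + 1)) = b by have := i.2; omega] at h1
        exact h1
      have hF := A.edge_at (hw.1 (b - 1) (by omega)).2
      rw [Nat.sub_add_cancel (by omega : 1 ≤ b)] at hF
      have hF' := A.edge_at (hw.1 (b - 1) (by omega)).1
      have hZF : e (b - 1) ⊓ 𝐂(e (b - 1)) ≤ B ⊓ Wl := le_inf hF.toSide.Z_le (hF'.toSide.Z_le.trans (by
        have h2 := le_iSup (fun i : Fin (b - 1) => (Vx (w ((i : ℕ) + 1)))) ⟨b - 2, by omega⟩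
        simp only [show b - 2 + 1 = b - 1 by omega] at h2
        exact h2))
      have c1 := CfsgLib.Coprime.card_sup_mul_card_inf (H := Wl) (N := B)
        (hWB.trans (Subgroup.centralizer_le_normalizer _))
      have hCW : E ⊓ 𝐂(Wl ⊔ B) ≤ E ⊓ 𝐂(Wl) := inf_le_inf_left _ (CfsgLib.ChermakDelgado.cent_mono le_sup_left)
      have hVW : (Vx x) ≤ E ⊓ 𝐂(Wl) := le_inf ex.toSide.V_le_E (Subgroup.le_centralizer_iff.1 (iSup_le fun i =>
        Subgroup.le_centralizer_iff.1 (by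
          have h2 := hwi 1 (Subgroup.one_mem _) ((i : ℕ) + 1) (by omega) (by have := i.2; omega)
          rwa [tr_one] at h2)))
      have hinf : (Vx x) ⊓ (E ⊓ 𝐂(Wl ⊔ B)) ≤ E ⊓ 𝐂(E) := fun v hv =>
        D.B_cent v hv.1 (CfsgLib.ChermakDelgado.cent_mono le_sup_right hv.2.2)
      have hsup : (Vx x) ⊔ (E ⊓ 𝐂(Wl ⊔ B)) = E ⊓ 𝐂(Wl) := by
        refine Subgroup.eq_of_le_of_card_ge (sup_le hVW hCW) ?_
        have c2 := (CfsgLib.LocalEvenSix.card_mul_card_le (Vx x) (E ⊓ 𝐂(Wl ⊔ B))).trans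
          (Nat.mul_le_mul_left _ (Subgroup.card_le_of_le hinf))
        rw [ex.cardV] at c2
        have c3 : Nat.card ↥(Wl ⊔ B) ≤ q x.1 * Nat.card ↥Wl := by
          refine Nat.le_of_mul_le_mul_right ?_ (Nat.card_pos (α := ↥(e (b - 1) ⊓ 𝐂(e (b - 1)))))
          calc Nat.card ↥(Wl ⊔ B) * Nat.card ↥(e (b - 1) ⊓ 𝐂(e (b - 1)))
              ≤ Nat.card ↥Wl * Nat.card ↥B := c1 ▸ Nat.mul_le_mul_left _ (Subgroup.card_le_of_le hZF)
            _ = _ := by rw [hF.cardV, hq]; ring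
        have c4 : Nat.card ↥(E ⊓ 𝐂(Wl)) ≤ q x.1 * Nat.card ↥(E ⊓ 𝐂(Wl ⊔ B)) := by
          refine Nat.le_of_mul_le_mul_left ?_ (Nat.card_pos (α := ↥Wl))
          calc Nat.card ↥Wl * Nat.card ↥(E ⊓ 𝐂(Wl)) = Nat.card ↥(Wl ⊔ B) * Nat.card ↥(E ⊓ 𝐂(Wl ⊔ B)) :=
                (hl1.eq ex.toSide.peak).trans (hl2.eq ex.toSide.peak).symm
            _ ≤ q x.1 * Nat.card ↥Wl * Nat.card ↥(E ⊓ 𝐂(Wl ⊔ B)) := Nat.mul_le_mul_right _ c3
            _ = _ := by ring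
        refine c4.trans (Nat.le_of_mul_le_mul_right ?_ (Nat.card_pos (α := ↥(E ⊓ 𝐂(E)))))
        calc q x.1 * Nat.card ↥(E ⊓ 𝐂(Wl ⊔ B)) * Nat.card ↥(E ⊓ 𝐂(E))
            = q x.1 * Nat.card ↥(E ⊓ 𝐂(E)) * Nat.card ↥(E ⊓ 𝐂(Wl ⊔ B)) := by ring
          _ ≤ _ := c2
      intro y hy
      have hy' : y ∈ E ⊓ 𝐂(Wl) := ⟨hYE hy, Subgroup.le_centralizer_iff.1 (iSup_le fun i =>
        Subgroup.le_centralizer_iff.1 (hY _ (by omega) (by have := i.2; omega))) hy⟩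
      obtain ⟨m, hm, v, hv, rfl⟩ := CfsgLib.Coprime.exists_mul_of_mem_sup (H := E ⊓ 𝐂(Wl ⊔ B)) (N := (Vx x))
        (inf_le_left.trans ex.nV) ((hsup.ge.trans (sup_comm _ _).le) hy')
      exact Subgroup.mul_mem _ (Subgroup.mem_sup_right ⟨(Subgroup.mul_mem_cancel_right _ (hVY hv)).1 hy,
        CfsgLib.ChermakDelgado.cent_mono le_sup_right hm.2⟩) (Subgroup.mem_sup_left hv)
    have hd1 : U1 ≤ (Vx x) ⊔ (U1 ⊓ 𝐂(B)) := by
      refine hdec U1 (le_sup_left.trans le_sup_left) (hU1T.trans (inf_le_left.trans ex.T_le)) fun i h1 h2 => ?_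
      refine sup_le (sup_le ?_ ?_) (iSup_le fun δ => hwi _ δ.2.1 i h1 h2)
      · have := hwi 1 (Subgroup.one_mem _) i h1 h2
        rwa [tr_one] at this
      · have h3 := hC (i - 1) (by omega) (fun j => w (j + 1)) (fun j => e (j + 1))
          (fun j hj => hw.1 (j + 1) (by omega))
        simp only [zero_add, Nat.sub_add_cancel h1] at h3
        exact h3
    have hd2 : U1 ≤ (Vx x) ⊔ (U1 ⊓ 𝐂(cjg k⁻¹ B)) := by
      have h1 : (Vx x) ≤ cjg k U1 :=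
        (A.tr_mem hkH).2.2.ge.trans (cjg_mono (le_sup_left.trans le_sup_left))
      have h2 := hdec (cjg k U1) h1
        ((cjg_mono hU1T).trans (hkT0.le.trans (inf_le_left.trans ex.T_le))) hk1
      rw [← cjg_inj (a := k), cjg_sup k (Vx x) (U1 ⊓ _), cjg_inf, cjg_centralizer, (A.tr_mem hkH).2.2, cjg_cjg, mul_inv_cancel,
        cjg_one]
      exact h2
    have hk' : k⁻¹ ∈ Hx x := Subgroup.inv_mem _ hkH
    have hopp' : Opp H S₀ x E (cjg k⁻¹ E) := by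
      have h := A.opp_move (γ := k⁻¹) hopp hk'
      rw [← hkE, cjg_cjg k⁻¹ k, inv_mul_cancel, cjg_one] at h
      exact h.symm
    have hU1V : U1 ≤ 𝐂(Vx x) := hU1T.trans (inf_le_left.trans ex.toSide.T_cent)
    have hd := A.decomp hopp' D.B_le hU1V (le_sup_left.trans le_sup_left) hd1 hd2
    obtain ⟨k', hk'L, hk'E⟩ := D.exists_L A hk' hopp' hk'
    have hk'H := D.L_le A hk' hopp' hk'L
    have hU1k : cjg k'⁻¹ U1 ≤ U1 := by
      calc cjg k'⁻¹ U1 ≤ cjg k'⁻¹ ((Vx x) ⊔ (U1 ⊓ 𝐂(B ⊔ cjg k⁻¹ B))) := cjg_mono hd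
        _ ≤ U1 := by
          rw [cjg_sup, (A.tr_mem (Subgroup.inv_mem _ hk'H)).2.2]
          refine sup_le (le_sup_left.trans le_sup_left) ?_
          rintro _ ⟨u, hu, rfl⟩
          show k'⁻¹ * u * k'⁻¹⁻¹ ∈ U1
          rw [Subgroup.mem_centralizer_iff.1 hu.2 k'⁻¹ (Subgroup.inv_mem _ hk'L), mul_inv_cancel_right]
          exact hu.1
    refine D.key A hnear hk' hopp' hδ₀ hopp₀ hv₀ hv₀y fun u hu => ?_
    have huU : u ∈ U1 := Subgroup.mem_sup_right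
      (le_iSup (fun δ : {δ // δ ∈ Hx g ∧ Opp H S₀ g E (cjg δ E)} => (Vx (tr (δ : Ω) x))) ⟨δ₀, hδ₀, hopp₀⟩ hu)
    refine hkV hk' hopp' hk'L hk'E _ ?_ (Or.inr (hU1g u huU v₀ hv₀.2))
    refine mem_cjg.2 ?_
    rw [show k'⁻¹ * ⁅u, v₀⁆ * k' = ⁅k'⁻¹ * u * k'⁻¹⁻¹, k'⁻¹ * v₀ * k'⁻¹⁻¹⁆ by
      simp only [commutatorElement_def]; group]
    exact hU1g _ (hU1k (conj_mem_cjg huU)) _
      ((cjg_of_mem (D.T0_norm A (Subgroup.inv_mem _ hk'H))).le (conj_mem_cjg hv₀)).2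
  -- some fail
  obtain ⟨i, ⟨hi1, hib, hnc⟩, hmin⟩ : ∃ i, (1 ≤ i ∧ i < b ∧ ¬ cjg k U1 ≤ 𝐂(Vx (w i))) ∧
      ∀ j, j < i → ¬ (1 ≤ j ∧ j < b ∧ ¬ cjg k U1 ≤ 𝐂(Vx (w j))) := by
    push Not at hk1
    exact ⟨_, Nat.find_spec hk1, fun j hj => Nat.find_min hk1 hj⟩
  have hkU : cjg k U1 ≤ (Tx x) ⊓ (Tx g) := (cjg_mono hU1T).trans hkT0.le
  have hi2 : 2 ≤ i := by
    by_contra h
    obtain rfl : i = 1 := by omega
    exact hnc (hkU.trans (inf_le_right.trans eg.toSide.T_cent))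
  have hreach : ∀ j, j < i → cjg k U1 ≤ e j := by
    intro j
    induction j with
    | zero => exact fun _ => hkU.trans (inf_le_left.trans ex.T_le)
    | succ j ih =>
      intro hj
      have h1 : cjg k U1 ≤ 𝐂(Vx (w (j + 1))) := by
        by_contra h
        exact hmin (j + 1) hj ⟨by omega, by omega, h⟩
      exact ((le_inf (ih (by omega)) h1).trans (A.edge_at (hw.1 j (by omega)).2).CV.le).trans
        (A.edge_at (hw.1 (j + 1) (by omega)).1).T_le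
  have hVT0 : (Vx (w i)) ≤ (Tx x) ⊓ (Tx g) := by
    have hW : Walk H S₀ i w e := fun j hj => hw.1 j (by omega)
    have h1 := A.reach hC i (by omega) hib.le _ _ hW.rev
    simp only [Nat.sub_zero, Nat.sub_self] at h1
    refine le_inf ?_ ?_
    · rw [← ex.CV]
      exact le_inf h1 (Subgroup.le_centralizer_iff.1 (hC i hib w e hW))
    · rw [← eg.CV]
      refine le_inf h1 (Subgroup.le_centralizer_iff.1 ?_)
      have h3 := hC (i - 1) (by omega) (fun j => w (j + 1)) (fun j => e (j + 1))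
        (fun j hj => hw.1 (j + 1) (by omega))
      simp only [zero_add, Nat.sub_add_cancel hi1] at h3
      exact h3
  have hi' := A.edge_at (hw.1 (i - 1) (by omega)).2
  rw [Nat.sub_add_cancel hi1] at hi'
  have hBi : (Vx (w i)) ≤ 𝐂(B) := by
    have h1 := hC (b - i) (by omega) (fun j => w (i + j)) (fun j => e (i + j))
      (fun j hj => hw.1 (i + j) (by omega))
    simp only [Nat.add_zero, Nat.add_sub_cancel' hib.le] at h1
    exact h1
  obtain ⟨u₀, hu₀, hu₀c⟩ := SetLike.not_le_iff_exists.1 hnc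
  obtain ⟨v', hv', hne⟩ : ∃ v' ∈ Vx (w i), ¬ v' * u₀ = u₀ * v' := by
    by_contra hno
    push Not at hno
    exact hu₀c (Subgroup.mem_centralizer_iff.2 hno)
  set v := k⁻¹ * v' * k with hv
  have hvT0 : v ∈ (Tx x) ⊓ (Tx g) := by
    have := (cjg_of_mem (D.T0_norm A (Subgroup.inv_mem _ hkH))).le (conj_mem_cjg (a := k⁻¹) (hVT0 hv'))
    simpa [hv] using this
  have hval : ∀ u ∈ U1, ⁅u, v⁆ ∈ ((Vx x) ⊔ (Vx g)) ⊓ 𝐂(B ⊔ cjg γ B) := by
    intro u hu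
    have e1 : k * ⁅u, v⁆ * k⁻¹ = ⁅k * u * k⁻¹, v'⁆ := by rw [hv]; simp only [commutatorElement_def]; group
    have h1 : k * ⁅u, v⁆ * k⁻¹ ∈ ((Vx x) ⊔ (Vx g)) ⊓ 𝐂(B ⊔ cjg γ B) := by
      refine hkV hγ hopp hk hkE _ (conj_mem_cjg (hU1g u hu v hvT0.2)) (Or.inl (hBi (hi'.toSide.Z_le ?_)))
      rw [e1, ← commutatorElement_inv]
      exact Subgroup.inv_mem _ (hi'.comm (Subgroup.commutator_mem_commutator hv' (hreach (i - 1) (by omega)
        (conj_mem_cjg hu))))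
    have e2 : ⁅u, v⁆ = k * ⁅u, v⁆ * k⁻¹ := by
      have h2 := Subgroup.mem_centralizer_iff.1 h1.2 k hk
      calc ⁅u, v⁆ = k⁻¹ * ((k * ⁅u, v⁆ * k⁻¹) * k) := by group
        _ = k⁻¹ * (k * (k * ⁅u, v⁆ * k⁻¹)) := by rw [h2]
        _ = _ := by group
    rw [e2]; exact h1
  by_cases hno : ∀ δ : {δ // δ ∈ Hx g ∧ Opp H S₀ g E (cjg δ E)}, v ∈ Tx (tr (δ : Ω) x)
  · refine hne ?_
    obtain ⟨u, hu, rfl⟩ := hu₀
    have hle : U1 ≤ Subgroup.centralizer ({v} : Set Ω) := by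
      refine sup_le (fun c hc => ?_) (iSup_le fun δ c hc => ?_)
      · exact Subgroup.mem_centralizer_singleton_iff.2
          (Subgroup.mem_centralizer_iff.1 ((D.T0_eq A).ge hvT0).2 c hc)
      · exact Subgroup.mem_centralizer_singleton_iff.2
          (Subgroup.mem_centralizer_iff.1 ((A.edge_at (D.trans_facts A δ.2.1).1).toSide.T_cent (hno δ)) c hc)
    have h2 := Subgroup.mem_centralizer_singleton_iff.1 (hle hu)
    show v' * (k * u * k⁻¹) = k * u * k⁻¹ * v'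
    rw [hv] at h2
    calc v' * (k * u * k⁻¹) = k * ((k⁻¹ * v' * k) * u) * k⁻¹ := by group
      _ = k * (u * (k⁻¹ * v' * k)) * k⁻¹ := by rw [h2]
      _ = _ := by group
  push Not at hno
  obtain ⟨⟨δ, hδ, hoppd⟩, hvy⟩ := hno
  exact D.key A hnear hγ hopp hδ hoppd hvT0 hvy fun u hu => hval u (Subgroup.mem_sup_right
    (le_iSup (fun δ : {δ // δ ∈ Hx g ∧ Opp H S₀ g E (cjg δ E)} => (Vx (tr (δ : Ω) x))) ⟨δ, hδ, hoppd⟩ hu))

end CfsgLib.PushingUp.Family
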