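/-
At a critical walk of length two the first two small members are not normal at the first vertex.
-/
import Mathlib
import Cfsg.Agent.Lib.PushingUp.Family.AutoLong

set_option autoImplicit false
set_option linter.style.haveILetI false
set_option linter.unusedSectionVars false
set_option linter.unusedVariables false

open scoped commutatorElement

namespace CfsgLib.PushingUp.Family

variable {Ω : Type*} [Group Ω] {ι : Type*} {H : ι → Subgroup Ω} {S₀ : Subgroup Ω}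

local notation:max "𝐂(" R ")" => Subgroup.centralizer (SetLike.coe R)

local notation:max "𝐍(" R ")" => Subgroup.normalizer (SetLike.coe R)

variable [Finite Ω] {p : ℕ} [hp : Fact p.Prime] {q : ι → ℕ} {T V N : ι → Subgroup Ω} {W : ι → Set Ω}
  (A : Amb p q H S₀ T V N W)

local notation "Hx" v:max => at' H v
local notation "Tx" v:max => at' T v
local notation "Vx" v:max => at' V v
local notation "Nx" v:max => at' N v

include A

theorem Amb.auto_two {w : ℕ → ι × Ω} {e : ℕ → Subgroup Ω} (hC : Comm H S₀ V 2) (hw : Crit H S₀ V 2 w e) :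
    ¬ Hx (w 0) ≤ 𝐍(Vx (w 0) ⊔ Vx (w 1)) := by
  intro hn
  have D := A.bad_of_crit hC le_rfl hw hn
  obtain ⟨-, -, f1, -, -, -, -, -, -⟩ := A.crit_facts hC (by omega) hw
  change Vx (w 0) ⊔ Tx (w 2) = e 1 at f1
  have ex := A.edge_at D.hx
  have eg := A.edge_at D.hg
  have e1g := A.edge_at (hw.1 1 (by omega)).1
  have e1b := A.edge_at (hw.1 1 (by omega)).2
  change Edge p _ _ (e 1) (Tx (w 2)) (Vx (w 2)) _ at e1b
  set x := w 0
  set g := w 1
  set E := e 0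
  set B := Vx (w 2) with hB
  set T0 := Tx x ⊓ Tx g with hT0
  have hTxc : T0 ≤ 𝐂(Vx x) := inf_le_left.trans ex.toSide.T_cent
  have hBc : B ≤ 𝐂(B) := e1b.toSide.V_comm
  have hBTg : B ≤ Tx g := (le_inf D.B_le D.B_comm).trans eg.CV.le
  have hdB : T0 ≤ Vx x ⊔ (T0 ⊓ 𝐂(B)) := by
    intro y hy
    obtain ⟨v, hv, t, ht, rfl⟩ := CfsgLib.Coprime.exists_mul_of_mem_sup (H := Vx x) (N := Tx (w 2))
      ((le_sup_left.trans f1.le).trans e1b.nT) (f1.ge (e1g.T_le hy.2))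
    refine Subgroup.mul_mem_sup hv ⟨(Subgroup.mul_mem_cancel_left _ (D.C_le A (Subgroup.mem_sup_left hv))).1 hy, ?_⟩
    exact e1b.toSide.T_cent ht
  obtain ⟨E', hopp⟩ := A.exists_opp D.hx
  obtain ⟨γ, hγ, rfl⟩ := A.mover D.hx hopp.2.1
  set L := B ⊔ cjg γ B with hL
  set M0 := T0 ⊓ 𝐂(L) with hM0
  set D0 := T0 ⊓ 𝐂(B) with hD0
  have hT0n := D.T0_norm A
  have hdec : T0 ≤ Vx x ⊔ M0 := by
    refine A.decomp hopp D.B_le hTxc (le_sup_left.trans (D.C_le A)) hdB ?_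
    have h1 := cjg_mono (a := γ) hdB
    rw [cjg_of_mem (hT0n hγ), cjg_sup, cjg_inf, cjg_centralizer, (A.tr_mem hγ).2.2, cjg_of_mem (hT0n hγ)] at h1
    exact h1
  have hT0M : ∀ y ∈ T0, ∃ v ∈ Vx x, ∃ m ∈ M0, y = v * m := fun y hy => by
    obtain ⟨v, hv, m, hm, e'⟩ := CfsgLib.Coprime.exists_mul_of_mem_sup (H := Vx x) (N := M0)
      ((Subgroup.le_centralizer_iff.1 ((inf_le_left : M0 ≤ T0).trans hTxc)).trans
        (Subgroup.centralizer_le_normalizer _)) (hdec hy)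
    exact ⟨v, hv, m, hm, e'⟩
  have hcVT : ∀ {v y : Ω}, v ∈ Vx x → y ∈ Tx x → Commute v y := fun hv hy =>
    Subgroup.mem_centralizer_iff.1 (ex.toSide.T_cent hy) _ hv
  have hM0V : ∀ {r : Ω}, r ∈ M0 → r ∈ Vx x → r ∈ Nx x := fun hr hv =>
    D.MC_inf A hγ hopp ⟨⟨Subgroup.mem_sup_left hv, hr.2⟩, hv⟩
  obtain ⟨b₀, hb₀, hb₀T⟩ : ∃ b₀ ∈ B, b₀ ∉ Tx x := by
    by_contra hno
    push Not at hno
    exact ex.toSide.not_le (D.B_sup.ge.trans (sup_le (fun b hb => hno b hb) le_rfl))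
  have hfixed : ∀ {α : Ω}, α ∈ Vx x → ⁅α, b₀⁆ ∈ Nx x → α ∈ 𝐂(B) := fun hα h =>
    CfsgLib.ChermakDelgado.cent_mono D.B_le (ex.fixed _ hα b₀ (D.B_le hb₀) hb₀T h)
  have hRE : ∀ {α b : Ω}, α ∈ Vx x → b ∈ B → ⁅α, b⁆ ∈ E ⊓ 𝐂(E) := fun hα hb =>
    D.B_R (Subgroup.commutator_mem_commutator hα hb)
  have hmm : ∀ {a b : Ω}, a ∈ M0 → b ∈ M0 → ⁅a, b⁆ ∈ M0 := fun ha hb => by
    rw [commutatorElement_def]; exact M0.mul_mem (M0.mul_mem (M0.mul_mem ha hb) (M0.inv_mem ha)) (M0.inv_mem hb)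
  have hLB : B ≤ L := le_sup_left
  -- `D0` is normalised by `Tx x`
  have hD0n : ∀ t ∈ Tx x, ∀ m ∈ D0, t * m * t⁻¹ ∈ D0 := by
    intro t ht m hm
    have htE := ex.T_le ht
    have hy : t * m * t⁻¹ ∈ T0 := (cjg_of_mem (hT0n (ex.E_le htE))).le (conj_mem_cjg hm.1)
    refine ⟨hy, ?_⟩
    obtain ⟨α, hα, m₁, hm₁, hy'⟩ := hT0M _ hy
    obtain ⟨z, hz, m', hm', hmz⟩ := hT0M _ hm.1
    have hzB : z ∈ 𝐂(B) := by
      have h1 := hm.2
      rw [hmz] at h1
      exact (Subgroup.mul_mem_cancel_right _ (CfsgLib.ChermakDelgado.cent_mono hLB hm'.2)).1 h1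
    suffices h : ⁅α, b₀⁆ ∈ Nx x by
      rw [hy']
      exact Subgroup.mul_mem _ (hfixed hα h) (CfsgLib.ChermakDelgado.cent_mono hLB hm₁.2)
    set c := ⁅b₀⁻¹, t⁻¹⁆ with hc
    have hcT : c ∈ T0 := D.E_derived A
      (Subgroup.commutator_mem_commutator (E.inv_mem (D.B_le hb₀)) (E.inv_mem htE))
    obtain ⟨β, hβ, m₂, hm₂, hcb⟩ := hT0M _ hcT
    have e1 : ⁅m, c⁆ = ⁅m', m₂⁆ := by
      rw [hmz, hcb, commutatorElement_mul_left_eq_conj_mul, commutatorElement_mul_right_eq_mul_conj m' β m₂,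
        commutatorElement_eq_one_iff_commute.2 (hcVT hβ hm'.1.1).symm, one_mul]
      have hm2 := hmm hm' hm₂
      rw [(hcVT hβ hm2.1.1).eq, mul_inv_cancel_right, (hcVT hz hm2.1.1).eq, mul_inv_cancel_right,
        commutatorElement_eq_one_iff_commute.2 (hcVT hz (show β * m₂ ∈ Tx x from hcb ▸ hcT.1)), mul_one]
    have hcb0 : ∀ y ∈ 𝐂(B), b₀ * y * b₀⁻¹ = y := fun y hy => by
      rw [Subgroup.mem_centralizer_iff.1 hy b₀ hb₀, mul_inv_cancel_right]
    have e2 : ⁅t * m * t⁻¹, b₀⁆ = t * ⁅m', m₂⁆ * t⁻¹ := by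
      rw [show ⁅t * m * t⁻¹, b₀⁆ = t * ⁅m, b₀ * c⁆ * t⁻¹ by rw [hc]; simp only [commutatorElement_def]; group,
        commutatorElement_mul_right_eq_mul_conj, commutatorElement_eq_one_iff_commute.2
          (show Commute m b₀ from (Subgroup.mem_centralizer_iff.1 hm.2 b₀ hb₀).symm), one_mul, e1,
        hcb0 _ (CfsgLib.ChermakDelgado.cent_mono hLB (hmm hm' hm₂).2)]
    have e3 : ⁅t * m * t⁻¹, b₀⁆ = ⁅α, b₀⁆ := by
      rw [hy', commutatorElement_mul_left_eq_conj_mul, commutatorElement_eq_one_iff_commute.2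
        (show Commute m₁ b₀ from (Subgroup.mem_centralizer_iff.1 hm₁.2 b₀ (hLB hb₀)).symm)]
      group
    have hR := hRE hα hb₀
    have e4 : ⁅m', m₂⁆ = ⁅α, b₀⁆ := by
      have h5 := Subgroup.mem_centralizer_iff.1 hR.2 t htE
      calc ⁅m', m₂⁆ = t⁻¹ * (t * ⁅m', m₂⁆ * t⁻¹) * t := by group
        _ = t⁻¹ * ⁅α, b₀⁆ * t := by rw [← e2, e3]
        _ = _ := by rw [mul_assoc, ← h5, inv_mul_cancel_left]
    exact hM0V (e4 ▸ hmm hm' hm₂) (ex.toSide.Z_le hR)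
  have hγD : cjg γ D0 = T0 ⊓ 𝐂(cjg γ B) := by rw [hD0, cjg_inf, cjg_centralizer, cjg_of_mem (hT0n hγ)]
  have hM0n : Hx x ≤ 𝐍(M0) := by
    rw [← D.L_sup A hγ hopp]
    refine sup_le ?_ (Subgroup.le_normalizer_iff.2 fun t ht m hm => ?_)
    · intro l hl
      refine Subgroup.mem_normalizer_iff_map_conj_eq.2 ?_
      show cjg l M0 = M0
      have hc : cjg l 𝐂(L) = 𝐂(L) := by rw [cjg_centralizer, cjg_of_mem (Subgroup.le_normalizer hl)]
      rw [hM0, cjg_inf, cjg_of_mem (hT0n (D.L_le A hγ hopp hl)), hc]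
    · have h1 := hD0n t ht m ⟨hm.1, CfsgLib.ChermakDelgado.cent_mono hLB hm.2⟩
      have ht' : γ⁻¹ * t * γ ∈ Tx x := mem_cjg.1 ((A.tr_mem hγ).2.1.ge ht)
      have hm' : γ⁻¹ * m * γ ∈ D0 := by
        refine mem_cjg.1 ?_
        rw [hγD]
        exact ⟨hm.1, CfsgLib.ChermakDelgado.cent_mono le_sup_right hm.2⟩
      have h2 := conj_mem_cjg (a := γ) (hD0n _ ht' _ hm')
      rw [hγD, show γ * (γ⁻¹ * t * γ * (γ⁻¹ * m * γ) * (γ⁻¹ * t * γ)⁻¹) * γ⁻¹ = t * m * t⁻¹ by group] at h2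
      refine ⟨h1.1, ?_⟩
      rw [hL, CfsgLib.ChermakDelgado.centralizer_sup]
      exact ⟨h1.2, h2.2⟩
  have hM0c : ∀ h ∈ Hx x, ∀ m ∈ M0, h * m * h⁻¹ ∈ M0 := fun h hh m hm =>
    (Subgroup.mem_normalizer_iff.1 (hM0n hh) m).1 hm
  have hTH : Tx x ≤ Hx x := ex.T_le.trans ex.E_le
  have hZD : E ⊓ 𝐂(E) ≤ D0 := le_inf (ex.toSide.Z_le.trans (le_sup_left.trans (D.C_le A)))
    (inf_le_right.trans (CfsgLib.ChermakDelgado.cent_mono D.B_le))
  -- commutators with `Tx x`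
  have hT0T : ∀ c ∈ T0, ∀ a ∈ Tx x, ⁅c, a⁆ ∈ M0 ∧ ⁅a, c⁆ ∈ M0 := by
    intro c hc a ha
    obtain ⟨v, hv, m, hm, rfl⟩ := hT0M _ hc
    have h1 : ⁅m, a⁆ ∈ M0 := by
      rw [show ⁅m, a⁆ = m * (a * m⁻¹ * a⁻¹) by rw [commutatorElement_def]; group]
      exact M0.mul_mem hm (hM0c a (hTH ha) _ (M0.inv_mem hm))
    have h2 : ⁅v * m, a⁆ ∈ M0 := by
      rw [commutatorElement_mul_left_eq_conj_mul, commutatorElement_eq_one_iff_commute.2 (hcVT hv ha), mul_one,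
        (hcVT hv h1.1.1).eq, mul_inv_cancel_right]
      exact h1
    exact ⟨h2, by rw [← commutatorElement_inv]; exact M0.inv_mem h2⟩
  have hder : ∀ a ∈ Tx x, ∀ d ∈ Tx x, ⁅a, d⁆ ∈ D0 := by
    intro a ha d hd
    have hc : ⁅a, d⁆ ∈ T0 := D.E_derived A (Subgroup.commutator_mem_commutator (ex.T_le ha) (ex.T_le hd))
    refine ⟨hc, ?_⟩
    obtain ⟨v, hv, m, hm, hvm⟩ := hT0M _ hc
    have hbc : ∀ y ∈ Tx x, ∃ c' ∈ T0, b₀ * y * b₀⁻¹ = c' * y := fun y hy =>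
      ⟨⁅b₀, y⁆, D.E_derived A (Subgroup.commutator_mem_commutator (D.B_le hb₀) (ex.T_le hy)),
        by rw [commutatorElement_def]; group⟩
    obtain ⟨c₁, hc₁, ea⟩ := hbc a ha
    obtain ⟨c₂, hc₂, ed⟩ := hbc d hd
    have hd' : c₂ * d ∈ Tx x := (Tx x).mul_mem hc₂.1 hd
    have k1 : ⁅c₁ * a, c₂ * d⁆ * ⁅a, c₂ * d⁆⁻¹ ∈ M0 := by
      rw [show ⁅c₁ * a, c₂ * d⁆ * ⁅a, c₂ * d⁆⁻¹ =
        ⁅c₁, ⁅a, c₂ * d⁆⁆ * (⁅a, c₂ * d⁆ * ⁅c₁, c₂ * d⁆ * ⁅a, c₂ * d⁆⁻¹) by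
          simp only [commutatorElement_def]; group]
      have ht : ⁅a, c₂ * d⁆ ∈ Tx x := by
        rw [commutatorElement_def]
        exact (Tx x).mul_mem ((Tx x).mul_mem ((Tx x).mul_mem ha hd') ((Tx x).inv_mem ha)) ((Tx x).inv_mem hd')
      exact M0.mul_mem (hT0T _ hc₁ _ ht).1 (hM0c _ (hTH ht) _ (hT0T _ hc₁ _ hd').1)
    have k2 : ⁅a, c₂ * d⁆ * ⁅a, d⁆⁻¹ ∈ M0 := by
      rw [show ⁅a, c₂ * d⁆ * ⁅a, d⁆⁻¹ = ⁅a, c₂⁆ * ⁅c₂, ⁅a, d⁆⁆ by simp only [commutatorElement_def]; group]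
      exact M0.mul_mem (hT0T _ hc₂ _ ha).2 (hT0T _ hc₂ _ hc.1).1
    have k3 : ⁅b₀, v⁆ ∈ M0 := by
      have h := M0.mul_mem k1 k2
      have e2 : ⁅c₁ * a, c₂ * d⁆ * ⁅a, c₂ * d⁆⁻¹ * (⁅a, c₂ * d⁆ * ⁅a, d⁆⁻¹) = ⁅b₀, v⁆ := by
        have hmb := Subgroup.mem_centralizer_iff.1 hm.2 b₀ (hLB hb₀)
        rw [← mul_assoc, inv_mul_cancel_right, ← ea, ← ed,
          show ⁅b₀ * a * b₀⁻¹, b₀ * d * b₀⁻¹⁆ = b₀ * ⁅a, d⁆ * b₀⁻¹ by simp only [commutatorElement_def]; group, hvm]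
        calc b₀ * (v * m) * b₀⁻¹ * (v * m)⁻¹ = b₀ * v * (m * b₀⁻¹ * m⁻¹) * v⁻¹ := by group
          _ = b₀ * v * (b₀⁻¹ * (b₀ * m) * b₀⁻¹ * m⁻¹) * v⁻¹ := by group
          _ = _ := by rw [hmb, commutatorElement_def]; group
      rwa [e2] at h
    rw [hvm]
    refine Subgroup.mul_mem _ (hfixed hv (hM0V ?_ (ex.toSide.Z_le (hRE hv hb₀)))) (CfsgLib.ChermakDelgado.cent_mono hLB hm.2)
    rw [← commutatorElement_inv]; exact M0.inv_mem k3
  have hder' : ∀ a ∈ Tx x, ∀ d ∈ Tx x, ⁅a, d⁆ ∈ M0 := by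
    intro a ha d hd
    refine ⟨(hder a ha d hd).1, ?_⟩
    rw [hL, CfsgLib.ChermakDelgado.centralizer_sup]
    refine ⟨(hder a ha d hd).2, ?_⟩
    have h := conj_mem_cjg (a := γ) (hder _ (mem_cjg.1 ((A.tr_mem hγ).2.1.ge ha)) _ (mem_cjg.1 ((A.tr_mem hγ).2.1.ge hd)))
    rw [hγD] at h
    have e' : γ * ⁅γ⁻¹ * a * γ, γ⁻¹ * d * γ⁆ * γ⁻¹ = ⁅a, d⁆ := by simp only [commutatorElement_def]; group
    rw [e'] at h
    exact h.2
  have hBT : ∀ b ∈ B, ∀ t ∈ Tx x, ⁅b, t⁆ ∈ D0 := by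
    intro b hb t ht
    by_cases hbT : b ∈ Tx x
    · exact ⟨(hder _ hbT _ ht).1, (hder _ hbT _ ht).2⟩
    have hc : ⁅b, t⁆ ∈ T0 := D.E_derived A (Subgroup.commutator_mem_commutator (D.B_le hb) (ex.T_le ht))
    refine ⟨hc, ?_⟩
    obtain ⟨v, hv, m, hm, hvm⟩ := hT0M _ hc
    have hmB : m ∈ 𝐂(B) := CfsgLib.ChermakDelgado.cent_mono hLB hm.2
    rw [hvm]
    refine Subgroup.mul_mem _ ?_ hmB
    rcases eq_or_ne p 2 with hp2 | hp2
    · have hb2 : b * b = 1 := by have := e1b.pow b hb; rwa [hp2, pow_two] at this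
      have hv2 : v * v = 1 := by have := ex.pow v hv; rwa [hp2, pow_two] at this
      have hbi : b⁻¹ = b := inv_eq_of_mul_eq_one_right hb2
      have e1 : b * ⁅b, t⁆ * b⁻¹ = ⁅b, t⁆⁻¹ := by
        rw [commutatorElement_inv, commutatorElement_def, commutatorElement_def, hbi]
        calc b * (b * t * b * t⁻¹) * b = (b * b) * t * b * t⁻¹ * b := by group
          _ = _ := by rw [hb2, one_mul]
      rw [hvm] at e1
      have hmb := Subgroup.mem_centralizer_iff.1 hmB b hb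
      have hvm' := (hcVT hv hm.1.1).eq
      have e2 : ⁅b, v⁆ = m⁻¹ * m⁻¹ := by
        have h1 : b * (v * m) * b⁻¹ = b * v * b⁻¹ * m := by
          calc b * (v * m) * b⁻¹ = b * v * (m * b⁻¹) := by group
            _ = b * v * (b⁻¹ * (b * m) * b⁻¹) := by group
            _ = _ := by rw [hmb]; group
        rw [h1, mul_inv_rev] at e1
        calc ⁅b, v⁆ = (b * v * b⁻¹ * m) * m⁻¹ * v⁻¹ := by rw [commutatorElement_def]; group
          _ = (m⁻¹ * v⁻¹) * (m⁻¹ * v⁻¹) := by rw [e1]; group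
          _ = m⁻¹ * (v⁻¹ * m⁻¹) * v⁻¹ := by group
          _ = m⁻¹ * (m⁻¹ * v⁻¹) * v⁻¹ := by rw [← mul_inv_rev, ← hvm', mul_inv_rev]
          _ = m⁻¹ * m⁻¹ * (v * v)⁻¹ := by group
          _ = _ := by rw [hv2, inv_one, mul_one]
      refine CfsgLib.ChermakDelgado.cent_mono D.B_le (ex.fixed v hv b (D.B_le hb) hbT (hM0V ?_ (ex.toSide.Z_le (hRE hv hb))))
      rw [← commutatorElement_inv, e2]
      exact M0.inv_mem (M0.mul_mem (M0.inv_mem hm) (M0.inv_mem hm))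
    · obtain ⟨z, hz, hz1, hz2⟩ := A.negEl_at hp2 x
      have hNc : ∀ {n : Ω}, n ∈ Nx x → ∀ h ∈ Hx x, h * n * h⁻¹ = n := fun hn h hh => by
        rw [Subgroup.mem_centralizer_iff.1 ((A.N_facts D.hx).2.2 hn) h hh, mul_inv_cancel_right]
      have hNM : Nx x ≤ M0 := le_inf (((A.N_facts D.hx).1.trans hZD).trans inf_le_left)
        ((A.N_facts D.hx).2.2.trans (CfsgLib.ChermakDelgado.cent_mono (D.L_le A hγ hopp)))
      set r := ⁅b⁻¹, z⁆ with hr
      have hbH : b ∈ Hx x := ex.E_le (D.B_le hb)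
      have hrH : r ∈ Hx x := by
        rw [hr, commutatorElement_def]
        exact (Hx x).mul_mem ((Hx x).mul_mem ((Hx x).mul_mem ((Hx x).inv_mem hbH) hz)
          (by simpa using hbH)) ((Hx x).inv_mem hz)
      let K : Subgroup Ω :=
        { carrier := {h | h ∈ Hx x ∧ ∀ y ∈ Vx x, ⁅h, y⁆ ∈ Nx x}
          one_mem' := ⟨(Hx x).one_mem, fun y _ => by rw [commutatorElement_one_left]; exact (Nx x).one_mem⟩
          mul_mem' := fun {a c} ha hc' => ⟨(Hx x).mul_mem ha.1 hc'.1, fun y hy => by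
            rw [commutatorElement_mul_left_eq_conj_mul, hNc (hc'.2 y hy) a ha.1]
            exact (Nx x).mul_mem (hc'.2 y hy) (ha.2 y hy)⟩
          inv_mem' := fun {a} ha => ⟨(Hx x).inv_mem ha.1, fun y hy => by
            rw [show ⁅a⁻¹, y⁆ = a⁻¹ * ⁅a, y⁆⁻¹ * a⁻¹⁻¹ by simp only [commutatorElement_def]; group,
              hNc ((Nx x).inv_mem (ha.2 y hy)) _ ((Hx x).inv_mem ha.1)]
            exact (Nx x).inv_mem (ha.2 y hy)⟩ }
      have hrK : r ∈ K := by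
        rw [hr, ← commutatorElement_inv z b⁻¹]
        refine K.inv_mem ⟨?_, fun y hy => hz2 _ ((Hx x).inv_mem hbH) y hy⟩
        rw [← inv_inv ⁅z, b⁻¹⁆, commutatorElement_inv, ← hr]
        exact (Hx x).inv_mem hrH
      let P : Subgroup Ω :=
        { carrier := {h | h ∈ K ∧ ⁅h, t⁆ ∈ M0}
          one_mem' := ⟨K.one_mem, by rw [commutatorElement_one_left]; exact M0.one_mem⟩
          mul_mem' := fun {a c} ha hc' => ⟨K.mul_mem ha.1 hc'.1, by
            rw [commutatorElement_mul_left_eq_conj_mul]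
            exact M0.mul_mem (hM0c a ha.1.1 _ hc'.2) ha.2⟩
          inv_mem' := fun {a} ha => ⟨K.inv_mem ha.1, by
            rw [show ⁅a⁻¹, t⁆ = a⁻¹ * ⁅a, t⁆⁻¹ * a⁻¹⁻¹ by simp only [commutatorElement_def]; group]
            exact hM0c _ ((Hx x).inv_mem ha.1.1) _ (M0.inv_mem ha.2)⟩ }
      have hrp : r ^ p ∈ P := by
        have hrt : ⁅r, t⁆ ∈ T0 := by
          rw [← commutatorElement_inv]
          exact T0.inv_mem (D.T_move A (Subgroup.commutator_mem_commutator ht hrH))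
        obtain ⟨u, hu, m', hm', hum⟩ := hT0M _ hrt
        have key : ∀ n : ℕ, u⁻¹ ^ n * ⁅r ^ n, t⁆ ∈ M0 := by
          intro n
          induction n with
          | zero => simp [M0.one_mem]
          | succ n ih =>
            rw [pow_succ' r, commutatorElement_mul_left_eq_conj_mul, hum]
            have hun : u ^ n ∈ Vx x := (Vx x).pow_mem hu n
            have h1 : u⁻¹ ^ (n + 1) * (r * ⁅r ^ n, t⁆ * r⁻¹ * (u * m')) =
                u⁻¹ ^ (n + 1) * (⁅r, u ^ n⁆ * u ^ n * (r * (u⁻¹ ^ n * ⁅r ^ n, t⁆) * r⁻¹) * u * m') := by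
              rw [inv_pow u n]
              simp only [commutatorElement_def]; group
            rw [h1]
            set mm := r * (u⁻¹ ^ n * ⁅r ^ n, t⁆) * r⁻¹
            have hmm' : mm ∈ M0 := hM0c r hrH _ ih
            set n' := ⁅r, u ^ n⁆
            have hn' : n' ∈ Nx x := hrK.2 _ hun
            have h2 : u⁻¹ ^ (n + 1) * (n' * u ^ n * mm * u * m') = n' * mm * m' := by
              have hc1 : Commute (u⁻¹ ^ (n + 1)) n' := (hcVT ((Vx x).pow_mem ((Vx x).inv_mem hu) _)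
                (ex.V_le ((A.N_facts D.hx).2.1 hn')))
              have hc2 : Commute u mm := hcVT hu hmm'.1.1
              calc u⁻¹ ^ (n + 1) * (n' * u ^ n * mm * u * m')
                  = (u⁻¹ ^ (n + 1) * n') * u ^ n * (mm * u) * m' := by group
                _ = (n' * u⁻¹ ^ (n + 1)) * u ^ n * (u * mm) * m' := by rw [hc1.eq, hc2.eq]
                _ = n' * (u⁻¹ ^ (n + 1) * (u ^ n * u)) * mm * m' := by group
                _ = _ := by rw [← pow_succ, inv_pow, inv_mul_cancel, mul_one]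
            rw [h2]
            exact M0.mul_mem (M0.mul_mem (hNM hn') hmm') hm'
        refine ⟨K.pow_mem hrK p, ?_⟩
        have := key p
        rwa [inv_pow, ex.pow u hu, inv_one, one_mul] at this
      have hrP : r ∈ P := by
        obtain ⟨i, m', hm', hord⟩ := Nat.exists_eq_pow_mul_and_not_dvd (orderOf_pos r).ne' p hp.out.ne_one
        have hrm : r ^ m' ∈ P := by
          refine ⟨K.pow_mem hrK m', ?_⟩
          have hpg : IsPGroup p ↥(Subgroup.zpowers (r ^ m')) := by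
            have hdvd : orderOf (r ^ m') ∣ p ^ i := orderOf_dvd_of_pow_eq_one (by
              rw [← pow_mul, mul_comm, ← hord, pow_orderOf_eq_one])
            obtain ⟨j, -, hj⟩ := (Nat.dvd_prime_pow hp.out).1 hdvd
            exact IsPGroup.of_card (n := j) (by rw [Nat.card_zpowers, hj])
          obtain ⟨E₁, hE₁, hle⟩ := A.exists_le_edge (v := x) (Subgroup.zpowers_le.2 ((Hx x).pow_mem hrH m')) hpg
          refine hder' _ ?_ t ht
          by_contra hT'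
          have e1 := A.edge_at hE₁
          have hVc : Vx x ≤ E₁ ⊓ 𝐂(E₁) := fun y hy => ⟨e1.toSide.V_le_E hy, e1.fixed y hy _
            (hle (Subgroup.mem_zpowers _)) hT' (by
              rw [← commutatorElement_inv]; exact (Nx x).inv_mem ((K.pow_mem hrK m').2 y hy))⟩
          have h1 := Subgroup.card_le_of_le hVc
          rw [e1.cardV] at h1
          have h2 := e1.two_le
          have h3 : 0 < Nat.card ↥(E₁ ⊓ 𝐂(E₁)) := Nat.card_pos
          nlinarith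
        have hco : Nat.gcd m' p = 1 := Nat.coprime_comm.1 (hp.out.coprime_iff_not_dvd.2 hm')
        have e : r = (r ^ m') ^ (Nat.gcdA m' p) * (r ^ p) ^ (Nat.gcdB m' p) := by
          rw [← zpow_natCast r m', ← zpow_natCast r p, ← zpow_mul, ← zpow_mul, ← zpow_add,
            ← Nat.gcd_eq_gcd_ab, hco]
          simp
        rw [e]
        exact P.mul_mem (P.zpow_mem hrm _) (P.zpow_mem hrp _)
      set τ := ⁅z, t⁆ with hτ
      have hτT : τ ∈ T0 := by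
        rw [hτ, ← commutatorElement_inv]
        exact T0.inv_mem (D.T_move A (Subgroup.commutator_mem_commutator ht hz))
      have hbD : ∀ {y}, y ∈ M0 → b * y * b⁻¹ ∈ D0 := fun {y} hy => by
        have := hM0c b hbH y hy
        exact ⟨this.1, CfsgLib.ChermakDelgado.cent_mono hLB this.2⟩
      have hMD : M0 ≤ D0 := le_inf inf_le_left (inf_le_right.trans (CfsgLib.ChermakDelgado.cent_mono hLB))
      have h1 : ⁅r, τ * t⁆ ∈ M0 := by
        obtain ⟨u, hu, m', hm', hum⟩ := hT0M _ hτT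
        have hrm : ⁅r, m'⁆ ∈ M0 := by
          rw [commutatorElement_def]; exact M0.mul_mem (hM0c r hrH m' hm') (M0.inv_mem hm')
        have hu' : u ∈ Hx x := hTH (ex.V_le hu)
        have h2 : ⁅r, τ⁆ ∈ M0 := by
          rw [hum, commutatorElement_mul_right_eq_mul_conj, mul_assoc, mul_assoc, ← mul_assoc u]
          exact M0.mul_mem (hNM (hrK.2 u hu)) (hM0c u hu' _ hrm)
        rw [commutatorElement_mul_right_eq_mul_conj, mul_assoc, mul_assoc, ← mul_assoc τ]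
        exact M0.mul_mem h2 (hM0c τ (hTH hτT.1) _ hrP.2)
      have h2 : ⁅b, τ * t⁆ * ⁅b, t⁆⁻¹ ∈ D0 := by
        rw [show ⁅b, τ * t⁆ * ⁅b, t⁆⁻¹ = ⁅b, τ⁆ * ⁅τ, ⁅b, t⁆⁆ by simp only [commutatorElement_def]; group]
        refine D0.mul_mem ?_ (hMD (hT0T _ hτT _ hc.1).1)
        obtain ⟨u, hu, m', hm', hum⟩ := hT0M _ hτT
        rw [hum, commutatorElement_mul_right_eq_mul_conj, commutatorElement_eq_one_iff_commute.2
          (show Commute b m' from Subgroup.mem_centralizer_iff.1 hm'.2 b (hLB hb))]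
        simp only [mul_one, mul_inv_cancel_right]
        rw [← commutatorElement_inv]
        exact D0.inv_mem (hZD (hRE hu hb))
      have h3 : z * ⁅b, t⁆ * z⁻¹ * ⁅b, t⁆⁻¹ ∈ D0 := by
        have e1 : z * ⁅b, t⁆ * z⁻¹ = b * ⁅r, τ * t⁆ * b⁻¹ * ⁅b, τ * t⁆ := by
          rw [hr, hτ]; simp only [commutatorElement_def]; group
        rw [e1, mul_assoc]
        exact D0.mul_mem (hbD h1) h2
      have h4 : ⁅z, v⁆ ∈ D0 := by
        have hzm : z * m * z⁻¹ * m⁻¹ ∈ M0 := M0.mul_mem (hM0c z hz m hm) (M0.inv_mem hm)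
        have hzv : z * v * z⁻¹ ∈ Vx x := by
          have := (Subgroup.mem_normalizer_iff.1 (ex.H_nV hz) v).1 hv
          exact this
        have e2 : z * (v * m) * z⁻¹ * (v * m)⁻¹ = ⁅z, v⁆ * (z * m * z⁻¹ * m⁻¹) := by
          have hc' : Commute v⁻¹ (z * m * z⁻¹ * m⁻¹) := hcVT ((Vx x).inv_mem hv) hzm.1.1
          calc z * (v * m) * z⁻¹ * (v * m)⁻¹ = (z * v * z⁻¹) * ((z * m * z⁻¹ * m⁻¹) * v⁻¹) := by group
            _ = _ := by rw [← hc'.eq, commutatorElement_def]; group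
        rw [hvm, e2] at h3
        exact (Subgroup.mul_mem_cancel_right _ (hMD hzm)).1 h3
      have hvv : v * v ∈ 𝐂(B) := by
        have hn := hz1 v hv
        have e3 : ⁅z, v⁆ = (z * v * z⁻¹ * v) * (v * v)⁻¹ := by rw [commutatorElement_def]; group
        rw [e3] at h4
        have := (Subgroup.mul_mem_cancel_left _ (hMD (hNM hn))).1 h4
        have h6 := D0.inv_mem this
        rw [inv_inv] at h6
        exact h6.2
      obtain ⟨k, hk⟩ := hp.out.odd_of_ne_two hp2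
      have e4 : v = (v * v) ^ (k + 1) := by
        rw [← pow_two, ← pow_mul, show 2 * (k + 1) = p + 1 by omega, pow_succ, ex.pow v hv, one_mul]
      rw [e4]
      exact Subgroup.pow_mem _ hvv _
  -- the final contradiction
  set X5 := Tx g ⊓ 𝐂(B) with hX5
  have hX5E : E ≤ 𝐍(X5) := by
    rw [← D.B_sup]
    refine sup_le (fun b hb => Subgroup.mem_normalizer_iff_map_conj_eq.2 ?_) (Subgroup.le_normalizer_iff.2 fun t ht y hy => ?_)
    · show cjg b X5 = X5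
      rw [hX5, cjg_inf, cjg_centralizer, cjg_of_mem (eg.nT (D.B_le hb)), cjg_of_mem (Subgroup.le_normalizer hb)]
    · refine ⟨(Subgroup.mem_normalizer_iff.1 (eg.nT (ex.T_le ht)) y).1 hy.1, ?_⟩
      obtain ⟨b, hb, t', ht', rfl⟩ := CfsgLib.Coprime.exists_mul_of_mem_sup (D.B_le.trans ex.nT)
        (D.B_sup.ge (eg.T_le hy.1))
      have ht'D : t' ∈ D0 := by
        refine ⟨⟨ht', (Subgroup.mul_mem_cancel_left _ (hBTg hb)).1 hy.1⟩, ?_⟩
        exact (Subgroup.mul_mem_cancel_left _ (hBc hb)).1 hy.2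
      have e' : t * (b * t') * t⁻¹ = ⁅b, t⁆⁻¹ * b * (t * t' * t⁻¹) := by
        simp only [commutatorElement_def]; group
      rw [e']
      exact Subgroup.mul_mem _ (Subgroup.mul_mem _ (Subgroup.inv_mem _ (hBT b hb t ht).2) (hBc hb))
        (hD0n t ht t' ht'D).2
  have hX5e : e 1 ≤ 𝐍(X5) := by
    have h : X5 = Tx g ⊓ Tx (w 2) := by
      refine le_antisymm (le_inf inf_le_left ?_) (inf_le_inf_left _ e1b.toSide.T_cent)
      rw [← e1b.CV]
      exact inf_le_inf_right _ e1g.T_le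
    rw [h]
    exact le_normalizer_inf' e1g.nT e1b.nT
  obtain ⟨γ', hγ'K, he⟩ := A.conj_in (v := g) D.hg (hw.1 1 (by omega)).1 (sup_le eg.E_le e1g.E_le)
    le_sup_left le_sup_right
  have hγ'H : γ' ∈ Hx g := (sup_le eg.E_le e1g.E_le) hγ'K
  have hfix : cjg γ' X5 = X5 := cjg_of_mem ((sup_le hX5E hX5e) hγ'K)
  have hu : Inc H S₀ (tr γ' (w 2)) E := he ▸ inc_translate (hw.1 1 (by omega)).2
  refine hw.2 ((?_ : Vx x ≤ cjg γ' X5).trans (hfix.le.trans inf_le_right))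
  rw [hX5, cjg_inf, (A.tr_mem hγ'H).2.1, cjg_centralizer, hB, ← at_tr]
  refine le_inf (D.V_le A) ?_
  exact A.comm_adj hC le_rfl D.hx hu

end CfsgLib.PushingUp.Family
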