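/-
Critical walks of the family graph have length one or two; what they give at one vertex.
-/
import Mathlib
import Cfsg.Agent.Lib.PushingUp.Family.AutoTwo

set_option autoImplicit false
set_option linter.style.haveILetI false
set_option linter.unusedSectionVars false
set_option linter.unusedVariables false

open scoped commutatorElement

namespace CfsgLib.PushingUp.Family

variable {Ω : Type*} [Group Ω] {ι : Type*} {H : ι → Subgroup Ω} {S₀ : Subgroup Ω}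

local notation:max "𝐂(" R ")" => Subgroup.centralizer (SetLike.coe R)

local notation:max "𝐍(" R ")" => Subgroup.normalizer (SetLike.coe R)

/-- Five consecutive vertices with critical pairs at distance two, the centre having opposite edges. -/
def Line (H : ι → Subgroup Ω) (S₀ : Subgroup Ω) (V : ι → Subgroup Ω) (v : ℕ → ι × Ω) (f : ℕ → Subgroup Ω) : Prop :=
  (∀ i, i < 4 → Inc H S₀ (v i) (f i) ∧ Inc H S₀ (v (i + 1)) (f i)) ∧ Opp H S₀ (v 2) (f 1) (f 2) ∧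
    ∀ i, i < 3 → ¬ at' V (v i) ≤ 𝐂(at' V (v (i + 2)))

theorem Line.rev {V : ι → Subgroup Ω} {v : ℕ → ι × Ω} {f : ℕ → Subgroup Ω} (h : Line H S₀ V v f) :
    Line H S₀ V (fun i => v (4 - i)) (fun i => f (3 - i)) := by
  obtain ⟨hi, hopp, hcr⟩ := h
  refine ⟨fun i hi' => ?_, ?_, fun i hi' h' => hcr (4 - (i + 2)) (by omega) ?_⟩
  · show Inc H S₀ (v (4 - i)) (f (3 - i)) ∧ Inc H S₀ (v (4 - (i + 1))) (f (3 - i))
    have h1 := hi (3 - i) (by omega)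
    rw [show 3 - i + 1 = 4 - i by omega] at h1
    rw [show 4 - (i + 1) = 3 - i by omega]
    exact ⟨h1.2, h1.1⟩
  · exact hopp.symm
  · dsimp only at h'
    rw [show 4 - (i + 2) + 2 = 4 - i by omega]
    exact Subgroup.le_centralizer_iff.1 h'

variable [Finite Ω] {p : ℕ} [hp : Fact p.Prime] {q : ι → ℕ} {T V N : ι → Subgroup Ω} {W : ι → Set Ω}
  (A : Amb p q H S₀ T V N W)

local notation "Hx" v:max => at' H v
local notation "Tx" v:max => at' T v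
local notation "Vx" v:max => at' V v
local notation "Nx" v:max => at' N v

include A

namespace Amb

theorem auto_first {b : ℕ} (hC : Comm H S₀ V b) (hb : 2 ≤ b) {w : ℕ → ι × Ω} {e : ℕ → Subgroup Ω}
    (hw : Crit H S₀ V b w e) : ¬ Hx (w 0) ≤ 𝐍(Vx (w 0) ⊔ Vx (w 1)) := by
  rcases Nat.eq_or_lt_of_le hb with rfl | h
  · exact A.auto_two hC hw
  · exact A.auto_long hC h hw

/-- An infinite sequence all of whose windows are critical, with opposite edges and no normal pairs. -/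
theorem exists_seq {b : ℕ} (hC : Comm H S₀ V b) (hb : 2 ≤ b) {w : ℕ → ι × Ω} {e : ℕ → Subgroup Ω}
    (hw : Crit H S₀ V b w e) :
    ∃ (a : ℕ → ι × Ω) (f : ℕ → Subgroup Ω),
      (∀ k, Inc H S₀ (a k) (f k) ∧ Inc H S₀ (a (k + 1)) (f k)) ∧
      (∀ k, Opp H S₀ (a (k + 1)) (f k) (f (k + 1))) ∧
      (∀ k, ¬ Vx (a k) ≤ 𝐂(Vx (a (k + b)))) ∧
      ∀ k, ¬ Hx (a k) ≤ 𝐍(Vx (a k) ⊔ Vx (a (k + 1))) := by
  classical
  have step : ∀ s : {s : (ℕ → ι × Ω) × (ℕ → Subgroup Ω) // Crit H S₀ V b s.1 s.2},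
      ∃ t : {s : (ℕ → ι × Ω) × (ℕ → Subgroup Ω) // Crit H S₀ V b s.1 s.2},
        (∀ i, i < b → t.1.1 i = s.1.1 (i + 1)) ∧ Opp H S₀ (s.1.1 b) (s.1.2 (b - 1)) (t.1.2 (b - 1)) ∧
          ¬ Hx (s.1.1 b) ≤ 𝐍(Vx (s.1.1 b) ⊔ Vx (t.1.1 b)) := by
    rintro ⟨⟨w, e⟩, hw⟩
    have hlast := hw.1 (b - 1) (by omega)
    rw [Nat.sub_add_cancel (by omega : 1 ≤ b)] at hlast
    obtain ⟨E', hopp⟩ := A.exists_opp hlast.2
    obtain ⟨γ, hγ, rfl⟩ := A.mover hlast.2 hopp.2.1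
    set u := tr γ (w (b - 1)) with hu'
    have hu : Inc H S₀ u (cjg γ (e (b - 1))) := inc_translate hlast.1
    have hgood : ¬ Hx (w b) ≤ 𝐍(Vx (w b) ⊔ Vx u) := by
      intro hn
      refine A.auto_first hC hb (A.crit_rev hC (by omega) hw) ?_
      simp only [Nat.sub_zero]
      have h1 := cjg_normalizer (a := γ⁻¹) hn
      have hγi := Subgroup.inv_mem _ hγ
      rw [cjg_sup, hu', at_tr, cjg_cjg γ⁻¹ γ, inv_mul_cancel, cjg_one, (A.tr_mem hγi).1, (A.tr_mem hγi).2.2] at h1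
      exact h1
    let w' : ℕ → ι × Ω := fun i => if i < b then w (i + 1) else u
    let e' : ℕ → Subgroup Ω := fun i => if i + 1 < b then e (i + 1) else cjg γ (e (b - 1))
    have hwalk : Walk H S₀ b w' e' := by
      intro i hi
      rcases Nat.lt_or_ge (i + 1) b with h1 | h1
      · simp only [w', e', hi, h1, if_true]
        exact hw.1 (i + 1) h1
      · simp only [w', e', hi, if_true, if_false, show i + 1 = b by omega, lt_irrefl]
        exact ⟨hopp.2.1, hu⟩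
    have hnc : ¬ Vx (w' 0) ≤ 𝐂(Vx (w' b)) := by
      simp only [w', show 0 < b by omega, lt_irrefl, if_true, if_false, zero_add]
      have hs := A.shift hC (by omega) (A.crit_rev hC (by omega) hw) (E' := cjg γ (e (b - 1))) (u := u)
        (by simpa using hopp) hu (by simpa using hgood)
      rw [show b - (b - 1) = 1 by omega] at hs
      exact fun h => hs (Subgroup.le_centralizer_iff.1 h)
    refine ⟨⟨(w', e'), hwalk, hnc⟩, fun i hi => by simp [w', hi], ?_, ?_⟩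
    · simp only [e', show ¬ b - 1 + 1 < b by omega, if_false]
      exact hopp
    · simp only [w', lt_irrefl, if_false]
      exact hgood
  choose next hn1 hn2 hn3 using step
  let st : ℕ → {s : (ℕ → ι × Ω) × (ℕ → Subgroup Ω) // Crit H S₀ V b s.1 s.2} :=
    fun k => Nat.rec ⟨(w, e), hw⟩ (fun _ s => next s) k
  have hst : ∀ k, st (k + 1) = next (st k) := fun k => rfl
  have hback : ∀ i, i ≤ b → ∀ k, (st (k + i)).1.1 (b - i) = (st k).1.1 b := by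
    intro i
    induction i with
    | zero => intro _ k; rfl
    | succ i ih =>
      intro hi k
      rw [← Nat.add_assoc, hst, hn1 _ _ (by omega), show b - (i + 1) + 1 = b - i by omega]
      exact ih (by omega) k
  have hlast : ∀ k, Inc H S₀ ((st k).1.1 b) ((st k).1.2 (b - 1)) := fun k => by
    have h1 := ((st k).2.1 (b - 1) (by omega)).2
    rwa [Nat.sub_add_cancel (by omega : 1 ≤ b)] at h1
  refine ⟨fun k => (st k).1.1 b, fun k => (st (k + 1)).1.2 (b - 1), fun k => ?_, fun k => ?_, fun k => ?_, fun k => ?_⟩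
  · exact ⟨(hn2 (st k)).2.1, hlast (k + 1)⟩
  · exact hn2 (st (k + 1))
  · have h1 := hback b le_rfl k
    rw [Nat.sub_self] at h1
    dsimp only
    rw [← h1]
    exact (st (k + b)).2.2
  · exact hn3 (st k)

theorem b_le_two {b : ℕ} (hC : Comm H S₀ V b) {w : ℕ → ι × Ω} {e : ℕ → Subgroup Ω}
    (hw : Crit H S₀ V b w e) : b ≤ 2 := by
  by_contra hb
  push Not at hb
  obtain ⟨a, f, hinc, hopp, hcrit, hgood⟩ := A.exists_seq hC (by omega) hw
  have hwin : ∀ k, Crit H S₀ V b (fun i => a (k + i)) (fun i => f (k + i)) := fun k =>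
    ⟨fun i _ => hinc (k + i), hcrit k⟩
  obtain ⟨E', hop0⟩ := A.exists_opp (hinc 0).1
  obtain ⟨γ, hγH, hγf⟩ := A.mover (hinc 0).1 hop0.2.1
  set u := tr γ (a 1) with hu
  have huE : Inc H S₀ u E' := hγf ▸ inc_translate (hinc 0).2
  have hE'a : Inc H S₀ (a 0) E' := hop0.2.1
  have hgd : ¬ Hx (a 0) ≤ 𝐍(Vx (a 0) ⊔ Vx u) := by
    intro hn
    refine hgood 0 ?_
    have h1 := cjg_normalizer (a := γ⁻¹) hn
    have hγi := Subgroup.inv_mem _ hγH
    rw [cjg_sup, hu, at_tr, cjg_cjg γ⁻¹ γ, inv_mul_cancel, cjg_one, (A.tr_mem hγi).1, (A.tr_mem hγi).2.2] at h1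
    exact h1
  have hs := A.shift hC (by omega) (hwin 0) (E' := E') (u := u) hop0 huE hgd
  let w' : ℕ → ι × Ω := fun i => if i = 0 then u else a (i - 1)
  let e' : ℕ → Subgroup Ω := fun i => if i = 0 then E' else f (i - 1)
  have hnew : Crit H S₀ V b w' e' := by
    refine ⟨fun i _ => ?_, ?_⟩
    · rcases Nat.eq_zero_or_pos i with rfl | hpos
      · simp only [w', e', if_true, zero_add, show (1 : ℕ) ≠ 0 from one_ne_zero, if_false, Nat.sub_self]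
        exact ⟨huE, hE'a⟩
      · simp only [w', e', show i ≠ 0 by omega, if_false, show i + 1 ≠ 0 by omega]
        have h1 := hinc (i - 1)
        rwa [Nat.sub_add_cancel hpos] at h1
    · simp only [w', if_true, show b ≠ 0 by omega, if_false]
      simpa using hs
  obtain ⟨-, -, -, -, -, -, hR, hspan, -⟩ := A.crit_facts hC (by omega) hnew
  simp only [w', e', if_true, show b ≠ 0 by omega, if_false, show b - 1 ≠ 0 by omega] at hR hspan
  set R := ⁅Vx u, Vx (a (b - 1))⁆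
  have hR1 : R ≤ Vx (a 0) := (hR.trans inf_le_left).trans (A.edge_at hE'a).toSide.Z_le
  have hRf0 : R ≤ f 0 ⊓ 𝐂(f 0) := by
    intro x hx
    refine A.crit_cent hC (by omega) (hwin 0) (hR1 hx) ?_
    have h1 := hC 2 (by omega) (fun i => a (b - 2 + i)) (fun i => f (b - 2 + i)) (fun i _ => hinc _)
    simp only [add_zero, Nat.sub_add_cancel (by omega : 2 ≤ b), zero_add] at h1 ⊢
    exact h1 ((A.edge_at (hinc (b - 2)).1).toSide.Z_le (hR hx).2)
  have hRf1 : R ≤ f 1 ⊓ 𝐂(f 1) := by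
    rcases Nat.lt_or_ge 3 b with h4 | h4
    · intro x hx
      refine A.crit_cent hC (by omega) (hwin 1) ((A.edge_at (hinc 0).2).toSide.Z_le (hRf0 hx)) ?_
      have h1 := hC 3 h4 (fun i => a (b - 2 + i)) (fun i => f (b - 2 + i)) (fun i _ => hinc _)
      simp only [add_zero] at h1 ⊢
      rw [show b - 2 + 3 = 1 + b by omega] at h1
      exact h1 ((A.edge_at (hinc (b - 2)).1).toSide.Z_le (hR hx).2)
    · rw [show (1 : ℕ) = b - 1 - 1 by omega]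
      exact hR.trans inf_le_right
  have hcent : ∀ {x : ι × Ω} {E F : Subgroup Ω}, Hx x ≤ E ⊔ F → ∀ {z}, z ∈ 𝐂(E) → z ∈ 𝐂(F) → z ∈ 𝐂(Hx x) := by
    intro x E F hle z h1 h2
    refine CfsgLib.ChermakDelgado.cent_mono hle ?_
    rw [CfsgLib.ChermakDelgado.centralizer_sup]
    exact ⟨h1, h2⟩
  have hRu : R ≤ Nx u := by
    intro z hz
    rw [(A.edge_at huE).N_eq]
    refine ⟨(A.edge_at huE).toSide.Z_le (hR hz).1, Subgroup.mem_centralizer_iff.2 fun y hy => ?_⟩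
    have hz0 : z ∈ 𝐂(Hx (a 0)) := hcent hop0.2.2 (hRf0 hz).2 (hR hz).1.2
    have hz1 : z ∈ 𝐂(Hx (a 1)) := hcent (hopp 0).2.2 (hRf0 hz).2 (hRf1 hz).2
    rw [hu, at_tr] at hy
    obtain ⟨y', hy', rfl⟩ := hy
    have h1 := Subgroup.mem_centralizer_iff.1 hz0 γ hγH
    have h2 := Subgroup.mem_centralizer_iff.1 hz1 y' hy'
    show γ * y' * γ⁻¹ * z = z * (γ * y' * γ⁻¹)
    calc γ * y' * γ⁻¹ * z = γ * y' * (γ⁻¹ * z * γ) * γ⁻¹ := by group
      _ = γ * (y' * z) * γ⁻¹ := by rw [mul_assoc γ⁻¹ z γ, ← h1, inv_mul_cancel_left]; group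
      _ = (γ * z) * y' * γ⁻¹ := by rw [h2]; group
      _ = _ := by rw [h1]; group
  have hle := Subgroup.card_le_of_le (hspan.trans (sup_le hRu le_rfl))
  rw [(A.edge_at huE).cardZ] at hle
  have h1 : 0 < Nat.card (Nx u) := Nat.card_pos
  have h2 := (A.edge_at huE).two_le
  nlinarith

theorem out_one {w : ℕ → ι × Ω} {e : ℕ → Subgroup Ω} (hC : Comm H S₀ V 1) (hw : Crit H S₀ V 1 w e) :
    ∃ (i : ι) (q' : ℕ) (T' V' : Subgroup Ω), Side p q' S₀ T' V' ∧ ¬ V' ≤ T i := by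
  obtain ⟨g, hg, hge⟩ := (hw.1 0 (by omega)).1
  set a := ((w 0).2 * g)⁻¹ with ha
  have hinc : Inc H S₀ (tr a (w 1)) S₀ := by
    have h1 := inc_translate (a := a) (hw.1 0 (by omega)).2
    rwa [hge, cjg_cjg, ha, inv_mul_cancel, cjg_one] at h1
  refine ⟨(w 0).1, _, _, _, (A.edge_at hinc).toSide, fun hle => hw.2 ?_⟩
  have h1 : Vx (w 1) ≤ Tx (w 0) := by
    have h2 := cjg_mono (a := a⁻¹) hle
    rw [at_tr, cjg_cjg, inv_mul_cancel, cjg_one, ha, inv_inv, ← cjg_cjg,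
      cjg_of_mem ((A.edge _).H_nT hg)] at h2
    exact h2
  exact Subgroup.le_centralizer_iff.1 (h1.trans (A.edge_at (hw.1 0 (by omega)).1).toSide.T_cent)

theorem half (hC : Comm H S₀ V 2) {u₀ u₁ c : ι × Ω} {E₀ E₁ : Subgroup Ω}
    (h00 : Inc H S₀ u₀ E₀) (h10 : Inc H S₀ u₁ E₀) (h11 : Inc H S₀ u₁ E₁) (hc1 : Inc H S₀ c E₁)
    (hcr : ¬ Vx u₀ ≤ 𝐂(Vx c)) (hn : ¬ Hx c ≤ 𝐍(Vx c ⊔ Vx u₁)) (hq : q u₁.1 = q c.1) :
    Half p (q c.1) (Hx c) (Tx c) (Vx c) E₁ (Tx u₁) (Vx u₁) (Vx u₀) := by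
  let w : ℕ → ι × Ω := fun i => if i = 0 then u₀ else if i = 1 then u₁ else c
  let e : ℕ → Subgroup Ω := fun i => if i = 0 then E₀ else E₁
  have hw : Crit H S₀ V 2 w e := by
    refine ⟨fun i hi => ?_, hcr⟩
    match i, hi with
    | 0, _ => exact ⟨h00, h10⟩
    | 1, _ => exact ⟨h11, hc1⟩
  obtain ⟨h1, h2, f1, f2, -, -, hR, -⟩ := A.crit_facts hC (by omega) hw
  change Vx u₀ ≤ E₁ at h1
  change Vx c ≤ E₀ at h2
  change Vx u₀ ⊔ Tx c = E₁ at f1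
  change Vx c ⊔ Tx u₀ = E₀ at f2
  change ⁅Vx u₀, Vx c⁆ ≤ (E₀ ⊓ 𝐂(E₀)) ⊓ (E₁ ⊓ 𝐂(E₁)) at hR
  have Ec := A.edge_at hc1
  have E1 := A.edge_at h11
  have E10 := A.edge_at h10
  have E0 := A.edge_at h00
  have hc' : Vx c ≤ Tx u₁ := (le_inf Ec.toSide.V_le_E (A.comm_adj hC le_rfl hc1 h11)).trans E1.CV.le
  exact
    { mid := Ec.toSide
      side := hq ▸ E1.toSide
      Vm_le := (le_inf E1.toSide.V_le_E (A.comm_adj hC le_rfl h11 hc1)).trans Ec.CV.le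
      B_le := h1
      sup_B := f1
      B_comm := E0.toSide.V_comm
      B_pow := E0.pow
      B_Vm := A.comm_adj hC le_rfl h00 h10
      not_normal := hn
      Tm_dec := fun x hx => by
        obtain ⟨v, hv, t, ht, rfl⟩ := CfsgLib.Coprime.exists_mul_of_mem_sup (h2.trans E0.nT)
          (f2.ge (E10.T_le hx))
        refine Subgroup.mul_mem_sup hv ⟨?_, E0.toSide.T_cent ht⟩
        simpa using Subgroup.mul_mem _ (Subgroup.inv_mem _ (hc' hv)) hx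
      B_Tm := by
        have hdec : Tx u₁ ≤ Vx c ⊔ (Tx u₁ ⊓ Tx u₀) := by
          intro x hx
          obtain ⟨v, hv, t, ht, rfl⟩ := CfsgLib.Coprime.exists_mul_of_mem_sup (h2.trans E0.nT)
            (f2.ge (E10.T_le hx))
          exact Subgroup.mul_mem_sup hv ⟨by simpa using (Tx u₁).mul_mem ((Tx u₁).inv_mem (hc' hv)) hx, ht⟩
        refine (Subgroup.commutator_mono le_rfl hdec).trans (commutator_sup_le (hR.trans inf_le_right) ?_ ?_)
        · rw [Subgroup.commutator_eq_bot_iff_le_centralizer.2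
            (E0.toSide.V_cent.trans (Subgroup.centralizer_le (SetLike.coe_subset_coe.2 inf_le_right)))]
          exact bot_le
        · exact (sup_le Ec.toSide.V_le_E (inf_le_left.trans E1.T_le)).trans
            ((Subgroup.le_centralizer_iff.1 inf_le_right).trans (Subgroup.centralizer_le_normalizer _)) }

theorem line_auto (hC : Comm H S₀ V 2) {v : ℕ → ι × Ω} {f : ℕ → Subgroup Ω} (hL : Line H S₀ V v f) :
    ¬ Hx (v 2) ≤ 𝐍(Vx (v 2) ⊔ Vx (v 1)) :=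
  A.auto hC (by omega) (w := fun i => v (i + 1)) (e := fun i => f (i + 1))
    ⟨fun i hi' => hL.1 (i + 1) (by omega), hL.2.2 1 (by omega)⟩ le_rfl

/-- The parameter at the centre is at most the one beside it. -/
theorem q_le (hC : Comm H S₀ V 2) {v : ℕ → ι × Ω} {f : ℕ → Subgroup Ω} (hL : Line H S₀ V v f) :
    q (v 2).1 ≤ q (v 1).1 := by
  have n1 := A.line_auto hC hL
  have n3 : ¬ Hx (v 2) ≤ 𝐍(Vx (v 2) ⊔ Vx (v 3)) := A.line_auto hC hL.rev
  obtain ⟨hi, hopp, hcr⟩ := hL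
  have i0 := hi 0 (by omega)
  have i1 := hi 1 (by omega)
  have i2 := hi 2 (by omega)
  simp only [zero_add] at i0
  have hw02 : Crit H S₀ V 2 v f := ⟨fun i hi' => hi i (by omega), hcr 0 (by omega)⟩
  obtain ⟨hBE, hV2, hBT, hV2T, hBinf, -, hR02, -, hq02⟩ := A.crit_facts hC (by omega) hw02
  change Vx (v 0) ≤ f 1 at hBE
  change Vx (v 0) ⊔ Tx (v 2) = f 1 at hBT
  have hw13 : Crit H S₀ V 2 (fun i => v (i + 1)) (fun i => f (i + 1)) :=
    ⟨fun i hi' => hi (i + 1) (by omega), hcr 1 (by omega)⟩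
  obtain ⟨-, -, hV1T3, hV3T1, -, -, hR13, -⟩ := A.crit_facts hC (by omega) hw13
  change Vx (v 1) ⊔ Tx (v 3) = f 2 at hV1T3
  change Vx (v 3) ⊔ Tx (v 1) = f 1 at hV3T1
  change ⁅Vx (v 1), Vx (v 3)⁆ ≤ (f 1 ⊓ 𝐂(f 1)) ⊓ (f 2 ⊓ 𝐂(f 2)) at hR13
  have e0 := A.edge_at i0.1
  have e10 := A.edge_at i0.2
  have e11 := A.edge_at i1.1
  have e21 := A.edge_at i1.2
  have e22 := A.edge_at i2.1
  have e32 := A.edge_at i2.2
  have hV1T2 : Vx (v 1) ≤ Tx (v 2) :=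
    (le_inf e11.toSide.V_le_E (A.comm_adj hC le_rfl i1.1 i1.2)).trans e21.CV.le
  have hV2T1 : Vx (v 2) ≤ Tx (v 1) :=
    (le_inf e21.toSide.V_le_E (A.comm_adj hC le_rfl i1.2 i1.1)).trans e11.CV.le
  have hV3T2 : Vx (v 3) ≤ Tx (v 2) :=
    (le_inf e32.toSide.V_le_E (A.comm_adj hC le_rfl i2.2 i2.1)).trans e22.CV.le
  have hV2T3 : Vx (v 2) ≤ Tx (v 3) :=
    (le_inf e22.toSide.V_le_E (A.comm_adj hC le_rfl i2.1 i2.2)).trans e32.CV.le
  have hne1 : Tx (v 2) ≠ Tx (v 1) := fun h => n1 (by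
    rw [show Vx (v 1) = Vx (v 2) by rw [← e11.CT, ← h, e21.CT], sup_idem]; exact e21.H_nV)
  have hne3 : Tx (v 2) ≠ Tx (v 3) := fun h => n3 (by
    rw [show Vx (v 3) = Vx (v 2) by rw [← e32.CT, ← h, e22.CT], sup_idem]; exact e22.H_nV)
  obtain ⟨-, hlam, -, hlamc⟩ := e21.toSide.twin e11.toSide hne1
  obtain ⟨-, hlam3, -, -⟩ := e22.toSide.twin e32.toSide hne3
  -- a witness outside `Vx (v 2)`
  obtain ⟨c, hc, hcV⟩ : ∃ c ∈ Vx (v 3), c ∉ Vx (v 2) := by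
    by_contra hno
    push Not at hno
    exact n3 (by rw [sup_eq_left.2 hno]; exact e22.H_nV)
  have hcE : c ∈ f 1 := e21.T_le (hV3T2 hc)
  have hZ1 : f 1 ⊓ 𝐂(f 1) ≤ Vx (v 2) := e21.toSide.Z_le
  -- `B` centralizes `T₁ ∩ T₂` modulo the centre
  have hBT1 : ⁅Vx (v 0), Tx (v 1)⁆ ≤ f 1 ⊓ 𝐂(f 1) := by
    change ⁅Vx (v 0), Vx (v 2)⁆ ≤ (f 0 ⊓ 𝐂(f 0)) ⊓ (f 1 ⊓ 𝐂(f 1)) at hR02
    change Vx (v 2) ⊔ Tx (v 0) = f 0 at hV2T
    have hdec : Tx (v 1) ≤ Vx (v 2) ⊔ (Tx (v 1) ⊓ Tx (v 0)) := by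
      intro x hx
      obtain ⟨y, hy, t, ht, rfl⟩ := CfsgLib.Coprime.exists_mul_of_mem_sup
        ((le_sup_left.trans hV2T.le).trans e0.nT) (hV2T.ge (e10.T_le hx))
      exact Subgroup.mul_mem_sup hy ⟨(Subgroup.mul_mem_cancel_left _ (hV2T1 hy)).1 hx, ht⟩
    refine (Subgroup.commutator_mono le_rfl hdec).trans (commutator_sup_le (hR02.trans inf_le_right) ?_ ?_)
    · rw [Subgroup.commutator_eq_bot_iff_le_centralizer.2
        (e0.toSide.V_cent.trans (CfsgLib.ChermakDelgado.cent_mono inf_le_right))]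
      exact bot_le
    · exact (sup_le e21.toSide.V_le_E (inf_le_left.trans e11.T_le)).trans
        ((Subgroup.le_centralizer_iff.1 inf_le_right).trans (Subgroup.centralizer_le_normalizer _))
  have hcT : ∀ t ∈ Tx (v 2), ⁅t, c⁆ ∈ f 1 ⊓ 𝐂(f 1) := by
    intro t ht
    obtain ⟨x, hx, y, hy, rfl⟩ := CfsgLib.Coprime.exists_mul_of_mem_sup
      ((le_sup_left.trans hV1T3.le).trans e32.nT) (hV1T3.ge (e22.T_le ht))
    rw [commutatorElement_mul_left_eq_conj_mul, commutatorElement_eq_one_iff_commute.2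
      (show Commute y c from (Subgroup.mem_centralizer_iff.1 (e32.toSide.T_cent hy) c hc).symm),
      mul_one, mul_inv_cancel, one_mul]
    exact (hR13 (Subgroup.commutator_mem_commutator hx hc)).1
  have hκ : ∀ b ∈ Vx (v 0), ⁅c, b⁆ ∈ Vx (v 2) ⊔ Vx (v 1) := by
    intro b hb
    rw [← hlam]
    refine ⟨?_, Subgroup.mem_centralizer_iff.2 fun i hi' => ?_⟩
    · rw [commutatorElement_def]
      exact (f 1).mul_mem ((f 1).mul_mem ((f 1).mul_mem hcE (hBE hb)) ((f 1).inv_mem hcE)) ((f 1).inv_mem (hBE hb))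
    have h1 := hcT i hi'.1
    have h2 : ⁅i, b⁆ ∈ f 1 ⊓ 𝐂(f 1) := by
      rw [← commutatorElement_inv]
      exact Subgroup.inv_mem _ (hBT1 (Subgroup.commutator_mem_commutator hb hi'.2))
    have hk : ∀ z ∈ f 1 ⊓ 𝐂(f 1), ∀ y ∈ f 1, Commute z y := fun z hz y hy =>
      (Subgroup.mem_centralizer_iff.1 hz.2 y hy).symm
    have hbE := hBE hb
    have hcb : ⁅c, b⁆ ∈ f 1 := by
      rw [commutatorElement_def]
      exact (f 1).mul_mem ((f 1).mul_mem ((f 1).mul_mem hcE hbE) ((f 1).inv_mem hcE)) ((f 1).inv_mem hbE)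
    have e : i * ⁅c, b⁆ * i⁻¹ = ⁅c, b⁆ := by
      rw [show i * ⁅c, b⁆ * i⁻¹ = ⁅⁅i, c⁆ * c, ⁅i, b⁆ * b⁆ by simp only [commutatorElement_def]; group,
        commutatorElement_mul_left_eq_conj_mul, commutatorElement_mul_right_eq_mul_conj c ⁅i, b⁆ b,
        commutatorElement_eq_one_iff_commute.2 (hk _ h2 _ hcE).symm, one_mul,
        commutatorElement_eq_one_iff_commute.2 (hk _ h1 _ ((f 1).mul_mem h2.1 hbE)), mul_one,
        (hk _ h2 _ hcb).eq, mul_inv_cancel_right, (hk _ h1 _ hcb).eq, mul_inv_cancel_right]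
    calc i * ⁅c, b⁆ = (i * ⁅c, b⁆ * i⁻¹) * i := by group
      _ = _ := by rw [e]
  have hker : ∀ b ∈ Vx (v 0), ⁅c, b⁆ ∈ Vx (v 2) → b ∈ Tx (v 2) := by
    intro b hb hcb
    by_contra hbT
    have hopp2 : Opp H S₀ (v 2) (f 2) (cjg b (f 2)) := A.reg_at hopp (hBE hb) hbT
    let K : Subgroup Ω :=
      { carrier := {g | g ∈ Hx (v 2) ∧ ⁅g, c⁆ ∈ Vx (v 2)}
        one_mem' := ⟨Subgroup.one_mem _, by rw [commutatorElement_one_left]; exact Subgroup.one_mem _⟩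
        mul_mem' := fun {x y} hx hy => ⟨Subgroup.mul_mem _ hx.1 hy.1, by
          rw [commutatorElement_mul_left_eq_conj_mul]
          exact Subgroup.mul_mem _ ((Subgroup.mem_normalizer_iff.1 (e22.H_nV hx.1) _).1 hy.2) hx.2⟩
        inv_mem' := fun {x} hx => ⟨Subgroup.inv_mem _ hx.1, by
          rw [show ⁅x⁻¹, c⁆ = x⁻¹ * ⁅x, c⁆⁻¹ * x⁻¹⁻¹ by simp only [commutatorElement_def]; group]
          exact (Subgroup.mem_normalizer_iff.1 (e22.H_nV (Subgroup.inv_mem _ hx.1)) _).1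
            (Subgroup.inv_mem _ hx.2)⟩ }
    have hKf : f 2 ≤ K := fun s hs => ⟨e22.E_le hs, by
      rw [← commutatorElement_inv]
      exact Subgroup.inv_mem _ (e22.toSide.Z_le (e32.comm (Subgroup.commutator_mem_commutator hc hs)))⟩
    have hKb : b ∈ K := ⟨e21.E_le (hBE hb), by rw [← commutatorElement_inv]; exact Subgroup.inv_mem _ hcb⟩
    have hKall : Hx (v 2) ≤ K := by
      refine hopp2.2.2.trans (sup_le hKf ?_)
      rintro _ ⟨s, hs, rfl⟩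
      exact K.mul_mem (K.mul_mem hKb (hKf hs)) (K.inv_mem hKb)
    refine n3 ?_
    have hI : ∀ t, t ∈ Tx (v 2) ⊓ Tx (v 3) ↔ t ∈ Tx (v 2) ∧ Commute t c := fun t =>
      ⟨fun ht => ⟨ht.1, (Subgroup.mem_centralizer_iff.1 (e32.toSide.T_cent ht.2) c hc).symm⟩,
        fun ht => ⟨ht.1, e22.toSide.twin_cent e32.toSide (Subgroup.mem_sup_right hc) hcV ht.1 ht.2⟩⟩
    have hIn : Hx (v 2) ≤ 𝐍(Tx (v 2) ⊓ Tx (v 3)) := by
      refine Subgroup.le_normalizer_iff.2 fun g hg t ht => ?_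
      rw [hI] at ht ⊢
      have hgt := (Subgroup.mem_normalizer_iff.1 (e22.H_nT hg) t).1 ht.1
      refine ⟨hgt, ?_⟩
      have h1 : Commute (g * t * g⁻¹) (g * c * g⁻¹) := by
        show g * t * g⁻¹ * (g * c * g⁻¹) = g * c * g⁻¹ * (g * t * g⁻¹)
        calc g * t * g⁻¹ * (g * c * g⁻¹) = g * (t * c) * g⁻¹ := by group
          _ = g * (c * t) * g⁻¹ := by rw [ht.2.eq]
          _ = _ := by group
      have h2 : Commute (g * t * g⁻¹) (⁅g, c⁆⁻¹) :=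
        Commute.inv_right (show Commute (g * t * g⁻¹) ⁅g, c⁆ from
          Subgroup.mem_centralizer_iff.1 (e22.toSide.V_cent (hKall hg).2) _ hgt)
      have h3 := h2.mul_right h1
      rwa [show ⁅g, c⁆⁻¹ * (g * c * g⁻¹) = c by rw [commutatorElement_def]; group] at h3
    have e : Vx (v 2) ⊔ Vx (v 3) = Tx (v 2) ⊓ 𝐂(Tx (v 2) ⊓ Tx (v 3)) := by
      refine le_antisymm (le_inf (sup_le e22.V_le hV3T2) (hlam3.ge.trans inf_le_right)) ?_
      rw [← hlam3]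
      exact inf_le_inf_right _ e22.T_le
    rw [e]
    exact le_normalizer_inf' e22.H_nT (le_normalizer_centralizer hIn)
  -- counting
  haveI : ((Vx (v 2)).subgroupOf (f 1)).Normal := Subgroup.normal_subgroupOf_of_le_normalizer e21.nV
  let π := QuotientGroup.mk' ((Vx (v 2)).subgroupOf (f 1))
  have hlamE : ∀ {b}, b ∈ Vx (v 0) → ∀ {l}, l ∈ Vx (v 2) ⊔ Vx (v 1) → ⁅b, l⁆ ∈ Vx (v 2) := by
    intro b hb l hl
    rw [← commutatorElement_inv]
    refine Subgroup.inv_mem _ (hZ1 ?_)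
    obtain ⟨x, hx, y, hy, rfl⟩ := CfsgLib.Coprime.exists_mul_of_mem_sup (e21.toSide.V_le_E.trans e11.nV) hl
    rw [commutatorElement_mul_left_eq_conj_mul]
    have hyb := e11.comm (Subgroup.commutator_mem_commutator hy (hBE hb))
    refine Subgroup.mul_mem _ ?_ (e21.comm (Subgroup.commutator_mem_commutator hx (hBE hb)))
    rw [Subgroup.mem_centralizer_iff.1 hyb.2 x (e21.toSide.V_le_E hx), mul_inv_cancel_right]
    exact hyb
  have hcb' : ∀ b : ↥(Vx (v 0)), ⁅c, (b : Ω)⁆ ∈ f 1 := fun b =>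
    (sup_le e21.toSide.V_le_E e11.toSide.V_le_E) (hκ b b.2)
  let φ : ↥(Vx (v 0)) →* ↥(f 1) ⧸ (Vx (v 2)).subgroupOf (f 1) :=
    MonoidHom.mk' (fun b => π ⟨⁅c, (b : Ω)⁆, hcb' b⟩) fun a d => by
      rw [← map_mul]
      refine QuotientGroup.eq.2 ?_
      show (⁅c, ((a * d : ↥(Vx (v 0))) : Ω)⁆)⁻¹ * (⁅c, (a : Ω)⁆ * ⁅c, (d : Ω)⁆) ∈ Vx (v 2)
      rw [Subgroup.coe_mul, show ⁅c, (a : Ω) * d⁆⁻¹ * (⁅c, (a : Ω)⁆ * ⁅c, (d : Ω)⁆) =
        (a : Ω) * (⁅c, (d : Ω)⁆⁻¹ * ⁅(a : Ω)⁻¹, ⁅c, (d : Ω)⁆⁆ * ⁅c, (d : Ω)⁆⁻¹⁻¹) * (a : Ω)⁻¹ by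
          simp only [commutatorElement_def]; group]
      exact (Subgroup.mem_normalizer_iff.1 (e21.nV (hBE a.2)) _).1
        ((Subgroup.mem_normalizer_iff.1 (e21.nV (Subgroup.inv_mem _ (hcb' d))) _).1
          (hlamE (Subgroup.inv_mem _ a.2) (hκ d d.2)))
  have hkerφ : φ.ker.map (Vx (v 0)).subtype ≤ Vx (v 0) ⊓ Tx (v 2) := by
    rintro _ ⟨b, hb, rfl⟩
    exact ⟨b.2, hker b b.2 ((QuotientGroup.eq_one_iff (⟨_, hcb' b⟩ : ↥(f 1))).1 hb)⟩
  have hrange : φ.range ≤ ((Vx (v 2) ⊔ Vx (v 1)).subgroupOf (f 1)).map π := by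
    rintro _ ⟨b, rfl⟩
    exact ⟨_, hκ b b.2, rfl⟩
  have c1 : Nat.card φ.range * Nat.card φ.ker = Nat.card ↥(Vx (v 0)) := by
    rw [mul_comm, ← Subgroup.index_ker]; exact Subgroup.card_mul_index _
  have c2 := CfsgLib.Coprime.card_map_mul_inf_ker π ((Vx (v 2) ⊔ Vx (v 1)).subgroupOf (f 1))
  have hsub : (Vx (v 2)).subgroupOf (f 1) ≤ (Vx (v 2) ⊔ Vx (v 1)).subgroupOf (f 1) := Subgroup.comap_mono le_sup_left
  rw [QuotientGroup.ker_mk', inf_eq_left.2 hsub,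
    CfsgLib.Coprime.card_subgroupOf (sup_le e21.toSide.V_le_E e11.toSide.V_le_E),
    CfsgLib.Coprime.card_subgroupOf e21.toSide.V_le_E] at c2
  have c3 := Subgroup.card_le_of_le hkerφ
  rw [Subgroup.card_map_of_injective (Vx (v 0)).subtype_injective, hBinf] at c3
  have c4 := Subgroup.card_le_of_le hrange
  change Vx (v 0) ⊓ Tx (v 2) = f 0 ⊓ 𝐂(f 0) at hBinf
  have hB := e0.cardV
  rw [hq02] at hB
  have k1 : q (v 2).1 * Nat.card ↥(Vx (v 2)) ≤ Nat.card ↥(Vx (v 2) ⊔ Vx (v 1)) := by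
    refine Nat.le_of_mul_le_mul_right ?_ (Nat.card_pos (α := ↥(f 0 ⊓ 𝐂(f 0))))
    calc q (v 2).1 * Nat.card ↥(Vx (v 2)) * Nat.card ↥(f 0 ⊓ 𝐂(f 0))
        = Nat.card φ.range * Nat.card φ.ker * Nat.card ↥(Vx (v 2)) := by rw [c1, hB]; ring
      _ ≤ Nat.card φ.range * Nat.card ↥(f 0 ⊓ 𝐂(f 0)) * Nat.card ↥(Vx (v 2)) :=
          Nat.mul_le_mul_right _ (Nat.mul_le_mul_left _ c3)
      _ = Nat.card φ.range * Nat.card ↥(Vx (v 2)) * Nat.card ↥(f 0 ⊓ 𝐂(f 0)) := by ring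
      _ ≤ _ := Nat.mul_le_mul_right _ (c2 ▸ Nat.mul_le_mul_right _ c4)
  refine Nat.le_of_mul_le_mul_right ?_ (Nat.mul_pos (Nat.card_pos (α := ↥(Vx (v 2))))
    (Nat.card_pos (α := ↥(f 1 ⊓ 𝐂(f 1)))))
  calc q (v 2).1 * (Nat.card ↥(Vx (v 2)) * Nat.card ↥(f 1 ⊓ 𝐂(f 1)))
      = q (v 2).1 * Nat.card ↥(Vx (v 2)) * Nat.card ↥(f 1 ⊓ 𝐂(f 1)) := (mul_assoc _ _ _).symm
    _ ≤ Nat.card ↥(Vx (v 2) ⊔ Vx (v 1)) * Nat.card ↥(f 1 ⊓ 𝐂(f 1)) := Nat.mul_le_mul_right _ k1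
    _ = _ := by rw [hlamc, e11.cardV]; ring

/-- What a line gives at the base edge. -/
theorem line_cfg (hC : Comm H S₀ V 2) {v : ℕ → ι × Ω} {f : ℕ → Subgroup Ω} (hL : Line H S₀ V v f)
    (hq1 : q (v 1).1 = q (v 2).1) (hq3 : q (v 3).1 = q (v 2).1) :
    ∃ a h, cjg a (f 1) = S₀ ∧ cjg a (Vx (v 2)) = V (v 2).1 ∧
      h ∈ W (v 2).1 ∧
      Half p (q (v 2).1) (H (v 2).1) (T (v 2).1) (V (v 2).1) S₀ (cjg a (Tx (v 1))) (cjg a (Vx (v 1)))
        (cjg a (Vx (v 0))) ∧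
      Half p (q (v 2).1) (H (v 2).1) (T (v 2).1) (V (v 2).1) (cjg h S₀) (cjg a (Tx (v 3))) (cjg a (Vx (v 3)))
        (cjg a (Vx (v 4))) ∧
      ¬ cjg a (Vx (v 1)) ≤ 𝐂(cjg a (Vx (v 3))) ∧
      cjg a (Tx (v 1)) ≤ H (v 2).1 ∧ cjg a (Tx (v 3)) ≤ H (v 2).1 := by
  have n1 := A.line_auto hC hL
  have n3 : ¬ Hx (v 2) ≤ 𝐍(Vx (v 2) ⊔ Vx (v 3)) := A.line_auto hC hL.rev
  obtain ⟨hi, hopp, hcr⟩ := hL
  have Hl := A.half hC (hi 0 (by omega)).1 (hi 0 (by omega)).2 (hi 1 (by omega)).1 (hi 1 (by omega)).2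
    (hcr 0 (by omega)) n1 hq1
  have Hr := A.half hC (hi 3 (by omega)).2 (hi 3 (by omega)).1 (hi 2 (by omega)).2 (hi 2 (by omega)).1
    (fun h' => hcr 2 (by omega) (Subgroup.le_centralizer_iff.1 h')) n3 hq3
  obtain ⟨a, h, hh, e1, e2, eG, eT, eV⟩ := A.norm_at hopp
  have tr' : ∀ {k : ℕ} {H₀ T' V' E Tm Vm B : Subgroup Ω}, Half p k H₀ T' V' E Tm Vm B →
      Half p k (cjg a H₀) (cjg a T') (cjg a V') (cjg a E) (cjg a Tm) (cjg a Vm) (cjg a B) := by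
    intro k H₀ T' V' E Tm Vm B hH
    have hinj : Function.Injective (MulAut.conj a⁻¹).toMonoidHom := MulEquiv.injective _
    refine Half.map_inj hinj ?_
    have hback : ∀ K : Subgroup Ω, (cjg a K).map (MulAut.conj a⁻¹).toMonoidHom = K := fun K => by
      show cjg a⁻¹ (cjg a K) = K
      rw [cjg_cjg, inv_mul_cancel, cjg_one]
    simp only [hback]
    exact hH
  have Hl' := tr' Hl
  have Hr' := tr' Hr
  rw [eG, eT, eV, e1] at Hl'
  rw [eG, eT, eV, e2] at Hr'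
  refine ⟨a, h, e1, eV, hh, Hl', Hr', fun h' => hcr 1 (by omega) ?_, ?_, ?_⟩
  · rwa [← cjg_centralizer, cjg_inj] at h'
  · exact Hl'.side.T_le.trans (A.edge _).E_le
  · refine Hr'.side.T_le.trans ?_
    rintro _ ⟨x, hx, rfl⟩
    exact (H _).mul_mem ((H _).mul_mem (A.W_mem _ h hh) ((A.edge _).E_le hx)) ((H _).inv_mem (A.W_mem _ h hh))

end Amb

end CfsgLib.PushingUp.Family
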