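/-
A finite family of pushing-up situations with one Sylow group, realised inside one permutation group.
-/
import Mathlib
import Cfsg.Agent.Lib.PushingUp.Family.Seq
import Cfsg.Agent.Lib.PushingUp.Family.Local

set_option autoImplicit false
set_option linter.style.haveILetI false
set_option linter.unusedSectionVars false

open scoped commutatorElement MatrixGroups

namespace CfsgLib.PushingUp.Family

open Cfsg CfsgLib.LocalEven.NaturalRecognition CfsgLib.PushingUp

local notation:max "𝐂(" R ")" => Subgroup.centralizer (SetLike.coe R)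

local notation:max "𝐍(" R ")" => Subgroup.normalizer (SetLike.coe R)

variable {S : Type*} [Group S] {ι : Type*} {G : ι → Type*} [∀ i, Group (G i)]

theorem map_inf_centralizer {X Y : Type*} [Group X] [Group Y] {f : X →* Y} (hf : Function.Injective f)
    (A B : Subgroup X) : (A ⊓ 𝐂(B)).map f = A.map f ⊓ 𝐂(B.map f) := by
  ext y
  constructor
  · rintro ⟨x, hx, rfl⟩
    refine ⟨⟨x, hx.1, rfl⟩, Subgroup.mem_centralizer_iff.2 ?_⟩
    rintro _ ⟨b, hb, rfl⟩
    rw [← map_mul, ← map_mul, Subgroup.mem_centralizer_iff.1 hx.2 b hb]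
  · rintro ⟨⟨x, hx, rfl⟩, hy⟩
    refine ⟨x, ⟨hx, Subgroup.mem_centralizer_iff.2 fun b hb => hf ?_⟩, rfl⟩
    rw [map_mul, map_mul]
    exact Subgroup.mem_centralizer_iff.1 hy _ ⟨b, hb, rfl⟩

/-- The family with the properties used by the amalgam method. -/
structure Data (p : ℕ) (F : ι → Type) [∀ i, Field (F i)] [∀ i, Fintype (F i)] (τ : ∀ i, S →* G i) : Prop where
  inj : ∀ i, Function.Injective (τ i)
  sit : ∀ i, IsPushingUpSituation p (τ i).range
  edge : ∀ i, Edge p (Fintype.card (F i)) ⊤ (τ i).range (pCore p (G i)) (closureZ (τ i).range)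
    (closureZ (τ i).range ⊓ Subgroup.center (G i))
  big : ∀ i, ∃ A : Subgroup S, A ≤ 𝐂(A) ∧
    Nat.card A * Nat.card A = Nat.card S * Nat.card ↥(Subgroup.center S) ∧ ¬ A.map (τ i) ≤ pCore p (G i)
  hd : ∀ C : Subgroup S, C.Characteristic →
    Nat.card S * Nat.card ↥(Subgroup.center S) ≤ Nat.card C * Nat.card ↥(𝐂(C)) → 𝐂(C) ≤ C →
    ∃ i, ¬ (C.map (τ i)).Normal

section Point

variable (τ : ∀ i, S →* G i)

/-- The underlying set of the ambient permutation group. -/
abbrev Pt : Type _ := S × ∀ i, G i ⧸ (τ i).range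

/-- The translations by `S`. -/
def base : S →* Equiv.Perm (Pt τ) :=
  MonoidHom.mk' (fun s => (Equiv.mulRight s⁻¹).prodCongr (Equiv.refl _)) fun a b => Equiv.ext fun x => by
    refine Prod.ext ?_ rfl
    show x.1 * (a * b)⁻¹ = x.1 * b⁻¹ * a⁻¹
    group

theorem base_apply (s : S) (x : Pt τ) : base τ s x = (x.1 * s⁻¹, x.2) := rfl

theorem base_injective : Function.Injective (base τ) := fun a b h => by
  have := congrArg (fun e : Equiv.Perm (Pt τ) => (e (1, fun i => ((1 : G i) : G i ⧸ (τ i).range))).1) h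
  simpa [base_apply] using this

/-- The permutation induced by an automorphism. -/
def autPerm (α : S ≃* S) : Equiv.Perm (Pt τ) := α.toEquiv.prodCongr (Equiv.refl _)

theorem autPerm_conj (α : S ≃* S) (s : S) : autPerm τ α * base τ s * (autPerm τ α)⁻¹ = base τ (α s) := by
  rw [mul_inv_eq_iff_eq_mul]
  refine Equiv.ext fun x => Prod.ext ?_ rfl
  show α (x.1 * s⁻¹) = α x.1 * (α s)⁻¹
  rw [map_mul, map_inv]

variable (hinj : ∀ i, Function.Injective (τ i))

/-- A group of the family as pairs of a coset and an element of `S`. -/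
noncomputable def split (i : ι) : G i ≃ (G i ⧸ (τ i).range) × S where
  toFun g := (QuotientGroup.mk g, (MonoidHom.ofInjective (hinj i)).symm
    ⟨(Quotient.out (QuotientGroup.mk g : G i ⧸ (τ i).range))⁻¹ * g, QuotientGroup.eq.1 (QuotientGroup.out_eq' _)⟩)
  invFun y := Quotient.out y.1 * τ i y.2
  left_inv g := by
    have h := congrArg Subtype.val ((MonoidHom.ofInjective (hinj i)).apply_symm_apply
      ⟨(Quotient.out (QuotientGroup.mk g : G i ⧸ (τ i).range))⁻¹ * g, QuotientGroup.eq.1 (QuotientGroup.out_eq' _)⟩)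
    rw [MonoidHom.ofInjective_apply] at h
    show _ * τ i _ = g
    rw [h, mul_inv_cancel_left]
  right_inv y := by
    obtain ⟨c, s⟩ := y
    have hc : (QuotientGroup.mk (Quotient.out c * τ i s) : G i ⧸ (τ i).range) = c := by
      rw [QuotientGroup.mk_mul_of_mem _ (⟨s, rfl⟩ : τ i s ∈ (τ i).range), QuotientGroup.out_eq']
    refine Prod.ext hc ((MonoidHom.ofInjective (hinj i)).symm_apply_eq.2 (Subtype.ext ?_))
    rw [MonoidHom.ofInjective_apply]
    show (Quotient.out (QuotientGroup.mk (Quotient.out c * τ i s) : G i ⧸ (τ i).range))⁻¹ *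
      (Quotient.out c * τ i s) = τ i s
    rw [hc, inv_mul_cancel_left]

variable [DecidableEq ι]

/-- The points as pairs of an element of one group and the other coordinates. -/
noncomputable def coord (i : ι) : Pt τ ≃ G i × ∀ j : {j // j ≠ i}, G j ⧸ (τ j).range :=
  (((Equiv.refl S).prodCongr (Equiv.piSplitAt i _)).trans (Equiv.prodAssoc _ _ _).symm).trans
    ((((Equiv.prodComm _ _).trans (split τ hinj i).symm)).prodCongr (Equiv.refl _))

theorem coord_apply (i : ι) (x : Pt τ) :
    coord τ hinj i x = ((split τ hinj i).symm (x.2 i, x.1), fun j : {j // j ≠ i} => x.2 j.1) := rfl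

/-- The action of a member of the family. -/
noncomputable def emb (i : ι) : G i →* Equiv.Perm (Pt τ) :=
  MonoidHom.mk' (fun g => (coord τ hinj i).trans
    (((regHom (G i) g).prodCongr (Equiv.refl _)).trans (coord τ hinj i).symm)) fun a b => Equiv.ext fun x => by
    simp only [map_mul, Equiv.trans_apply, Equiv.Perm.mul_apply, Equiv.apply_symm_apply, Equiv.prodCongr_apply]
    rfl

theorem emb_injective (i : ι) : Function.Injective (emb τ hinj i) := fun a b h => by
  refine regHom_injective (Equiv.ext fun g => ?_)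
  have := congrArg (fun e : Equiv.Perm (Pt τ) => (coord τ hinj i
    (e ((coord τ hinj i).symm (g, fun j => ((1 : G j) : G j ⧸ (τ j).range))))).1) h
  simpa [emb] using this

theorem emb_comp (i : ι) : (emb τ hinj i).comp (τ i) = base τ := by
  refine MonoidHom.ext fun s => Equiv.ext fun x => ?_
  show (coord τ hinj i).symm (((regHom (G i) (τ i s)).prodCongr (Equiv.refl _)) (coord τ hinj i x)) = base τ s x
  rw [Equiv.symm_apply_eq, base_apply, coord_apply, coord_apply]
  refine Prod.ext ?_ rfl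
  show Quotient.out (x.2 i) * τ i x.1 * (τ i s)⁻¹ = Quotient.out (x.2 i) * τ i (x.1 * s⁻¹)
  rw [map_mul, map_inv, mul_assoc]

end Point

variable [Finite S] [Finite ι] [DecidableEq ι] [∀ i, Finite (G i)] {p : ℕ} [hp : Fact p.Prime]
  {F : ι → Type} [∀ i, Field (F i)] [∀ i, Fintype (F i)] {τ : ∀ i, S →* G i}

/-- The family gives the ambient data. -/
theorem Data.amb (D : Data p F τ) (pr : ∀ i, Proj p (F i) (τ i).range) :
    Amb p (fun i => Fintype.card (F i)) (fun i => (⊤ : Subgroup (G i)).map (emb τ D.inj i)) (base τ).range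
      (fun i => (pCore p (G i)).map (emb τ D.inj i)) (fun i => (closureZ (τ i).range).map (emb τ D.inj i))
      (fun i => (closureZ (τ i).range ⊓ Subgroup.center (G i)).map (emb τ D.inj i))
      (fun i => emb τ D.inj i '' {h | (pr i).φ h = Elation.pr (F i) (wel 1)}) := by
  have hinj := emb_injective τ D.inj
  have hS : ∀ i, (τ i).range.map (emb τ D.inj i) = (base τ).range := fun i => by
    rw [MonoidHom.map_range, emb_comp]
  have hcj : ∀ i (g : G i), cjg (emb τ D.inj i g) (base τ).range =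
      ((τ i).range.map (MulAut.conj g).toMonoidHom).map (emb τ D.inj i) := fun i g => by
    rw [← hS i, cjg, Subgroup.map_map, Subgroup.map_map]
    congr 1
    exact MonoidHom.ext fun x => by simp
  have hgen : ∀ i (g : G i), (⊤ : Subgroup (G i)).map (emb τ D.inj i) ≤
      (base τ).range ⊔ cjg (emb τ D.inj i g) (base τ).range →
      (τ i).range ⊔ (τ i).range.map (MulAut.conj g).toMonoidHom = ⊤ := fun i g h => by
    rw [hcj, ← hS i, ← Subgroup.map_sup, Subgroup.map_le_map_iff_of_injective (hinj i)] at h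
    exact top_le_iff.1 h
  have hmap : ∀ C : Subgroup S, C.map (base τ) ≤ (base τ).range := fun C =>
    Subgroup.map_le_range _ _
  have hcent : ∀ C : Subgroup S, (base τ).range ⊓ 𝐂(C.map (base τ)) = (𝐂(C)).map (base τ) := fun C => by
    rw [MonoidHom.range_eq_map, ← map_inf_centralizer (base_injective τ), top_inf_eq]
  have hmsr : msr (base τ).range = Nat.card S * Nat.card ↥(Subgroup.center S) := by
    rw [msr, MonoidHom.range_eq_map, ← map_inf_centralizer (base_injective τ), top_inf_eq,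
      Subgroup.coe_top, Subgroup.centralizer_univ, Subgroup.card_map_of_injective (base_injective τ),
      Subgroup.card_map_of_injective (base_injective τ), Subgroup.card_top]
  have hpull : ∀ {K : Subgroup (Equiv.Perm (Pt τ))}, K ≤ (base τ).range → (K.comap (base τ)).map (base τ) = K :=
    fun hK => Subgroup.map_comap_eq_self hK
  have hne : Nonempty ι := by
    obtain ⟨i, -⟩ := D.hd ⊤ inferInstance (by
      rw [Subgroup.card_top, Subgroup.coe_top, Subgroup.centralizer_univ]) le_top
    exact ⟨i⟩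
  refine ⟨hne, fun i => ?_, ?_, ?_, ?_, ?_, ?_, ?_, ?_, ?_, ?_⟩
  · have h := (D.edge i).map (hinj i)
    rwa [hS i] at h
  · rintro i _ ⟨h, -, rfl⟩
    exact ⟨h, Subgroup.mem_top h, rfl⟩
  · rintro i _ ⟨h, hh, rfl⟩
    have hg : (τ i).range ⊔ (τ i).range.map (MulAut.conj h).toMonoidHom = ⊤ := by
      obtain ⟨s, hs1, hsφ⟩ := (pr i).up_surj 1
      refine Proj.gen (pr i) (D.sit i) h ⟨s, hs1, fun t e => ?_⟩
      rw [map_mul, map_mul, map_inv, show (pr i).φ h = _ from hh, hsφ, ← map_inv, ← map_mul, ← map_mul,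
        Elation.conj_wel_up one_ne_zero] at e
      have := Elation.entry_eq_zero e (Elation.entry_up t)
      rw [Elation.entry_lo] at this
      simp at this
    show (⊤ : Subgroup (G i)).map (emb τ D.inj i) ≤ _
    rw [← hg, Subgroup.map_sup, hS i, ← hcj]
  · intro i
    obtain ⟨h, hh⟩ := (pr i).surj (Elation.pr (F i) (wel 1))
    exact ⟨_, h, hh, rfl⟩
  · rintro i _ ⟨g, -, rfl⟩ hle
    obtain ⟨s, hs, h, hh, e⟩ := exists_norm (pr i) (D.sit i) (hgen i g hle)
    refine ⟨_, (hS i).le ⟨s, hs, rfl⟩, _, ⟨h, hh, rfl⟩, ?_⟩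
    rw [← map_mul, hcj, hcj, e]
  · rintro i _ ⟨g, -, rfl⟩ hle x hx hxT
    rw [← hS i] at hx
    obtain ⟨s, hs, rfl⟩ := hx
    have h := reg_pair (pr i) (D.sit i) (hgen i g hle) hs (fun h => hxT ⟨s, h, rfl⟩)
    rw [← map_mul, hcj, hcj, ← Subgroup.map_sup, h]
  · intro i P hP hPp
    obtain ⟨P₀, hP₀⟩ := (D.sit i).2.1
    obtain ⟨P', hP'⟩ := (hPp.comap_of_injective _ (hinj i)).exists_le_sylow
    obtain ⟨g, rfl⟩ := MulAction.exists_smul_eq (G i) P₀ P'
    refine ⟨_, ⟨g, Subgroup.mem_top g, rfl⟩, fun x hx => ?_⟩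
    obtain ⟨y, -, rfl⟩ := hP hx
    rw [hcj]
    exact ⟨y, hP₀ ▸ hP' hx, rfl⟩
  · intro _ i
    obtain ⟨z, h1, h2⟩ := exists_negEl (pr i) (D.sit i) rfl (D.edge i)
    refine ⟨_, ⟨z, Subgroup.mem_top z, rfl⟩, ?_, ?_⟩
    · rintro _ ⟨v, hv, rfl⟩
      exact ⟨_, h1 v hv, by simp⟩
    · rintro _ ⟨g, -, rfl⟩ _ ⟨v, hv, rfl⟩
      exact ⟨_, h2 g v hv, by rw [map_commutatorElement, map_commutatorElement]⟩
  · intro i
    obtain ⟨A, hAc, hcard, hT⟩ := D.big i
    refine ⟨A.map (base τ), hmap A, ?_, ?_, fun h => hT ?_⟩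
    · rintro _ ⟨a, ha, rfl⟩
      refine Subgroup.mem_centralizer_iff.2 ?_
      rintro _ ⟨b, hb, rfl⟩
      rw [← map_mul, ← map_mul, Subgroup.mem_centralizer_iff.1 (hAc ha) b hb]
    · rw [Subgroup.card_map_of_injective (base_injective τ), hcard, hmsr]
    · rwa [← emb_comp τ D.inj i, ← Subgroup.map_map, Subgroup.map_le_map_iff_of_injective (hinj i)] at h
  · intro C hCS hC hCC
    by_contra hall
    push Not at hall
    obtain ⟨i₀⟩ := hne
    have hT : IsPeak (base τ).range := by
      have h := (D.edge i₀).map (hinj i₀)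
      rw [hS i₀] at h
      exact h.toSide.peak
    set K := C ⊔ ⨆ ω : ↥(𝐍((base τ).range)), cjg (ω : Equiv.Perm (Pt τ)) C with hK
    have hKlg : Lg (base τ).range K := hC.sup_iSup hT fun ω => by
      refine ⟨(cjg_mono hCS).trans (cjg_of_mem ω.2).le, ?_⟩
      have e := cjg_of_mem ω.2
      generalize (ω : Equiv.Perm (Pt τ)) = w at e ⊢
      rw [← e, ← cjg_centralizer, ← cjg_inf, msr_cjg, card_cjg, card_cjg]
      exact hC.2
    have hKS : K ≤ (base τ).range := hKlg.1
    have hKc : (base τ).range ⊓ 𝐂(K) ≤ K :=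
      ((inf_le_inf_left _ (Subgroup.centralizer_le (SetLike.coe_subset_coe.2 le_sup_left))).trans hCC).trans
        le_sup_left
    set K' := K.comap (base τ) with hK'
    have eK : K'.map (base τ) = K := hpull hKS
    have hchar : K'.Characteristic := by
      refine Subgroup.characteristic_iff_map_le.2 fun α => ?_
      have hω : autPerm τ α ∈ 𝐍((base τ).range) := by
        rw [Subgroup.mem_normalizer_iff_map_conj_eq]
        refine le_antisymm ?_ ?_
        · rintro _ ⟨_, ⟨s, rfl⟩, rfl⟩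
          exact ⟨α s, (autPerm_conj τ α s).symm⟩
        · rintro _ ⟨s, rfl⟩
          refine ⟨_, ⟨α.symm s, rfl⟩, ?_⟩
          show autPerm τ α * base τ (α.symm s) * (autPerm τ α)⁻¹ = _
          rw [autPerm_conj, MulEquiv.apply_symm_apply]
      rintro _ ⟨x, hx, rfl⟩
      show base τ (α x) ∈ K
      rw [← autPerm_conj]
      have hle : cjg (autPerm τ α) K ≤ K := by
        rw [hK, cjg_sup, cjg, cjg, Subgroup.map_iSup]
        refine sup_le ?_ (iSup_le fun ω => ?_)
        · exact le_sup_of_le_right (le_iSup (fun ω : ↥(𝐍((base τ).range)) => cjg (ω : Equiv.Perm (Pt τ)) C) ⟨_, hω⟩)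
        · change cjg (autPerm τ α) (cjg (ω : Equiv.Perm (Pt τ)) C) ≤ _
          rw [cjg_cjg]
          exact le_sup_of_le_right (le_iSup (fun ω : ↥(𝐍((base τ).range)) => cjg (ω : Equiv.Perm (Pt τ)) C)
            ⟨_, Subgroup.mul_mem _ hω ω.2⟩)
      exact hle (conj_mem_cjg hx)
    have hlarge : Nat.card S * Nat.card ↥(Subgroup.center S) ≤ Nat.card K' * Nat.card ↥(𝐂(K')) := by
      have h := hKlg.2
      rw [hmsr, ← eK, hcent, Subgroup.card_map_of_injective (base_injective τ),
        Subgroup.card_map_of_injective (base_injective τ)] at h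
      exact h
    have hcc : 𝐂(K') ≤ K' := by
      rw [← Subgroup.map_le_map_iff_of_injective (base_injective τ), ← hcent, eK]
      exact hKc
    obtain ⟨i, hi⟩ := D.hd K' hchar hlarge hcc
    refine hi ?_
    have hn : (⊤ : Subgroup (G i)).map (emb τ D.inj i) ≤ 𝐍(K) := by
      have hparts : ∀ ω ∈ 𝐍((base τ).range),
          (⊤ : Subgroup (G i)).map (emb τ D.inj i) ≤ 𝐍(cjg ω C) := fun ω hω => by
        have h := cjg_normalizer (a := ω) (hall i ω⁻¹ (Subgroup.inv_mem _ hω))
        rwa [cjg_cjg, mul_inv_cancel, cjg_one] at h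
      have h1 := hparts 1 (Subgroup.one_mem _)
      rw [cjg_one] at h1
      refine Subgroup.le_normalizer_iff.2 fun a ha c hc => ?_
      have hle : K ≤ K.comap (MulAut.conj a).toMonoidHom := by
        refine sup_le (fun y hy => ?_) (iSup_le fun ω y hy => ?_)
        · exact Subgroup.mem_sup_left ((Subgroup.mem_normalizer_iff.1 (h1 ha) y).1 hy)
        · exact le_sup_of_le_right (le_iSup (fun ω : ↥(𝐍((base τ).range)) => cjg (ω : Equiv.Perm (Pt τ)) C) ω)
            ((Subgroup.mem_normalizer_iff.1 (hparts _ ω.2 ha) y).1 hy)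
      exact hle hc
    refine ⟨fun x hx g => ?_⟩
    rw [← Subgroup.mem_map_iff_mem (hinj i), Subgroup.map_map, emb_comp, eK, map_mul, map_mul, map_inv]
    refine (Subgroup.mem_normalizer_iff.1 (hn ⟨g, Subgroup.mem_top g, rfl⟩) _).1 ?_
    rw [← eK, ← emb_comp τ D.inj i, ← Subgroup.map_map]
    exact ⟨x, hx, rfl⟩

end CfsgLib.PushingUp.Family
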