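/-
What the two cases of the pushing-up theorem give for a single group of a family, without assumptions on
characteristic subgroups: a bound for the commutator and power subgroups of the Sylow subgroup.
-/
import Mathlib
import Cfsg.Agent.Lib.PushingUp.Main
import Cfsg.Agent.Lib.PGroup.Frattini

set_option autoImplicit false
set_option linter.style.haveILetI false
set_option linter.unusedSectionVars false

open scoped commutatorElement MatrixGroups

namespace CfsgLib.PushingUp.Family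

open Cfsg CfsgLib.LocalEven.NaturalRecognition CfsgLib.PushingUp

variable {G : Type*} [Group G]

local notation:max "𝐂(" R ")" => Subgroup.centralizer (SetLike.coe R)

local notation:max "𝐍(" R ")" => Subgroup.normalizer (SetLike.coe R)

/-- A bound `M₀` for the Frattini subgroup of `S` and a subgroup `Q` whose central part is central in the group. -/
structure Bound (p : ℕ) (S M₀ Q : Subgroup G) : Prop where
  M_le : M₀ ≤ S
  der : ⁅S, S⁆ ≤ M₀
  pow : ∀ x ∈ S, x ^ p ∈ M₀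
  der₂ : ⁅M₀, M₀⁆ ≤ Q
  pow₂ : ∀ x ∈ M₀, x ^ p ∈ Q
  three : ⁅⁅M₀, S⁆, S⁆ ≤ Q
  two : p ≠ 3 → ⁅M₀, S⁆ ≤ Q
  pow_odd : 3 < p → ∀ x ∈ S, x ^ p ∈ Q
  central : Q ⊓ (S ⊓ 𝐂(S)) ≤ Subgroup.center G

variable [Finite G] {p : ℕ} [hp : Fact p.Prime] {F : Type} [Field F] [Fintype F] {S : Subgroup G}

theorem caseOne_bound (hE : IsPushingUpSituation p S) (pr' : Proj p F S) {T V N : Subgroup G} [V.Normal]
    [N.Normal] (hT : T = pCore p G) (hb : Edge p (Fintype.card F) ⊤ S T V N) {q' : ℕ} {T' V' : Subgroup G}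
    (hs : Side p q' S T' V') (hV' : ¬ V' ≤ T) : ∃ M₀ Q, Bound p S M₀ Q := by
  subst hT
  set T := pCore p G with hTdef
  haveI : T.Normal := pCore_normal p G
  haveI : CharP F p := charP_of_card_eq_prime_pow pr'.hF
  set q := Fintype.card F with hq
  have hTS : T ≤ S := pCore_le hE
  have hVS := hb.V_le_E
  have hV'S := hs.V_le_E
  have hN : N = V ⊓ Subgroup.center G := by rw [hb.N_eq, Subgroup.coe_top, Subgroup.centralizer_univ]
  have hNc : N ≤ Subgroup.center G := hN ▸ inf_le_right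
  have hncV : ¬ V ≤ 𝐂(V') := fun h => hV' (by
    rw [← hb.CV]; exact le_inf hV'S (Subgroup.le_centralizer_iff.1 h))
  obtain ⟨-, hVT', hV'T, eV, eV', hR, hVSc⟩ := hb.toSide.crit hs hVS hV'S hncV
  set Z := S ⊓ 𝐂(S) with hZ
  rw [le_inf_iff] at hR
  replace hR : ⁅V, V'⁆ ≤ Z := hR.1
  have hVcomm : V ≤ 𝐂(V) := hb.V_comm
  have hV'comm : V' ≤ 𝐂(V') := hs.V_comm
  obtain ⟨h₀, hh₀⟩ := pr'.surj (Elation.pr F (wel 1))
  have hgen : S ⊔ S.map (MulAut.conj h₀).toMonoidHom = ⊤ := by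
    obtain ⟨s, hs1, hsφ⟩ := pr'.up_surj 1
    refine Proj.gen pr' hE h₀ ⟨s, hs1, fun t e => ?_⟩
    rw [map_mul, map_mul, map_inv, hh₀, hsφ, ← map_inv, ← map_mul, ← map_mul,
      Elation.conj_wel_up one_ne_zero] at e
    have := Elation.entry_eq_zero e (Elation.entry_up t)
    rw [Elation.entry_lo] at this
    simp at this
  -- L
  set V'h := V'.map (MulAut.conj h₀).toMonoidHom with hV'h
  set L := V' ⊔ V'h with hL
  have hTh : T.map (MulAut.conj h₀).toMonoidHom = T :=
    Subgroup.mem_normalizer_iff_map_conj_eq.1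
      ((Subgroup.normalizer_eq_top_iff.2 (inferInstance : T.Normal)).ge (Subgroup.mem_top h₀))
  have hLT : L ⊔ T = ⊤ := by
    rw [eq_top_iff, ← hgen]
    refine sup_le ?_ ?_
    · rw [← hV'T]; exact sup_le_sup_right le_sup_left _
    · rw [← hV'T, Subgroup.map_sup, hTh]; exact sup_le_sup_right le_sup_right _
  have hTnL : T ≤ 𝐍(L) := by
    refine Subgroup.le_normalizer_iff.2 fun t ht y hy => ?_
    have hle : L ≤ L.comap (MulAut.conj t).toMonoidHom := by
      refine sup_le (fun v hv => Subgroup.mem_sup_left ((Subgroup.mem_normalizer_iff.1 (hs.nV (hTS ht)) v).1 hv)) ?_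
      rintro _ ⟨v, hv, rfl⟩
      refine Subgroup.mem_sup_right ?_
      have ht' : h₀⁻¹ * t * h₀ ∈ T := by simpa using (inferInstance : T.Normal).conj_mem t ht h₀⁻¹
      refine ⟨(h₀⁻¹ * t * h₀) * v * (h₀⁻¹ * t * h₀)⁻¹, (Subgroup.mem_normalizer_iff.1 (hs.nV (hTS ht')) v).1 hv, ?_⟩
      show h₀ * _ * h₀⁻¹ = t * (h₀ * v * h₀⁻¹) * t⁻¹
      group
    exact hle hy
  haveI hLn : L.Normal := by
    rw [← Subgroup.normalizer_eq_top_iff, eq_top_iff, ← hLT]
    exact sup_le Subgroup.le_normalizer hTnL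
  set M := T ⊓ 𝐂(L) with hM
  haveI hMn : M.Normal := by rw [hM]; infer_instance
  -- orders
  set D := T ⊓ 𝐂(V') with hD
  have hDT' : D = T ⊓ T' := by
    rw [hD, ← hs.CV, ← inf_assoc, inf_eq_left.2 hTS]
  have hTdec : T = V ⊔ D := by
    refine le_antisymm (fun x hx => ?_) (sup_le hb.V_le inf_le_left)
    obtain ⟨v, hv, t, ht, rfl⟩ := CfsgLib.Coprime.exists_mul_of_mem_sup (hVS.trans hs.nT)
      (hVT'.ge (hTS hx))
    refine Subgroup.mul_mem_sup hv ?_
    rw [hDT']
    exact ⟨by simpa using T.mul_mem (T.inv_mem (hb.V_le hv)) hx, ht⟩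
  have hcardD : Nat.card T = q * Nat.card D := by
    have e := CfsgLib.Coprime.card_sup_mul_card_inf (H := V) (N := D)
      (hVS.trans (by
        rw [hDT']
        refine (Subgroup.le_normalizer_iff (H := S) (K := T ⊓ T')).2 fun a ha k hk => ?_
        exact ⟨(Subgroup.mem_normalizer_iff.1 (hb.nT ha) k).1 hk.1,
          (Subgroup.mem_normalizer_iff.1 (hs.nT ha) k).1 hk.2⟩))
    rw [← hTdec] at e
    have hinf : D ⊓ V = Z := by
      rw [hDT', inf_right_comm, inf_eq_right.2 hb.V_le, eV]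
    rw [hinf, hb.cardV] at e
    exact Nat.eq_of_mul_eq_mul_right (Nat.card_pos (α := Z)) (by rw [e]; ring)
  set Dh := T ⊓ 𝐂(V'h) with hDh
  have hcardDh : Nat.card Dh = Nat.card D := by
    rw [← Subgroup.card_map_of_injective (f := (MulAut.conj h₀).toMonoidHom) (MulAut.conj h₀).injective (K := D), hD,
      Subgroup.map_inf _ _ _ (show Function.Injective (MulAut.conj h₀).toMonoidHom from (MulAut.conj h₀).injective),
      CfsgLib.LocalEvenSix.centralizer_map_mulEquiv (MulAut.conj h₀) V', hTh]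
  have hMeq : M = D ⊓ Dh := by
    rw [hM, hL, CfsgLib.ChermakDelgado.centralizer_sup, hD, hDh]
    exact le_antisymm (le_inf (le_inf inf_le_left (inf_le_right.trans inf_le_left))
      (le_inf inf_le_left (inf_le_right.trans inf_le_right)))
      (le_inf (inf_le_left.trans inf_le_left) (le_inf (inf_le_left.trans inf_le_right) (inf_le_right.trans inf_le_right)))
  have hcardM : Nat.card T ≤ q * q * Nat.card M := by
    have h1 := CfsgLib.Offender.card_mul_card_le (R := T) (S := D) (T := Dh) inf_le_left inf_le_left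
    rw [hcardDh, ← hMeq, hcardD] at h1
    rw [hcardD]
    have h2 : Nat.card D ≤ q * Nat.card M := by
      refine Nat.le_of_mul_le_mul_left ?_ (Nat.card_pos (α := D))
      calc Nat.card D * Nat.card D ≤ q * Nat.card D * Nat.card M := h1
        _ = _ := by ring
    rw [mul_assoc]
    exact Nat.mul_le_mul_left _ h2
  have hcentral : ∀ {z : G}, z ∈ 𝐂(L) → z ∈ 𝐂(T) → z ∈ Subgroup.center G := by
    intro z h1 h2
    have hle : L ⊔ T ≤ Subgroup.centralizer ({z} : Set G) :=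
      sup_le (fun x hx => Subgroup.mem_centralizer_singleton_iff.2 (Subgroup.mem_centralizer_iff.1 h1 x hx))
        (fun x hx => Subgroup.mem_centralizer_singleton_iff.2 (Subgroup.mem_centralizer_iff.1 h2 x hx))
    rw [hLT] at hle
    exact Subgroup.mem_center_iff.2 fun g => Subgroup.mem_centralizer_singleton_iff.1 (hle (Subgroup.mem_top g))
  have hVM : M ⊓ V = N := by
    refine le_antisymm (fun v hv => ?_) ?_
    · rw [hN]; exact ⟨hv.2, hcentral hv.1.2 (hb.V_cent hv.2)⟩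
    · rw [hN]
      exact le_inf (le_inf (inf_le_left.trans hb.V_le) (inf_le_right.trans (Subgroup.center_le_centralizer _))) inf_le_left
  have hTVM : T = V ⊔ M := by
    refine (Subgroup.eq_of_le_of_card_ge (sup_le hb.V_le inf_le_left) ?_).symm
    have e := CfsgLib.Coprime.card_sup_mul_card_inf (H := V) (N := M)
      ((le_top : V ≤ ⊤).trans (Subgroup.normalizer_eq_top_iff.2 hMn).ge)
    rw [hVM, hb.cardV, hb.cardZ] at e
    refine Nat.le_of_mul_le_mul_right ?_ (Nat.card_pos (α := N))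
    calc Nat.card T * Nat.card N ≤ q * q * Nat.card M * Nat.card N := Nat.mul_le_mul_right _ hcardM
      _ = Nat.card ↥(V ⊔ M) * Nat.card N := by rw [e]; ring
  set W := V' ⊔ V with hW
  have hSWM : S = W ⊔ M := by rw [hW, sup_assoc, ← hTVM, hV'T]
  have hMW : M ≤ 𝐂(W) := by
    rw [hW, CfsgLib.ChermakDelgado.centralizer_sup]
    exact le_inf (inf_le_right.trans (Subgroup.centralizer_le (SetLike.coe_subset_coe.2 le_sup_left)))
      (inf_le_left.trans hb.T_cent)
  have hZc : S ≤ 𝐂(Z) := Subgroup.le_centralizer_iff.1 inf_le_right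
  have hnormM : ∀ {X : Subgroup G}, X.Normal → S ≤ 𝐍(X) := fun h =>
    (le_top : S ≤ ⊤).trans (Subgroup.normalizer_eq_top_iff.2 h).ge
  have hZn : S ≤ 𝐍(Z) := hZc.trans (Subgroup.centralizer_le_normalizer _)
  have hWW : ⁅W, W⁆ ≤ Z := by
    have h1 : ⁅V', W⁆ ≤ Z := commutator_sup_le
      (by rw [Subgroup.commutator_eq_bot_iff_le_centralizer.2 hV'comm]; exact bot_le)
      (by rw [Subgroup.commutator_comm]; exact hR)
      ((sup_le hV'S hVS).trans hZn)
    have h2 : ⁅V, W⁆ ≤ Z := commutator_sup_le hR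
      (by rw [Subgroup.commutator_eq_bot_iff_le_centralizer.2 hVcomm]; exact bot_le)
      ((sup_le hV'S hVS).trans hZn)
    rw [hW, Subgroup.commutator_comm]
    exact commutator_sup_le (by rw [Subgroup.commutator_comm]; exact h1) (by rw [Subgroup.commutator_comm]; exact h2)
      ((sup_le hV'S hVS).trans hZn)
  have hWS : W ≤ S := sup_le hV'S hVS
  have hMS : M ≤ S := inf_le_left.trans hTS
  set X := Z ⊔ M with hX
  have hXS : X ≤ S := sup_le inf_le_left hMS
  have hXn : S ≤ 𝐍(X) := le_normalizer_sup hZn (hnormM hMn)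
  have hMn' : ∀ A : Subgroup G, A ≤ 𝐍(M) := fun A => le_normalizer_of_normal hMn A
  have hZS0 : ∀ A : Subgroup G, A ≤ S → ⁅Z, A⁆ = ⊥ := fun A hA =>
    Subgroup.commutator_eq_bot_iff_le_centralizer.2
      (inf_le_right.trans (Subgroup.centralizer_le (SetLike.coe_subset_coe.2 hA)))
  have hWMbot : ⁅W, M⁆ = ⊥ :=
    Subgroup.commutator_eq_bot_iff_le_centralizer.2 (Subgroup.le_centralizer_iff.1 hMW)
  have hXM : ∀ A : Subgroup G, A ≤ S → ⁅X, A⁆ ≤ M := by
    intro A hA
    rw [Subgroup.commutator_comm]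
    refine commutator_sup_le ?_ ?_ (hMn' _)
    · rw [Subgroup.commutator_comm, hZS0 A hA]; exact bot_le
    · exact Subgroup.commutator_le_right A M
  have hder : ⁅S, S⁆ ≤ X := by
    have h1 : ⁅W, S⁆ ≤ X := by
      conv_lhs => rw [hSWM]
      exact commutator_sup_le (hWW.trans le_sup_left) (by rw [hWMbot]; exact bot_le) (hSWM ▸ hXn)
    have h2 : ⁅M, S⁆ ≤ X := (Subgroup.commutator_le_left M S).trans le_sup_right
    calc ⁅S, S⁆ = ⁅S, W ⊔ M⁆ := by rw [← hSWM]
      _ ≤ X := commutator_sup_le (by rw [Subgroup.commutator_comm]; exact h1)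
        (by rw [Subgroup.commutator_comm]; exact h2) (hSWM ▸ hXn)
  have hpow : ∀ x ∈ S, x ^ p ∈ X ∧ (p ≠ 2 → x ^ p ∈ M) := by
    intro x hx
    obtain ⟨w, hw, m, hm, rfl⟩ := CfsgLib.Coprime.exists_mul_of_mem_sup
      (hWS.trans (hnormM hMn)) (hSWM.le hx)
    have hwm : Commute w m := Subgroup.mem_centralizer_iff.1 (hMW hm) w hw
    rw [hwm.mul_pow]
    obtain ⟨a, ha, b, hb', rfl⟩ := CfsgLib.Coprime.exists_mul_of_mem_sup (hV'S.trans hb.nV) hw
    have hc : ⁅b, a⁆ ∈ Z := hR (Subgroup.commutator_mem_commutator hb' ha)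
    have hcS := fun y (hy : y ∈ S) => (Subgroup.mem_centralizer_iff.1 hc.2 y hy).symm
    rw [mul_pow_of_comm (a := a) (b := b) (c := ⁅b, a⁆)
      (by rw [commutatorElement_def]; group) (hcS a (hV'S ha)) (hcS b (hVS hb')) p,
      hs.pow a ha, hb.pow b hb', one_mul, mul_one]
    refine ⟨X.mul_mem (Subgroup.mem_sup_left (Subgroup.pow_mem _ hc _)) (Subgroup.mem_sup_right (M.pow_mem hm _)),
      fun hp2 => ?_⟩
    obtain ⟨j, hj⟩ := hp.out.dvd_choose_self two_ne_zero (lt_of_le_of_ne hp.out.two_le (Ne.symm hp2))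
    rw [hj, pow_mul, hb.pow _ (hb.Z_le hc), one_pow, one_mul]
    exact M.pow_mem hm _
  refine ⟨X, M, hXS, hder, fun x hx => (hpow x hx).1, hXM X hXS, fun x hx => ?_,
    (Subgroup.commutator_mono (hXM S le_rfl) le_rfl).trans (Subgroup.commutator_le_left M S),
    fun _ => hXM S le_rfl, fun h3 x hx => (hpow x hx).2 (by omega), fun z hz => ?_⟩
  · obtain ⟨z, hz, m, hm, rfl⟩ := CfsgLib.Coprime.exists_mul_of_mem_sup (hMn' Z) hx
    have hzm : Commute z m := (Subgroup.mem_centralizer_iff.1 hz.2 m (hMS hm)).symm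
    rw [hzm.mul_pow, hb.pow z (hb.Z_le hz), one_mul]
    exact M.pow_mem hm _
  · exact hcentral hz.1.2 (Subgroup.centralizer_le (SetLike.coe_subset_coe.2 hTS) hz.2.2)


section

variable {T V : Subgroup G} {h : G} {Tm Vm Tp Vp : Subgroup G}

local notation "U" => Two.bigU V Vm Vp
local notation "Λ" => (V ⊔ Vm)
local notation "Λ'" => (V ⊔ Vp)
local notation "K" => Two.bigK T Tm Tp
local notation "E'" => Subgroup.map (MulEquiv.toMonoidHom (MulAut.conj h)) S

set_option maxHeartbeats 1000000 in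
theorem caseTwo_bound {pr' : Proj p F S} {N B B' : Subgroup G}
    (C : Two pr' T V h Tm Vm B Tp Vp B') (hE : IsPushingUpSituation p S) (hT : T = pCore p G)
    (hb : Edge p (Fintype.card F) ⊤ S T V N) [T.Normal] [V.Normal] [N.Normal] (hne : ¬ ⁅Vp, S⁆ ≤ Vm) :
    ∃ M₀ Q, Bound p S M₀ Q := by
  have hp3 : p = 3 := by
    by_contra hp3
    exact hne (C.comm_le_of_quad hE hb (C.quad_zero hE hT hb hp3))
  subst hp3
  haveI hUn := C.U_normal hE hb
  obtain ⟨hKn, hTUK, -, hKU⟩ := C.K_facts hE hb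
  obtain ⟨hUT, hmS, -⟩ := C.comm_T hE hb
  obtain ⟨hUS, -⟩ := C.comm_edges hE hb
  obtain ⟨hcardU, -, -, hquad, hquad'⟩ := C.U_facts hE hb
  haveI := hKn
  set Z := S ⊓ 𝐂(S) with hZ
  have hN : N = V ⊓ Subgroup.center G := Two.N_eq hb
  have hTS : T ≤ S := hb.T_le
  have hKT : K ≤ T := inf_le_left.trans inf_le_left
  have hUle : U ≤ S := C.U_le.trans hTS
  have hKle : K ≤ S := hKT.trans hTS
  have hBle := C.left.B_le
  have hLn : S ≤ 𝐍(Λ) := C.left.nLam
  have hZcS : S ≤ 𝐂(Z) := Subgroup.le_centralizer_iff.1 inf_le_right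
  have hZn : S ≤ 𝐍(Z) := hZcS.trans (Subgroup.centralizer_le_normalizer _)
  have hBK : ⁅B, K⁆ ≤ Z :=
    (Subgroup.commutator_mono le_rfl (inf_le_left.trans inf_le_right)).trans C.left.B_Tm
  have hB'K : ⁅B', K⁆ ≤ E' ⊓ 𝐂(E') :=
    (Subgroup.commutator_mono le_rfl (inf_le_right.trans inf_le_right)).trans C.right.B_Tm
  have hSdec : S = B ⊔ (U ⊔ K) := by rw [← hTUK, C.left.sup_B]
  have hUK0 : ⁅U, K⁆ = ⊥ := Subgroup.commutator_eq_bot_iff_le_centralizer.2 (Subgroup.le_centralizer_iff.1 hKU)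
  have hcT : ∀ {X R : Subgroup G}, ⁅X, U⁆ ≤ R → ⁅X, K⁆ ≤ R → U ⊔ K ≤ 𝐍(R) → ⁅X, T⁆ ≤ R := fun a b c =>
    (Subgroup.commutator_mono le_rfl hTUK.le).trans (commutator_sup_le a b c)
  -- derived subgroup
  set K2 := ⁅K, K⁆ with hK2
  set R := Λ ⊔ K2 with hR
  haveI : K2.Normal := by rw [hK2]; infer_instance
  have hRn : S ≤ 𝐍(R) := le_normalizer_sup hLn (le_normalizer_of_normal inferInstance _)
  have hNR : N ≤ R := hN ▸ inf_le_left.trans (le_sup_left.trans le_sup_left)
  have hdec : ∀ {X : Subgroup G}, S ≤ 𝐍(X) → B ⊔ (U ⊔ K) ≤ 𝐍(X) := fun h => hSdec ▸ h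
  have hdec' : ∀ {X : Subgroup G}, S ≤ 𝐍(X) → U ⊔ K ≤ 𝐍(X) := fun h => (sup_le hUle hKle).trans h
  have hUB : ⁅U, B⁆ ≤ Λ := (Subgroup.commutator_mono le_rfl hBle).trans hUS
  have hS2 : ⁅S, S⁆ ≤ R := by
    have hB : ⁅B, S⁆ ≤ R := by
      conv_lhs => rw [hSdec]
      refine commutator_sup_le ?_ (commutator_sup_le ?_ ?_ (hdec' hRn)) (hdec hRn)
      · rw [Subgroup.commutator_eq_bot_iff_le_centralizer.2 C.left.B_comm]; exact bot_le
      · rw [Subgroup.commutator_comm]; exact hUB.trans le_sup_left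
      · exact hBK.trans ((C.left.mid.Z_le).trans (le_sup_left.trans le_sup_left))
    have hK' : ⁅K, S⁆ ≤ R := by
      conv_lhs => rw [hSdec]
      refine commutator_sup_le ?_ (commutator_sup_le ?_ le_sup_right (hdec' hRn)) (hdec hRn)
      · rw [Subgroup.commutator_comm]; exact hBK.trans ((C.left.mid.Z_le).trans (le_sup_left.trans le_sup_left))
      · rw [Subgroup.commutator_comm, hUK0]; exact bot_le
    calc ⁅S, S⁆ = ⁅S, B ⊔ (U ⊔ K)⁆ := by rw [← hSdec]
      _ ≤ R := commutator_sup_le (by rw [Subgroup.commutator_comm]; exact hB)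
        (commutator_sup_le (by rw [Subgroup.commutator_comm]; exact hUS.trans le_sup_left)
          (by rw [Subgroup.commutator_comm]; exact hK') (hdec' hRn)) (hdec hRn)
  -- elements of K' commute with B and B'
  have hK2c : ∀ {E : Subgroup G} {X : Subgroup G}, X ≤ E → ⁅X, K⁆ ≤ E ⊓ 𝐂(E) → K ≤ E → K2 ≤ 𝐂(X) := by
    intro E X hXE hXK hKE
    rw [hK2, Subgroup.commutator_le]
    intro k hk k' hk'
    refine Subgroup.mem_centralizer_iff.2 fun b hb' => ?_
    have hb0 : ∀ k ∈ K, ∃ c, c ∈ E ⊓ 𝐂(E) ∧ b * k * b⁻¹ = c * k := fun k hk =>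
      ⟨⁅b, k⁆, hXK (Subgroup.commutator_mem_commutator hb' hk), by rw [commutatorElement_def]; group⟩
    obtain ⟨c, hc, ec⟩ := hb0 k hk
    obtain ⟨d, hd', ed⟩ := hb0 k' hk'
    have hkE := hKE hk
    have hk'E := hKE hk'
    have cc : ∀ z ∈ E, Commute c z := fun z hz => (Subgroup.mem_centralizer_iff.1 hc.2 z hz).symm
    have dd : ∀ z ∈ E, Commute d z := fun z hz => (Subgroup.mem_centralizer_iff.1 hd'.2 z hz).symm
    have e : b * ⁅k, k'⁆ * b⁻¹ = ⁅k, k'⁆ := by
      rw [conjugate_commutatorElement, ec, ed, commutatorElement_mul_left_eq_conj_mul,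
        commutatorElement_mul_right_eq_mul_conj]
      have f1 : ⁅k, d⁆ = 1 := commutatorElement_eq_one_iff_commute.2 (dd k hkE).symm
      have f2 : ⁅c, d * k'⁆ = 1 := commutatorElement_eq_one_iff_commute.2 (cc _ (E.mul_mem hd'.1 hk'E))
      have hkk : ⁅k, k'⁆ ∈ E := by
        rw [commutatorElement_def]
        exact E.mul_mem (E.mul_mem (E.mul_mem hkE hk'E) (E.inv_mem hkE)) (E.inv_mem hk'E)
      simp only [f1, f2, one_mul, mul_one]
      rw [show c * (d * ⁅k, k'⁆ * d⁻¹) * c⁻¹ = ⁅k, k'⁆ by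
        rw [(dd _ hkk).eq, mul_inv_cancel_right, (cc _ hkk).eq, mul_inv_cancel_right]]
    calc b * ⁅k, k'⁆ = (b * ⁅k, k'⁆ * b⁻¹) * b := by group
      _ = _ := by rw [e]
  have hK2B : K2 ≤ 𝐂(B) := hK2c hBle hBK hKle
  have hKle' : K ≤ E' := hKT.trans C.right.mid.T_le
  have hK2B' : K2 ≤ 𝐂(B') := hK2c C.right.B_le hB'K hKle'
  have hcent : ∀ z, z ∈ Z → z ∈ 𝐂(B') → z ∈ Subgroup.center G := by
    intro z hz hzB
    refine C.mem_center hE hz.2 ?_
    rw [← C.right.sup_B, CfsgLib.ChermakDelgado.centralizer_sup]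
    exact ⟨hzB, Subgroup.centralizer_le (SetLike.coe_subset_coe.2 hTS) hz.2⟩
  set K3 := ⁅K2, K⁆ with hK3
  set K4 := ⁅K3, K⁆ with hK4
  have hK2K : K2 ≤ K := Subgroup.commutator_le_self K
  have hK3K2 : K3 ≤ K2 := Subgroup.commutator_le_left K2 K
  have hK4K3 : K4 ≤ K3 := by
    haveI : K3.Normal := by rw [hK3]; infer_instance
    exact Subgroup.commutator_le_left K3 K
  haveI : K3.Normal := by rw [hK3]; infer_instance
  haveI : K4.Normal := by rw [hK4]; infer_instance
  have hstep : ∀ X Y : Subgroup G, X ≤ K2 → Y.Normal → ⁅X, K⁆ ≤ Y → ⁅X, S⁆ ≤ Y := by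
    intro X Y hX hY hXK
    conv_lhs => rw [hSdec]
    refine commutator_sup_le ?_ (commutator_sup_le ?_ hXK (le_normalizer_of_normal hY _)) (le_normalizer_of_normal hY _)
    · rw [Subgroup.commutator_eq_bot_iff_le_centralizer.2 (hX.trans hK2B)]; exact bot_le
    · rw [Subgroup.commutator_eq_bot_iff_le_centralizer.2 ((hX.trans hK2K).trans hKU)]; exact bot_le
  have hLp : ∀ a ∈ Λ, a ^ 3 = 1 := by
    intro a ha
    obtain ⟨v, hv, w, hw, rfl⟩ := CfsgLib.Coprime.exists_mul_of_mem_sup (H := V) (N := Vm)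
      (C.left.mid.V_le_E.trans C.left.side.nV) ha
    have hvw : Commute v w := Subgroup.mem_centralizer_iff.1
      (C.left.side.V_cent hw) v (C.left.V_le hv)
    rw [hvw.mul_pow, C.left.mid.pow v hv, C.left.side.pow w hw, one_mul]
  have hU3 : ∀ u ∈ U, u ^ 3 ∈ N := by
    intro u hu
    have hUN : ⁅U, U⁆ ≤ N := (Subgroup.commutator_mono le_rfl C.U_le).trans hUT
    have h1 := (C.sec_facts hE hb hUN (S.one_mem)).2 (Sec.mk hUN u hu)
    rw [← Sec.mk_pow hu, Sec.mk_eq_zero] at h1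
    exact h1
  set M := Λ ⊔ K with hM
  have hMn : S ≤ 𝐍(M) := le_normalizer_sup hLn (le_normalizer_of_normal hKn _)
  have hBTM : ⁅B, T⁆ ≤ M := by
    conv_lhs => rw [hTUK]
    refine commutator_sup_le ?_ (hBK.trans ((C.left.mid.Z_le).trans (le_sup_left.trans le_sup_left))) (hdec' hMn)
    rw [Subgroup.commutator_comm]; exact hUB.trans le_sup_left
  have hcube : ∀ x ∈ S, x ^ 3 ∈ M := by
    intro x hx
    obtain ⟨b, hb', t, ht, rfl⟩ := CfsgLib.Coprime.exists_mul_of_mem_sup (hBle.trans hb.nT) (C.left.sup_B.ge hx)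
    obtain ⟨u, hu, k, hk, rfl⟩ := CfsgLib.Coprime.exists_mul_of_mem_sup (le_normalizer_of_normal hKn U)
      (hTUK.le ht)
    have hcomm : ⁅b, u * k⁆ ∈ M := hBTM (Subgroup.commutator_mem_commutator hb' ht)
    haveI : (M.subgroupOf S).Normal := Subgroup.normal_subgroupOf_of_le_normalizer hMn
    let π := QuotientGroup.mk' (M.subgroupOf S)
    have hπ : ∀ a : ↥S, π a = 1 ↔ (a : G) ∈ M := fun a => QuotientGroup.eq_one_iff a
    set B0 : ↥S := ⟨b, hBle hb'⟩
    set T0 : ↥S := ⟨u * k, hTS ht⟩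
    have hc : Commute (π B0) (π T0) := by
      rw [← commutatorElement_eq_one_iff_commute, ← map_commutatorElement]
      exact (hπ _).2 hcomm
    show ((⟨b * (u * k), hx⟩ : ↥S) ^ 3 : ↥S).1 ∈ M
    rw [← hπ, show (⟨b * (u * k), hx⟩ : ↥S) = B0 * T0 from rfl, map_pow, map_mul, hc.mul_pow, ← map_pow, ← map_pow,
      show B0 ^ 3 = 1 from Subtype.ext (C.left.B_pow b hb'), map_one, one_mul, hπ]
    show (u * k) ^ 3 ∈ M
    have huk : Commute u k := Subgroup.mem_centralizer_iff.1 (hKU hk) u hu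
    rw [huk.mul_pow]
    exact M.mul_mem (Subgroup.mem_sup_left (le_sup_left (a := V) ((hN.le.trans inf_le_left) (hU3 u hu))))
      (Subgroup.mem_sup_right ((K).pow_mem hk 3))
  have hkc : ∀ k ∈ K, ∀ b ∈ B', b * k ^ 3 = k ^ 3 * b := by
    intro k hk b hb'
    have hc := hB'K (Subgroup.commutator_mem_commutator hb' hk)
    have hck : Commute ⁅b, k⁆ k := (Subgroup.mem_centralizer_iff.1 hc.2 k (hKle' hk)).symm
    have e : b * k ^ 3 * b⁻¹ = k ^ 3 := by
      rw [← conj_pow, show b * k * b⁻¹ = ⁅b, k⁆ * k by rw [commutatorElement_def]; group, hck.mul_pow,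
        C.right.mid.pow _ (C.right.mid.Z_le hc), one_mul]
    calc b * k ^ 3 = b * k ^ 3 * b⁻¹ * b := by group
      _ = _ := by rw [e]
  have hZM : Z ≤ M := C.left.mid.Z_le.trans ((le_sup_left : V ≤ Λ).trans le_sup_left)
  have hMS : M ≤ S := sup_le (C.left.lam_le.trans hTS) hKle
  have hRM : R ≤ M := sup_le le_sup_left (hK2K.trans le_sup_right)
  have hZK2n : S ≤ 𝐍(Z ⊔ K2) := le_normalizer_sup hZn (le_normalizer_of_normal inferInstance _)
  have hKS : ⁅K, S⁆ ≤ Z ⊔ K2 := by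
    conv_lhs => rw [hSdec]
    refine commutator_sup_le ?_ (commutator_sup_le ?_ le_sup_right (hdec' hZK2n)) (hdec hZK2n)
    · rw [Subgroup.commutator_comm]; exact hBK.trans le_sup_left
    · rw [Subgroup.commutator_comm, hUK0]; exact bot_le
  have hMS2 : ⁅M, S⁆ ≤ Z ⊔ K2 := by
    rw [Subgroup.commutator_comm]
    refine commutator_sup_le ?_ ?_ (hMS.trans hZK2n)
    · rw [Subgroup.commutator_comm]; exact C.left.lam_comm.trans le_sup_left
    · rw [Subgroup.commutator_comm]; exact hKS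
  set Q := M ⊓ 𝐂(B') with hQ
  have hK2Q : K2 ≤ Q := le_inf (hK2K.trans le_sup_right) hK2B'
  have hLK : ⁅Λ, K⁆ = ⊥ :=
    Subgroup.commutator_eq_bot_iff_le_centralizer.2 (Subgroup.le_centralizer_iff.1 (hKU.trans
      (Subgroup.centralizer_le (SetLike.coe_subset_coe.2 le_sup_left))))
  have hMM : ⁅M, M⁆ ≤ K2 := by
    have h1 : ⁅Λ, M⁆ ≤ K2 := by
      refine commutator_sup_le ?_ (by rw [hLK]; exact bot_le) (le_normalizer_of_normal inferInstance _)
      have hc : Λ ≤ 𝐂(Λ) := CfsgLib.ChermakDelgado.comm_sup C.left.mid.V_comm C.left.side.V_comm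
        (C.left.V_le.trans C.left.side.T_cent)
      rw [Subgroup.commutator_eq_bot_iff_le_centralizer.2 hc]; exact bot_le
    have h2 : ⁅K, M⁆ ≤ K2 := by
      refine commutator_sup_le ?_ le_rfl (le_normalizer_of_normal inferInstance _)
      rw [Subgroup.commutator_comm, hLK]; exact bot_le
    calc ⁅M, M⁆ = ⁅M, Λ ⊔ K⁆ := by rw [← hM]
      _ ≤ K2 := commutator_sup_le (by rw [Subgroup.commutator_comm]; exact h1)
        (by rw [Subgroup.commutator_comm]; exact h2) (le_normalizer_of_normal inferInstance _)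
  refine ⟨M, Q, hMS, hS2.trans hRM, hcube, hMM.trans hK2Q, fun x hx => ⟨M.pow_mem hx _, ?_⟩, ?_,
    fun h => absurd rfl h, fun h => absurd h (lt_irrefl 3), fun z hz => hcent z hz.2 hz.1.2⟩
  · obtain ⟨a, ha, k, hk, rfl⟩ := CfsgLib.Coprime.exists_mul_of_mem_sup (le_normalizer_of_normal hKn Λ) hx
    have hak : Commute a k := Subgroup.mem_centralizer_iff.1 (hKU hk) a (Subgroup.mem_sup_left ha)
    refine Subgroup.mem_centralizer_iff.2 fun b hb' => ?_
    rw [hak.mul_pow, hLp a ha, one_mul]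
    exact hkc k hk b hb'
  · refine (Subgroup.commutator_mono hMS2 le_rfl).trans (le_trans ?_ (hK3K2.trans hK2Q))
    rw [Subgroup.commutator_comm]
    refine commutator_sup_le ?_ ?_ (le_normalizer_of_normal inferInstance _)
    · rw [Subgroup.commutator_eq_bot_iff_le_centralizer.2 hZcS]; exact bot_le
    · rw [Subgroup.commutator_comm]; exact hstep K2 K3 le_rfl inferInstance le_rfl

end

end CfsgLib.PushingUp.Family
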