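/-
The characteristic subgroup which measures how far a `p`-group is from the exceptional class, and its behaviour
under a bound of the kind produced by the two cases of the pushing-up theorem.
-/
import Mathlib
import Cfsg.Agent.Lib.PushingUp.Family.Cases

set_option autoImplicit false
set_option linter.unusedSectionVars false

open scoped commutatorElement

namespace CfsgLib.PushingUp.Family

variable {S : Type*} [Group S] {G : Type*} [Group G]

/-- The `p`-th powers. -/
def powGen (p : ℕ) (S : Type*) [Group S] : Subgroup S := Subgroup.closure (Set.range fun x : S => x ^ p)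

open Classical in
/-- The obstruction to the exceptional class. -/
noncomputable def s0 (p : ℕ) (S : Type*) [Group S] : Subgroup S :=
  ((if p = 3 then ⁅⁅frattini S, (⊤ : Subgroup S)⁆, (⊤ : Subgroup S)⁆ else ⁅frattini S, (⊤ : Subgroup S)⁆) ⊔
    (frattini ↥(frattini S)).map (frattini S).subtype) ⊔ (if 3 < p then powGen p S else ⊥)

theorem powGen_characteristic (p : ℕ) : (powGen p S).Characteristic := by
  rw [Subgroup.characteristic_iff_map_le]
  intro φ
  rw [powGen, MonoidHom.map_closure, Subgroup.closure_le]
  rintro _ ⟨_, ⟨x, rfl⟩, rfl⟩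
  exact Subgroup.subset_closure ⟨φ x, (map_pow φ x p).symm⟩

theorem sup_characteristic (A B : Subgroup S) [A.Characteristic] [B.Characteristic] :
    (A ⊔ B).Characteristic := by
  rw [Subgroup.characteristic_iff_map_eq]
  intro φ
  rw [Subgroup.map_sup, Subgroup.characteristic_iff_map_eq.1 inferInstance φ,
    Subgroup.characteristic_iff_map_eq.1 inferInstance φ]

theorem s0_characteristic (p : ℕ) : (s0 p S).Characteristic := by
  haveI := powGen_characteristic (S := S) p
  have h2 : ((frattini ↥(frattini S)).map (frattini S).subtype).Characteristic := by infer_instance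
  unfold s0
  split_ifs
  all_goals
    first
      | exact @sup_characteristic S _ _ _ (@sup_characteristic S _ _ _ inferInstance h2) inferInstance
      | (rw [sup_bot_eq]; exact @sup_characteristic S _ _ _ inferInstance h2)

theorem s0_eq_bot {p : ℕ} [hp : Fact p.Prime] [Finite S] [Nontrivial S] (hS : IsPGroup p S) (h : s0 p S = ⊥) :
    Cfsg.IsElementaryAbelian p (frattini S) ∧ (p = 2 → frattini S ≤ Subgroup.center S) ∧
      (p = 3 → frattini S ≤ Subgroup.upperCentralSeries S 2) ∧
      (3 < p → frattini S ≤ Subgroup.center S ∧ Monoid.exponent S = p) := by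
  simp only [s0, sup_eq_bot_iff] at h
  obtain ⟨⟨h1, h2⟩, h3⟩ := h
  rw [Subgroup.map_eq_bot_iff_of_injective _ (Subgroup.subtype_injective _)] at h2
  have hΦ : IsPGroup p ↥(frattini S) := hS.to_subgroup _
  refine ⟨⟨?_, fun x hx => ?_⟩, fun hp2 => ?_, fun hp3 => ?_, fun hp3 => ⟨?_, ?_⟩⟩
  · refine ⟨⟨fun a b => ?_⟩⟩
    have hab : ⁅a, b⁆ ∈ frattini ↥(frattini S) := CfsgLib.PGroup.commutator_le_frattini hΦ
      (Subgroup.commutator_mem_commutator (Subgroup.mem_top a) (Subgroup.mem_top b))
    rw [h2, Subgroup.mem_bot] at hab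
    exact commutatorElement_eq_one_iff_mul_comm.1 hab
  · have hx' := CfsgLib.PGroup.pow_mem_frattini hΦ (⟨x, hx⟩ : ↥(frattini S))
    rw [h2, Subgroup.mem_bot] at hx'
    exact congrArg Subtype.val hx'
  · rw [if_neg (by omega)] at h1
    rw [Subgroup.commutator_eq_bot_iff_le_centralizer, Subgroup.coe_top, Subgroup.centralizer_univ] at h1
    exact h1
  · subst hp3
    rw [if_pos rfl, Subgroup.commutator_eq_bot_iff_le_centralizer, Subgroup.coe_top, Subgroup.centralizer_univ] at h1
    intro x hx
    rw [Subgroup.mem_upperCentralSeries_succ_iff]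
    intro y
    rw [Subgroup.upperCentralSeries_one]
    exact h1 (Subgroup.commutator_mem_commutator hx (Subgroup.mem_top y))
  · rw [if_neg (by omega), Subgroup.commutator_eq_bot_iff_le_centralizer, Subgroup.coe_top,
      Subgroup.centralizer_univ] at h1
    exact h1
  · rw [if_pos hp3] at h3
    have hpow : ∀ x : S, x ^ p = 1 := fun x => by
      have hx : x ^ p ∈ powGen p S := Subgroup.subset_closure ⟨x, rfl⟩
      rwa [h3, Subgroup.mem_bot] at hx
    have hdvd := Monoid.exponent_dvd_of_forall_pow_eq_one hpow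
    rcases (Nat.dvd_prime hp.out).1 hdvd with h | h
    · exact absurd (Monoid.exp_eq_one_iff.1 h) (not_subsingleton S)
    · exact h

theorem Bound.s0_le {p : ℕ} [Fact p.Prime] [Finite S] [Finite G] {τ : S →* G} {E M₀ Q : Subgroup G}
    (hE : τ.range = E) (hb : Bound p E M₀ Q) :
    (s0 p S ⊓ Subgroup.center S).map τ ≤ Subgroup.center G := by
  subst hE
  have hmap : (⊤ : Subgroup S).map τ = τ.range := (MonoidHom.range_eq_map τ).symm
  have hmem : ∀ x : S, τ x ∈ τ.range := fun x => ⟨x, rfl⟩
  have hΦ : frattini S ≤ M₀.comap τ := by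
    refine CfsgLib.PGroup.frattini_le_of (p := p) _ ?_ fun x => ?_
    · rw [commutator_def, ← Subgroup.map_le_iff_le_comap, Subgroup.map_commutator, hmap]
      exact hb.der
    · show τ (x ^ p) ∈ M₀
      rw [map_pow]
      exact hb.pow _ (hmem x)
  have hΦ' : (frattini S).map τ ≤ M₀ := Subgroup.map_le_iff_le_comap.2 hΦ
  have hΦΦ : (frattini ↥(frattini S)).map (frattini S).subtype ≤ Q.comap τ := by
    rw [Subgroup.map_le_iff_le_comap]
    refine CfsgLib.PGroup.frattini_le_of (p := p) _ ?_ fun x => ?_
    · rw [commutator_def, ← Subgroup.map_le_iff_le_comap, Subgroup.map_commutator, ← MonoidHom.range_eq_map,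
        Subgroup.range_subtype, ← Subgroup.map_le_iff_le_comap, Subgroup.map_commutator]
      exact (Subgroup.commutator_mono hΦ' hΦ').trans hb.der₂
    · show τ ((x : S) ^ p) ∈ Q
      rw [map_pow]
      exact hb.pow₂ _ (hΦ x.2)
  have hle : s0 p S ≤ Q.comap τ := by
    unfold s0
    refine sup_le (sup_le ?_ hΦΦ) ?_
    · split_ifs with h
      · rw [← Subgroup.map_le_iff_le_comap, Subgroup.map_commutator, Subgroup.map_commutator, hmap]
        exact (Subgroup.commutator_mono (Subgroup.commutator_mono hΦ' le_rfl) le_rfl).trans hb.three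
      · rw [← Subgroup.map_le_iff_le_comap, Subgroup.map_commutator, hmap]
        exact (Subgroup.commutator_mono hΦ' le_rfl).trans (hb.two h)
    · split_ifs with h
      · rw [powGen, Subgroup.closure_le]
        rintro _ ⟨x, rfl⟩
        show τ (x ^ p) ∈ Q
        rw [map_pow]
        exact hb.pow_odd h _ (hmem x)
      · exact bot_le
  rintro _ ⟨z, ⟨hz, hzc⟩, rfl⟩
  refine hb.central ⟨hle hz, hmem z, Subgroup.mem_centralizer_iff.2 ?_⟩
  rintro _ ⟨y, rfl⟩
  rw [← map_mul, ← map_mul, Subgroup.mem_center_iff.1 hzc y]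

end CfsgLib.PushingUp.Family
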