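/-
The pushing-up theorem for a finite family: some member centralizes the obstruction to the exceptional class.
-/
import Mathlib
import Cfsg.Agent.Lib.PushingUp.Family.Ambient
import Cfsg.Agent.Lib.PushingUp.Family.Weak

set_option autoImplicit false
set_option linter.style.haveILetI false
set_option linter.unusedSectionVars false

open scoped commutatorElement MatrixGroups

namespace CfsgLib.PushingUp.Family

open Cfsg CfsgLib.LocalEven.NaturalRecognition CfsgLib.PushingUp

local notation:max "𝐂(" R ")" => Subgroup.centralizer (SetLike.coe R)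

local notation:max "𝐍(" R ")" => Subgroup.normalizer (SetLike.coe R)

variable {S : Type*} [Group S] [Finite S] {ι : Type*} [Finite ι] [DecidableEq ι] {G : ι → Type*}
  [∀ i, Group (G i)] [∀ i, Finite (G i)] {p : ℕ} [hp : Fact p.Prime]
  {F : ι → Type} [∀ i, Field (F i)] [∀ i, Fintype (F i)] {τ : ∀ i, S →* G i}

theorem Data.main (D : Data p F τ) (pr : ∀ i, Proj p (F i) (τ i).range) :
    ∃ i, (s0 p S ⊓ Subgroup.center S).map (τ i) ≤ Subgroup.center (G i) := by
  suffices h : ∃ i M₀ Q, Bound p (τ i).range M₀ Q by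
    obtain ⟨i, M₀, Q, hb⟩ := h
    exact ⟨i, hb.s0_le rfl⟩
  have amb := D.amb pr
  have hinj := emb_injective τ D.inj
  have hS : ∀ i, (τ i).range.map (emb τ D.inj i) = (base τ).range := fun i => by
    rw [MonoidHom.map_range, emb_comp]
  have hpull : ∀ i {K : Subgroup (Equiv.Perm (Pt τ))}, K ≤ (⊤ : Subgroup (G i)).map (emb τ D.inj i) →
      (K.comap (emb τ D.inj i)).map (emb τ D.inj i) = K := fun i K hK =>
    Subgroup.map_comap_eq_self (hK.trans (Subgroup.map_le_range _ _))
  have hSG : ∀ i, (base τ).range ≤ (⊤ : Subgroup (G i)).map (emb τ D.inj i) := fun i =>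
    hS i ▸ Subgroup.map_mono le_top
  obtain ⟨b, w, e, hb1, hC, hw⟩ := amb.exists_crit
  have hb2 := amb.b_le_two hC hw
  obtain rfl | rfl : b = 1 ∨ b = 2 := by omega
  · obtain ⟨i, q', T', V', hs, hnle⟩ := amb.out_one hC hw
    have hT'G := hs.T_le.trans (hSG i)
    have hV'G := hs.V_le_E.trans (hSG i)
    rw [← hS i, ← hpull i hT'G, ← hpull i hV'G] at hs
    exact ⟨i, caseOne_bound (D.sit i) (pr i) rfl (D.edge i) (hs.map_inj (hinj i)) fun hle => hnle (by
      rw [← hpull i hV'G]; exact Subgroup.map_mono hle)⟩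
  · obtain ⟨a, f, hinc, hopp, hcrit, -⟩ := amb.exists_seq hC le_rfl hw
    have hwin : ∀ k, Line (fun i => (⊤ : Subgroup (G i)).map (emb τ D.inj i)) (base τ).range
        (fun i => (closureZ (τ i).range).map (emb τ D.inj i)) (fun i => a (k + i)) (fun i => f (k + i)) := fun k =>
      ⟨fun i _ => hinc (k + i), hopp (k + 1), fun i _ => hcrit (k + i)⟩
    have hq : ∀ k, Fintype.card (F (a (k + 3)).1) = Fintype.card (F (a (k + 2)).1) := fun k => by
      refine le_antisymm ?_ ?_
      · simpa [add_assoc] using amb.q_le hC (hwin (k + 1))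
      · simpa using amb.q_le hC (hwin k).rev
    have pull : ∀ {v : ℕ → ι × Equiv.Perm (Pt τ)} {f : ℕ → Subgroup (Equiv.Perm (Pt τ))},
        Line (fun i => (⊤ : Subgroup (G i)).map (emb τ D.inj i)) (base τ).range
          (fun i => (closureZ (τ i).range).map (emb τ D.inj i)) v f →
        Fintype.card (F (v 1).1) = Fintype.card (F (v 2).1) →
        Fintype.card (F (v 3).1) = Fintype.card (F (v 2).1) →
        ∀ i, (v 2).1 = i →
        ∃ (a : Equiv.Perm (Pt τ)) (h : G i) (Tm Vm B Tp Vp B' : Subgroup (G i)),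
          Two (pr i) (pCore p (G i)) (closureZ (τ i).range) h Tm Vm B Tp Vp B' ∧
          cjg a (f 1) = (τ i).range.map (emb τ D.inj i) ∧
          cjg a (at' (fun i => (closureZ (τ i).range).map (emb τ D.inj i)) (v 2)) =
            (closureZ (τ i).range).map (emb τ D.inj i) ∧
          cjg a (at' (fun i => (closureZ (τ i).range).map (emb τ D.inj i)) (v 1)) = Vm.map (emb τ D.inj i) ∧
          cjg a (at' (fun i => (closureZ (τ i).range).map (emb τ D.inj i)) (v 0)) = B.map (emb τ D.inj i) ∧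
          cjg a (at' (fun i => (closureZ (τ i).range).map (emb τ D.inj i)) (v 3)) = Vp.map (emb τ D.inj i) := by
      rintro v f hL h1 h3 i rfl
      obtain ⟨a, h, e1, eV, hh, hl, hr, hnc, hTm, hTp⟩ := amb.line_cfg hC hL h1 h3
      obtain ⟨h, hh, rfl⟩ := hh
      have hcj : cjg (emb τ D.inj (v 2).1 h) (base τ).range =
          ((τ (v 2).1).range.map (MulAut.conj h).toMonoidHom).map (emb τ D.inj (v 2).1) := by
        rw [← hS (v 2).1, cjg, Subgroup.map_map, Subgroup.map_map]
        congr 1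
        exact MonoidHom.ext fun x => by simp
      rw [hcj] at hr
      have hSG' : ((τ (v 2).1).range.map (MulAut.conj h).toMonoidHom).map (emb τ D.inj (v 2).1) ≤
          (⊤ : Subgroup (G (v 2).1)).map (emb τ D.inj (v 2).1) := Subgroup.map_mono le_top
      have eVm := (hpull (v 2).1 (hl.side.V_le_E.trans (hSG (v 2).1))).symm
      have eB := (hpull (v 2).1 (hl.B_le.trans (hSG (v 2).1))).symm
      have eTm := (hpull (v 2).1 hTm).symm
      have eVp := (hpull (v 2).1 (hr.side.V_le_E.trans hSG')).symm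
      have eB' := (hpull (v 2).1 (hr.B_le.trans hSG')).symm
      have eTp := (hpull (v 2).1 hTp).symm
      rw [eTm, eVm, eB, ← hS (v 2).1] at hl
      rw [eTp, eVp, eB'] at hr
      refine ⟨a, h, _, _, _, _, _, _, ⟨hh, hl.map_inj (hinj (v 2).1), hr.map_inj (hinj (v 2).1), fun hcm => hnc ?_⟩,
        e1.trans (hS (v 2).1).symm, eV, eVm, eB, eVp⟩
      rw [eVm, eVp]
      rintro _ ⟨x, hx, rfl⟩
      refine Subgroup.mem_centralizer_iff.2 ?_
      rintro _ ⟨y, hy, rfl⟩
      rw [← map_mul, ← map_mul, Subgroup.mem_centralizer_iff.1 (hcm hx) y hy]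
    obtain ⟨a₀, h₀, Tm, Vm, B, Tp, Vp, B', C₀, f1, -, g1, -, g3⟩ :=
      pull (hwin 1).rev (hq 1) (hq 0).symm (a 3).1 rfl
    by_cases hq0 : ⁅Vp, (τ (a 3).1).range⁆ ≤ Vm
    · obtain ⟨a₁, h₁, Tm1, Vm1, B1, Tp1, Vp1, B1', C₁, k1, kV, -, kB, -⟩ :=
        pull (hwin 2) (hq 1).symm (hq 2) (a 4).1 rfl
      by_cases hq1 : ⁅Vp1, (τ (a 4).1).range⁆ ≤ Vm1
      · refine (two_contra (D.sit _) (D.edge _) C₁ hq1 ?_).elim
        rw [← Subgroup.map_le_map_iff_of_injective (hinj _), Subgroup.map_commutator]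
        rw [← Subgroup.map_le_map_iff_of_injective (hinj _), Subgroup.map_commutator] at hq0
        rw [← g3, ← f1, ← g1, ← cjg_commutator, cjg_inj] at hq0
        rw [← kV, ← kB, ← k1, ← cjg_commutator, cjg_inj]
        exact hq0
      · exact ⟨_, caseTwo_bound C₁ (D.sit _) rfl (D.edge _) hq1⟩
    · exact ⟨_, caseTwo_bound C₀ (D.sit _) rfl (D.edge _) hq0⟩

end CfsgLib.PushingUp.Family
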