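/-
Moving the characteristic subgroups of an abstract Sylow group into a group where it is embedded.
-/
import Mathlib
import Cfsg.Agent.Lib.PushingUp.Main

set_option autoImplicit false
set_option linter.style.haveILetI false
set_option linter.unusedSectionVars false

open scoped commutatorElement

namespace CfsgLib.PushingUp.Family

open Cfsg CfsgLib.ChermakDelgado CfsgLib.PushingUp

variable {S : Type*} [Group S] {G : Type*} [Group G] {τ : S →* G}

local notation:max "𝐂(" R ")" => Subgroup.centralizer (SetLike.coe R)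

/-- `Z(J(S))`. -/
def zj (S : Type*) [Group S] : Subgroup S := thompsonSubgroupA S ⊓ Subgroup.centralizer (thompsonSubgroupA S : Set S)

theorem map_centralizer_eq (hτ : Function.Injective τ) (X : Subgroup S) :
    (𝐂(X)).map τ = τ.range ⊓ 𝐂(X.map τ) := by
  ext y
  constructor
  · rintro ⟨x, hx, rfl⟩
    refine ⟨⟨x, rfl⟩, Subgroup.mem_centralizer_iff.2 ?_⟩
    rintro _ ⟨b, hb, rfl⟩
    rw [← map_mul, ← map_mul, Subgroup.mem_centralizer_iff.1 hx b hb]
  · rintro ⟨⟨x, rfl⟩, hy⟩
    refine ⟨x, Subgroup.mem_centralizer_iff.2 fun b hb => hτ ?_, rfl⟩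
    rw [map_mul, map_mul]
    exact Subgroup.mem_centralizer_iff.1 hy _ ⟨b, hb, rfl⟩

theorem map_center_eq (hτ : Function.Injective τ) : (Subgroup.center S).map τ = τ.range ⊓ 𝐂(τ.range) := by
  rw [← Subgroup.centralizer_univ, ← Subgroup.coe_top, map_centralizer_eq hτ, ← MonoidHom.range_eq_map]

theorem comm_map (hτ : Function.Injective τ) {A : Subgroup S} :
    A.map τ ≤ 𝐂(A.map τ) ↔ A ≤ 𝐂(A) := by
  constructor
  · intro h x hx
    have h1 : τ x ∈ (𝐂(A)).map τ := by
      rw [map_centralizer_eq hτ]; exact ⟨⟨x, rfl⟩, h ⟨x, hx, rfl⟩⟩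
    exact (Subgroup.mem_map_iff_mem hτ).1 h1
  · intro h
    exact (Subgroup.map_mono h).trans ((map_centralizer_eq hτ A).le.trans inf_le_right)

theorem isLargeIn_map (hτ : Function.Injective τ) {A : Subgroup S} (hA : A ∈ maxAbelianSubgroups S) :
    IsLargeIn τ.range (A.map τ) := by
  refine ⟨Subgroup.map_le_range _ _, (comm_map hτ).2 ((comm_iff A).1 hA.1), fun B hB hBc => ?_⟩
  have hBm : (B.comap τ).map τ = B := Subgroup.map_comap_eq_self hB
  rw [← hBm, Subgroup.card_map_of_injective hτ, Subgroup.card_map_of_injective hτ]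
  exact hA.2 _ ((comm_iff _).2 ((comm_map hτ).1 (by rw [hBm]; exact hBc)))

theorem mem_maxAbelian_comap (hτ : Function.Injective τ) {B : Subgroup G} (hB : IsLargeIn τ.range B) :
    B.comap τ ∈ maxAbelianSubgroups S := by
  have hBm : (B.comap τ).map τ = B := Subgroup.map_comap_eq_self hB.le
  refine ⟨(comm_iff _).2 ((comm_map hτ).1 (by rw [hBm]; exact hB.comm)), fun A hA => ?_⟩
  rw [← Subgroup.card_map_of_injective hτ (K := A), ← Subgroup.card_map_of_injective hτ (K := B.comap τ), hBm]
  exact hB.max _ (Subgroup.map_le_range _ _) ((comm_map hτ).2 ((comm_iff A).1 hA))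

theorem map_thompson (hτ : Function.Injective τ) :
    (thompsonSubgroupA S).map τ = thompsonSubgroupAOf τ.range := by
  refine le_antisymm ?_ (thompson_le fun B hB => ?_)
  · rw [Subgroup.map_le_iff_le_comap]
    exact sSup_le fun A hA => Subgroup.map_le_iff_le_comap.1 (isLargeIn_map hτ hA).le_thompson
  · rw [← Subgroup.map_comap_eq_self hB.le]
    exact Subgroup.map_mono (le_sSup (mem_maxAbelian_comap hτ hB))

theorem map_zj (hτ : Function.Injective τ) : (zj S).map τ = centerThompsonAOf τ.range := by
  rw [zj, Subgroup.map_inf _ _ _ hτ, map_centralizer_eq hτ, map_thompson hτ, centerThompsonAOf, ← inf_assoc,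
    inf_eq_left.2 (thompson_le_self τ.range)]

theorem map_jt (hτ : Function.Injective τ) :
    (𝐂(zj S)).map τ = τ.range ⊓ 𝐂(centerThompsonAOf τ.range) := by
  rw [map_centralizer_eq hτ, map_zj hτ]

theorem range_le_centralizer_zj (hτ : Function.Injective τ) (h : 𝐂(zj S) = ⊤) :
    τ.range ≤ 𝐂(centerThompsonAOf τ.range) := by
  have h1 := map_jt (τ := τ) hτ
  rw [h, ← MonoidHom.range_eq_map] at h1
  exact h1.le.trans inf_le_right

/-- A characteristic subgroup of a normal embedded group is normal. -/
theorem normal_map_of_char (hτ : Function.Injective τ) (hn : τ.range.Normal) (C : Subgroup S)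
    [hC : C.Characteristic] : (C.map τ).Normal := by
  refine ⟨fun x hx g => ?_⟩
  obtain ⟨c, hc, rfl⟩ := hx
  haveI := hn
  let α : S ≃* S := (MonoidHom.ofInjective hτ).trans
    ((MulAut.conjNormal (H := τ.range) g).trans (MonoidHom.ofInjective hτ).symm)
  refine ⟨α c, (Subgroup.characteristic_iff_map_le.1 hC α) ⟨c, hc, rfl⟩, ?_⟩
  rw [← MonoidHom.ofInjective_apply hτ]
  show ((MonoidHom.ofInjective hτ) ((MonoidHom.ofInjective hτ).symm _) : G) = _
  rw [MulEquiv.apply_symm_apply]
  simp [MonoidHom.ofInjective_apply]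

theorem mem_center_map (hτ : Function.Injective τ) {X : Subgroup S} (hX : X ≤ Subgroup.center S) :
    X.map τ ≤ τ.range ⊓ 𝐂(τ.range) := (Subgroup.map_mono hX).trans (map_center_eq hτ).le

section Cl

variable {H : Type*} [Group H]

theorem card_center_map [Finite S] {f : S →* H} (hf : Function.Injective f) (R : Subgroup S) :
    Nat.card (Subgroup.center ↥(R.map f)) = Nat.card (Subgroup.center ↥R) :=
  (Nat.card_congr (Subgroup.centerCongr (R.equivMapOfInjective f hf)).toEquiv).symm

theorem mcp_congr [Finite S] [Finite H] (e : S ≃* H) : maxCentralProduct S = maxCentralProduct H := by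
  obtain ⟨R, hR⟩ := exists_centrallyLarge S
  obtain ⟨R', hR'⟩ := exists_centrallyLarge H
  refine le_antisymm ?_ ?_
  · rw [← show _ = maxCentralProduct S from hR]
    rw [← Subgroup.card_map_of_injective (f := e.toMonoidHom) e.injective (K := R),
      ← card_center_map (f := e.toMonoidHom) e.injective R]
    exact le_maxCentralProduct _
  · rw [← show _ = maxCentralProduct H from hR']
    rw [← Subgroup.card_map_of_injective (f := e.symm.toMonoidHom) e.symm.injective (K := R'),
      ← card_center_map (f := e.symm.toMonoidHom) e.symm.injective R']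
    exact le_maxCentralProduct _

theorem cl_iso [Finite S] [Finite H] (e : S ≃* H) {R : Subgroup S} (hR : IsCentrallyLarge R) :
    IsCentrallyLarge (R.map e.toMonoidHom) := by
  unfold IsCentrallyLarge at hR ⊢
  rw [Subgroup.card_map_of_injective (f := e.toMonoidHom) e.injective,
    card_center_map (f := e.toMonoidHom) e.injective, ← mcp_congr e]
  exact hR

theorem mcl_iso [Finite S] [Finite H] (e : S ≃* H) {R : Subgroup S} (hR : IsMinimalCentrallyLarge R) :
    IsMinimalCentrallyLarge (R.map e.toMonoidHom) := by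
  refine ⟨cl_iso e hR.1, fun R' hle h' => ?_⟩
  have hback : ∀ X : Subgroup S, (X.map e.toMonoidHom).map e.symm.toMonoidHom = X := fun X => by
    rw [Subgroup.map_map]; convert Subgroup.map_id X; ext; simp
  have h1 := hR.2 (R'.map e.symm.toMonoidHom) ((Subgroup.map_mono hle).trans (hback R).le) (cl_iso e.symm h')
  rw [← h1, Subgroup.map_map]
  convert (Subgroup.map_id R').symm
  ext; simp

theorem mcl_join_iso [Finite S] [Finite H] (e : S ≃* H) :
    (minimalCentrallyLargeJoin S).map e.toMonoidHom = minimalCentrallyLargeJoin H := by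
  refine le_antisymm ?_ (sSup_le fun R hR => ?_)
  · rw [Subgroup.map_le_iff_le_comap]
    exact sSup_le fun R hR => Subgroup.map_le_iff_le_comap.1 (le_sSup (mcl_iso e hR))
  · refine le_trans (le_of_eq ?_) (Subgroup.map_mono (le_sSup (mcl_iso e.symm hR)))
    rw [Subgroup.map_map]
    convert (Subgroup.map_id R).symm
    ext; simp

/-- A subgroup containing a centrally large subgroup has the same maximum. -/
theorem mcp_subgroup [Finite S] {C R : Subgroup S} (hR : IsCentrallyLarge R) (hRC : R ≤ C) :
    maxCentralProduct ↥C = maxCentralProduct S := by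
  obtain ⟨X, hX⟩ := exists_centrallyLarge ↥C
  refine le_antisymm ?_ ?_
  · rw [← show _ = maxCentralProduct ↥C from hX,
      ← Subgroup.card_map_of_injective C.subtype_injective (K := X), ← card_center_map C.subtype_injective X]
    exact le_maxCentralProduct _
  · rw [← show _ = maxCentralProduct S from hR]
    have h1 := le_maxCentralProduct (R.subgroupOf C)
    rwa [← Subgroup.card_map_of_injective C.subtype_injective (K := R.subgroupOf C),
      ← card_center_map C.subtype_injective (R.subgroupOf C), Subgroup.map_subgroupOf_eq_of_le hRC] at h1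

end Cl

end CfsgLib.PushingUp.Family
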