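/-
A pair of characteristic subgroups one of which is normal in every pushing-up situation, outside the exceptional
class.
-/
import Mathlib
import Cfsg.Agent.Lib.PushingUp.Family.Main
import Cfsg.Agent.Lib.PushingUp.Family.Transfer
import Cfsg.Agent.S2990
import Cfsg.Agent.S3007

set_option autoImplicit false
set_option linter.style.haveILetI false
set_option linter.unusedSectionVars false

universe u

open scoped commutatorElement Pointwise

namespace CfsgLib.PushingUp.Family

open Cfsg CfsgLib.ChermakDelgado CfsgLib.PushingUp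

variable {S : Type u} [Group S]

local notation:max "𝐂(" R ")" => Subgroup.centralizer (SetLike.coe R)

/-- Normal in every pushing-up situation. -/
def Good (p : ℕ) (S₁ S₂ : Subgroup S) : Prop :=
  ∀ (G : Type u) [Group G] [Finite G] (τ : S →* G), Function.Injective τ → IsPushingUpSituation p τ.range →
    (S₁.map τ).Normal ∨ (S₂.map τ).Normal

/-- The exceptional class. -/
def Exc (p : ℕ) (S : Type u) [Group S] : Prop :=
  ¬ IsMulCommutative S ∧ thompsonSubgroupA S = ⊤ ∧ IsElementaryAbelian p (Subgroup.center S) ∧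
    IsElementaryAbelian p (frattini S) ∧ (p = 2 → frattini S ≤ Subgroup.center S) ∧
    (p = 3 → frattini S ≤ Subgroup.upperCentralSeries S 2) ∧
    (3 < p → frattini S ≤ Subgroup.center S ∧ Monoid.exponent S = p) ∧
    (∀ A ∈ maxAbelianSubgroups S, ∀ B ∈ maxAbelianSubgroups S, ∀ Q : Subgroup S,
      Nat.card A ^ 2 = Nat.card S * Nat.card ↥(Subgroup.center S) ∧
      Nat.card Q * Nat.card ↥(Subgroup.center ↥Q) ≤ Nat.card S * Nat.card ↥(Subgroup.center S) ∧
      ((A ⊔ B : Subgroup S) : Set S) = (A : Set S) * (B : Set S) ∧ A ⊔ B = 𝐂(A ⊓ B))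

theorem char_inf (A B : Subgroup S) [A.Characteristic] [B.Characteristic] : (A ⊓ B).Characteristic := by
  rw [Subgroup.characteristic_iff_map_eq]
  intro φ
  rw [Subgroup.map_inf _ _ _ (show Function.Injective φ.toMonoidHom from φ.injective),
    Subgroup.characteristic_iff_map_eq.1 inferInstance φ,
    Subgroup.characteristic_iff_map_eq.1 inferInstance φ]

theorem thompson_char : (thompsonSubgroupA S).Characteristic := by
  rw [Subgroup.characteristic_iff_map_le]
  intro φ
  rw [Subgroup.map_le_iff_le_comap]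
  refine sSup_le fun A hA => Subgroup.map_le_iff_le_comap.1 (le_sSup ⟨?_, fun B hB => ?_⟩)
  · haveI := hA.1
    infer_instance
  · haveI := hB
    rw [Subgroup.card_map_of_injective (f := φ.toMonoidHom) φ.injective]
    calc Nat.card B = Nat.card ↥(B.map φ.symm.toMonoidHom) :=
          (Subgroup.card_map_of_injective (f := φ.symm.toMonoidHom) φ.symm.injective).symm
      _ ≤ _ := hA.2 _ inferInstance

theorem zj_char : (zj S).Characteristic := by
  haveI := thompson_char (S := S)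
  exact char_inf _ _

theorem char_subgroupOf_of_eq_top {C : Subgroup S} (h : C = ⊤) (S₂ : Subgroup S) [S₂.Characteristic] :
    (S₂.subgroupOf C).Characteristic := by
  subst h
  rw [Subgroup.characteristic_iff_map_le]
  rintro φ _ ⟨⟨x, hx'⟩, hx, rfl⟩
  exact Subgroup.characteristic_iff_map_le.1 inferInstance
    ((Subgroup.topEquiv.symm.trans φ).trans Subgroup.topEquiv : S ≃* S) ⟨x, hx, rfl⟩

variable [Finite S] {p : ℕ} [hp : Fact p.Prime]

theorem inf_center_ne_bot (hS : IsPGroup p S) (N : Subgroup S) [N.Normal] (h : N ≠ ⊥) :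
    N ⊓ Subgroup.center S ≠ ⊥ := by
  intro e
  refine h (eq_bot_of_inf_center (p := p) (S := (⊤ : Subgroup S)) (hS.to_subgroup _) le_top ?_ ?_)
  · exact (Subgroup.normalizer_eq_top_iff.2 inferInstance).ge
  · rwa [top_inf_eq, Subgroup.coe_top, Subgroup.centralizer_univ]

section Local

variable {G : Type u} [Group G] [Finite G] {τ : S →* G} (hτ : Function.Injective τ)
  (hE : IsPushingUpSituation p τ.range)

include hτ in
theorem center_cases {S₁ : Subgroup S} (h₁ : S₁ ≤ Subgroup.center S) :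
    (S₁.map τ).Normal ∨ ¬ τ.range ⊓ 𝐂(τ.range) ≤ Subgroup.center G := by
  by_cases h : τ.range ⊓ 𝐂(τ.range) ≤ Subgroup.center G
  · exact Or.inl (normal_of_le_center ((mem_center_map hτ h₁).trans h))
  · exact Or.inr h

include hτ hE in
/-- Either `J̃` is normal or a large abelian subgroup lies outside the core. -/
theorem large_cases (hnc : ¬ τ.range ⊓ 𝐂(τ.range) ≤ Subgroup.center G) :
    ((𝐂(zj S)).map τ).Normal ∨ ∃ A ∈ maxAbelianSubgroups S, ¬ A.map τ ≤ pCore p G := by
  by_cases h : ∀ A ∈ maxAbelianSubgroups S, A.map τ ≤ pCore p G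
  · left
    rw [map_jt hτ]
    refine thompson_le_core_normal hE hnc ?_
    rw [← map_thompson hτ, Subgroup.map_le_iff_le_comap]
    exact sSup_le fun A hA => Subgroup.map_le_iff_le_comap.1 (h A hA)
  · push Not at h
    exact Or.inr h

include hτ hE in
/-- With `J̃ = S`, a group where a characteristic subgroup is not normal gives a member of a family. -/
theorem member_facts (hJ : 𝐂(zj S) = ⊤) (hnc : ¬ τ.range ⊓ 𝐂(τ.range) ≤ Subgroup.center G)
    {C : Subgroup S} [C.Characteristic] (hC : ¬ (C.map τ).Normal) :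
    ∃ A ∈ maxAbelianSubgroups S, ¬ A.map τ ≤ pCore p G := by
  rcases large_cases hτ hE hnc with h | h
  · rw [hJ, ← MonoidHom.range_eq_map] at h
    exact absurd (normal_map_of_char hτ h C) hC
  · exact h

include hE in
theorem exists_proj_field :
    ∃ (F : Type) (_ : Field F) (_ : Fintype F), Nonempty (Proj p F τ.range) := by
  obtain ⟨P, hP⟩ := hE.2.1
  obtain ⟨-, -, -, -, K, hK, F, hFf, hFt, n, hn, ⟨e⟩⟩ := hE
  have hn1 : 1 ≤ n := by
    rcases Nat.eq_zero_or_pos n with rfl | h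
    · exact absurd hn (by rw [pow_zero]; exact Fintype.one_lt_card.ne')
    · exact h
  exact ⟨F, hFf, hFt, exists_proj P hP K n hn1 hn e⟩

end Local

theorem subsingleton_of_center_bot (hS : IsPGroup p S) [Nontrivial S] : Subgroup.center S ≠ ⊥ := by
  haveI := hS.center_nontrivial
  exact (Subgroup.nontrivial_iff_ne_bot _).1 inferInstance

/-- `J̃` proper. -/
theorem case_jt (hS : IsPGroup p S) [Nontrivial S] (hJ : ⁅zj S, (⊤ : Subgroup S)⁆ ≠ ⊥) :
    ⁅zj S, (⊤ : Subgroup S)⁆ ⊓ Subgroup.center S ≠ ⊥ ∧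
      (⁅zj S, (⊤ : Subgroup S)⁆ ⊓ Subgroup.center S).Characteristic ∧
      Good p (⁅zj S, (⊤ : Subgroup S)⁆ ⊓ Subgroup.center S) (𝐂(zj S)) := by
  haveI := zj_char (S := S)
  refine ⟨inf_center_ne_bot hS _ hJ, char_inf _ _, fun G _ _ τ hτ hE => ?_⟩
  rcases center_cases hτ (inf_le_right : ⁅zj S, (⊤ : Subgroup S)⁆ ⊓ Subgroup.center S ≤ _) with h | hnc
  · exact Or.inl h
  rcases large_cases hτ hE hnc with h | ⟨A, hA, hAT⟩
  · exact Or.inr h
  obtain ⟨W₀, hW₀, hW₀W, hWle, hW₀Z, -⟩ := exists_split hE hnc (isLargeIn_map hτ hA) hAT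
  left
  refine normal_of_le_center (le_trans ?_ hW₀Z)
  refine le_inf ((Subgroup.map_mono inf_le_left).trans ?_)
    ((mem_center_map hτ inf_le_right).trans inf_le_right)
  rw [Subgroup.map_commutator, map_zj hτ, ← MonoidHom.range_eq_map, Subgroup.commutator_le]
  intro y hy s hs
  obtain ⟨f, hf, x, hx, rfl⟩ := Subgroup.mem_sup_of_normal_right.1 (hWle hy)
  have hfs := Subgroup.mem_centralizer_iff.1 hf.2 s hs
  have e : ⁅f * x, s⁆ = (f * x * f⁻¹) * (f * (s * x⁻¹ * s⁻¹) * f⁻¹) := by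
    calc ⁅f * x, s⁆ = f * x * s * x⁻¹ * (s⁻¹ * (s * f⁻¹)) * s⁻¹ := by rw [commutatorElement_def]; group
      _ = f * x * s * x⁻¹ * (s⁻¹ * (f⁻¹ * s)) * s⁻¹ := by
          rw [show s * f⁻¹ = f⁻¹ * s from (Commute.inv_right (show Commute s f from hfs)).eq]
      _ = _ := by group
  rw [e]
  exact W₀.mul_mem (hW₀.conj_mem x hx f) (hW₀.conj_mem _ (hW₀.conj_mem _ (W₀.inv_mem hx) s) f)

/-- `Z(S)` not of exponent `p`. -/
theorem case_pow (hJ : 𝐂(zj S) = ⊤) (h : ∃ z ∈ Subgroup.center S, z ^ p ≠ 1) :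
    powerClosure p 1 (Subgroup.center S) ≠ ⊥ ∧ (powerClosure p 1 (Subgroup.center S)).Characteristic ∧
      powerClosure p 1 (Subgroup.center S) ≤ Subgroup.center S ∧
      Good p (powerClosure p 1 (Subgroup.center S)) (⊤ : Subgroup S) := by
  obtain ⟨z, hz, hzp⟩ := h
  have hle : powerClosure p 1 (Subgroup.center S) ≤ Subgroup.center S := by
    rw [powerClosure, Subgroup.closure_le]
    rintro _ ⟨x, hx, rfl⟩
    exact Subgroup.pow_mem _ hx _
  refine ⟨fun e => hzp ?_, ?_, hle, fun G _ _ τ hτ hE => ?_⟩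
  · rw [← Subgroup.mem_bot, ← e]
    exact Subgroup.subset_closure ⟨z, hz, by rw [pow_one]⟩
  · rw [Subgroup.characteristic_iff_map_le]
    intro φ
    rw [powerClosure, MonoidHom.map_closure, Subgroup.closure_le]
    rintro _ ⟨_, ⟨x, hx, rfl⟩, rfl⟩
    exact Subgroup.subset_closure ⟨φ x, Subgroup.characteristic_iff_map_le.1 inferInstance φ ⟨x, hx, rfl⟩,
      map_pow φ x _⟩
  rcases center_cases hτ hle with h | hnc
  · exact Or.inl h
  rcases large_cases hτ hE hnc with h | ⟨A, hA, hAT⟩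
  · rw [hJ] at h
    exact Or.inr h
  obtain ⟨W₀, -, -, -, -, hpow⟩ := exists_split hE hnc (isLargeIn_map hτ hA) hAT
  left
  refine normal_of_le_center ?_
  rw [powerClosure, MonoidHom.map_closure, Subgroup.closure_le]
  rintro _ ⟨_, ⟨x, hx, rfl⟩, rfl⟩
  rw [pow_one, map_pow]
  exact hpow _ (mem_center_map hτ le_rfl ⟨x, hx, rfl⟩)

/-- Minimal centrally large subgroups nonabelian. -/
theorem case_mcl (hS : IsPGroup p S) (hJ : 𝐂(zj S) = ⊤) {Q : Subgroup S} (hQ : IsMinimalCentrallyLarge Q)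
    (h : ⁅Q, Q⁆ ≠ ⊥) :
    ⁅Q, Q⁆ ⊓ Subgroup.center S ≠ ⊥ ∧ (⁅Q, Q⁆ ⊓ Subgroup.center S).Characteristic ∧
      (minimalCentrallyLargeJoin S).Characteristic ∧
      Good p (⁅Q, Q⁆ ⊓ Subgroup.center S) (minimalCentrallyLargeJoin S) := by
  haveI hQc : (⁅Q, Q⁆).Characteristic := by
    rw [Subgroup.characteristic_iff_map_eq]
    intro φ
    rw [Subgroup.map_commutator]
    exact (Cfsg.Agent.S3007.result S hS _ Q (mcl_iso φ hQ) hQ).2.1
  refine ⟨inf_center_ne_bot hS _ h, char_inf _ _,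
    Subgroup.characteristic_iff_map_eq.2 fun φ => mcl_join_iso φ, fun G _ _ τ hτ hE => ?_⟩
  set e := MonoidHom.ofInjective hτ
  have he : τ.range.subtype.comp e.toMonoidHom = τ := MonoidHom.ext fun x => MonoidHom.ofInjective_apply hτ
  rcases (Cfsg.Agent.S2990.result τ.range hE (range_le_centralizer_zj hτ hJ) _ (mcl_iso e hQ)).2.1 with h | h
  · left
    rw [← Subgroup.map_commutator, Subgroup.map_map, he, ← map_center_eq hτ, inf_comm,
      ← Subgroup.map_inf _ _ _ hτ] at h
    exact h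
  · right
    rw [← mcl_join_iso e, Subgroup.map_map, he] at h
    exact h

/-- The family case. -/
theorem case_family (hJ : 𝐂(zj S) = ⊤) (hcl : IsCentrallyLarge (⊤ : Subgroup S))
    (hmax : ∀ A ∈ maxAbelianSubgroups S, Nat.card A * Nat.card A = Nat.card S * Nat.card ↥(Subgroup.center S))
    (hpow : ∀ z ∈ Subgroup.center S, z ^ p = 1) :
    ∃ C : Subgroup S, C.Characteristic ∧ IsCentrallyLarge C ∧ Good p (s0 p S ⊓ Subgroup.center S) C := by
  classical
  by_contra hno
  push Not at hno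
  have hbad : ∀ c : {C : Subgroup S // C.Characteristic ∧ IsCentrallyLarge C},
      ∃ (G : Type u) (_ : Group G) (_ : Finite G) (τ : S →* G), Function.Injective τ ∧
        IsPushingUpSituation p τ.range ∧ ¬ ((s0 p S ⊓ Subgroup.center S).map τ).Normal ∧ ¬ ((c : Subgroup S).map τ).Normal := by
    rintro ⟨C, hC, hC'⟩
    have h := hno C hC hC'
    unfold Good at h
    push Not at h
    obtain ⟨G, i1, i2, τ, h1, h2, h3, h4⟩ := h
    exact ⟨G, i1, i2, τ, h1, h2, h3, h4⟩
  choose G iG iF τ hτ hE h₁ h₂ using hbad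
  choose F iFd iFt hpr using fun c => exists_proj_field (τ := τ c) (hE c)
  let pr := fun c => (hpr c).some
  have hnc : ∀ c, ¬ (τ c).range ⊓ 𝐂((τ c).range) ≤ Subgroup.center (G c) := fun c =>
    (center_cases (hτ c) inf_le_right).resolve_left (h₁ c)
  have hbig : ∀ c, ∃ A ∈ maxAbelianSubgroups S, ¬ A.map (τ c) ≤ pCore p (G c) := fun c => by
    haveI := c.2.1
    exact member_facts (hτ c) (hE c) hJ (hnc c) (h₂ c)
  have D : Data p F τ :=
    { inj := hτ
      sit := hE
      edge := fun c => by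
        obtain ⟨A, hA, hAT⟩ := hbig c
        refine base_edge (hE c) (pr c) (hnc c) (isLargeIn_map (hτ c) hA) hAT
          (range_le_centralizer_zj (hτ c) hJ) fun z hz => ?_
        rw [← map_center_eq (hτ c)] at hz
        obtain ⟨x, hx, rfl⟩ := hz
        rw [← map_pow, hpow x hx, map_one]
      big := fun c => by
        obtain ⟨A, hA, hAT⟩ := hbig c
        exact ⟨A, (comm_iff A).1 hA.1, hmax A hA, hAT⟩
      hd := fun C hC hle hCC => by
        refine ⟨⟨C, hC, (centrallyLarge_iff C).2 ⟨?_, hCC⟩⟩, h₂ _⟩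
        refine large_of_ge ?_ hle
        rw [← show _ = maxCentralizerProduct S from cl_large hcl, Subgroup.card_top, Subgroup.coe_top,
          Subgroup.centralizer_univ] }
  obtain ⟨c, hc⟩ := D.main pr
  exact h₁ c (normal_of_le_center hc)

/-- The general theorem. -/
theorem pair_exists (hS : IsPGroup p S) [Nontrivial S] (hexc : ¬ Exc p S) :
    ∃ S₁ S₂ : Subgroup S, S₁ ≠ ⊥ ∧ S₂ ≠ ⊥ ∧ S₁.Characteristic ∧ S₂.Characteristic ∧ S₁ ≤ Subgroup.center S ∧
      S₂ ≤ 𝐂(zj S) ∧ (S₂.subgroupOf (𝐂(zj S))).Characteristic ∧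
      maxCentralProduct ↥S₂ = maxCentralProduct ↥(𝐂(zj S)) ∧ Good p S₁ S₂ := by
  haveI := zj_char (S := S)
  have hZ := subsingleton_of_center_bot hS
  by_cases hJ' : ⁅zj S, (⊤ : Subgroup S)⁆ = ⊥
  swap
  · obtain ⟨h1, h2, h3⟩ := case_jt hS hJ'
    refine ⟨_, 𝐂(zj S), h1, ?_, h2, inferInstance, inf_le_right, le_rfl, ?_, rfl, h3⟩
    · exact fun e => hZ (le_bot_iff.1 (e ▸ Subgroup.center_le_centralizer _))
    · rw [Subgroup.subgroupOf_self]; infer_instance
  have hJ : 𝐂(zj S) = ⊤ :=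
    top_le_iff.1 (Subgroup.le_centralizer_iff.1 (Subgroup.commutator_eq_bot_iff_le_centralizer.1 hJ'))
  obtain ⟨Q₁, hQ₁⟩ := exists_centrallyLarge S
  have hcl : IsCentrallyLarge (⊤ : Subgroup S) := by
    have h := cl_sup_thompson hQ₁
    rwa [top_le_iff.1 ((top_le_iff.2 hJ).trans (centralizer_center_thompson_le hQ₁))] at h
  have htop : ∀ C : Subgroup S, C.Characteristic → ∀ R : Subgroup S, IsCentrallyLarge R → R ≤ C →
      C ≤ 𝐂(zj S) ∧ (C.subgroupOf (𝐂(zj S))).Characteristic ∧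
        maxCentralProduct ↥C = maxCentralProduct ↥(𝐂(zj S)) := fun C _ R hR hRC =>
    ⟨hJ ▸ le_top, char_subgroupOf_of_eq_top hJ C,
      (mcp_subgroup hR hRC).trans (mcp_subgroup hcl hJ.ge).symm⟩
  have hne : ∀ C : Subgroup S, IsCentrallyLarge C → C ≠ ⊥ := fun C hC e => by
    have h := cl_le hC
    rw [e] at h
    exact hZ (le_bot_iff.1 ((Subgroup.center_le_centralizer _).trans h))
  by_cases hpow : ∃ z ∈ Subgroup.center S, z ^ p ≠ 1
  · obtain ⟨h1, h2, h3, h4⟩ := case_pow hJ hpow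
    obtain ⟨a, b, c⟩ := htop ⊤ inferInstance ⊤ hcl le_rfl
    exact ⟨_, ⊤, h1, hne _ hcl, h2, inferInstance, h3, a, b, c, h4⟩
  push Not at hpow
  obtain ⟨Q, hQ⟩ := exists_minimalCL S
  by_cases hQQ : ⁅Q, Q⁆ = ⊥
  swap
  · obtain ⟨h1, h2, h3, h4⟩ := case_mcl hS hJ hQ hQQ
    obtain ⟨a, b, c⟩ := htop _ h3 _ cl_minimalJoin le_rfl
    exact ⟨_, _, h1, hne _ cl_minimalJoin, h2, h3, inf_le_right, a, b, c, h4⟩
  have hiff := (Cfsg.Agent.S3007.result S hS Q Q hQ hQ).2.2.2.2
    ((comm_iff Q).2 (Subgroup.commutator_eq_bot_iff_le_centralizer.1 hQQ))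
  have hfS : maxCentralizerProduct S = Nat.card S * Nat.card ↥(Subgroup.center S) := by
    rw [← show _ = maxCentralizerProduct S from cl_large hcl, Subgroup.card_top, Subgroup.coe_top,
      Subgroup.centralizer_univ]
  have hA : ∀ A ∈ maxAbelianSubgroups S, IsCentralizerLarge A := fun A h => cl_large ((hiff A).2 h).1
  have hmax : ∀ A ∈ maxAbelianSubgroups S,
      Nat.card A * Nat.card A = Nat.card S * Nat.card ↥(Subgroup.center S) := fun A h => by
    have := (show _ = maxCentralizerProduct S from hA A h).trans hfS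
    rwa [centralizer_maxAb h] at this
  by_cases hab : IsMulCommutative S
  · have hc : Subgroup.center S = ⊤ :=
      eq_top_iff.2 fun x _ => Subgroup.mem_center_iff.2 fun y => hab.is_comm.comm y x
    obtain ⟨a, b, c⟩ := htop ⊤ inferInstance ⊤ hcl le_rfl
    refine ⟨⊤, ⊤, hne _ hcl, hne _ hcl, inferInstance, inferInstance, hc.ge, a, b, c,
      fun G _ _ τ hτ hE => Or.inr ?_⟩
    have hTS := pCore_le hE
    have h1 : τ.range ≤ pCore p G := by
      refine le_trans ?_ (centralizer_pCore_le hE)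
      rw [Subgroup.le_centralizer_iff]
      refine hTS.trans ?_
      have h2 := map_center_eq (τ := τ) hτ
      rw [hc, ← MonoidHom.range_eq_map] at h2
      exact h2.le.trans inf_le_right
    rw [← MonoidHom.range_eq_map, le_antisymm h1 hTS]
    exact pCore_normal p G
  have hJtop : thompsonSubgroupA S = ⊤ := by
    have hm : thompsonSubgroupA S = minimalCentrallyLargeJoin S := by
      unfold thompsonSubgroupA minimalCentrallyLargeJoin
      exact congrArg sSup (Set.ext fun A => (hiff A).symm)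
    have hJcl : IsCentrallyLarge (thompsonSubgroupA S) := hm ▸ cl_minimalJoin
    have hz : zj S = 𝐂(thompsonSubgroupA S) := inf_eq_right.2 centralizer_thompson_le
    rw [← (large_centralizer (cl_large hJcl)).2, ← hz, hJ]
  by_cases hs0 : s0 p S = ⊥
  · refine absurd ?_ hexc
    obtain ⟨e1, e2, e3, e4⟩ := s0_eq_bot hS hs0
    refine ⟨hab, hJtop, ⟨inferInstance, hpow⟩, e1, e2, e3, e4, fun A hA' B hB' R => ⟨?_, ?_, ?_, ?_⟩⟩
    · rw [pow_two]; exact hmax A hA'
    · refine (le_maxCentralProduct R).trans (le_of_eq ?_)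
      rw [maxCentralProduct_eq, hfS]
    · exact coe_sup (hA A hA') (hA B hB')
    · rw [centralizer_inf (hA A hA') (hA B hB'), centralizer_maxAb hA', centralizer_maxAb hB']
  obtain ⟨C, hC, hC', hgood⟩ := case_family hJ hcl hmax hpow
  haveI := s0_characteristic (S := S) p
  obtain ⟨a, b, c⟩ := htop C hC C hC' le_rfl
  exact ⟨_, C, inf_center_ne_bot hS _ hs0, hne _ hC', char_inf _ _, hC, inf_le_right, a, b, c, hgood⟩

end CfsgLib.PushingUp.Family
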