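/-
The exceptional class without an elementary abelian subgroup of largest order.
-/
import Mathlib
import Cfsg.Agent.Lib.PushingUp.Family.Pairs

set_option autoImplicit false
set_option linter.style.haveILetI false
set_option linter.unusedSectionVars false

universe u

open scoped commutatorElement

namespace CfsgLib.PushingUp.Family

open Cfsg CfsgLib.ChermakDelgado CfsgLib.PushingUp

variable {S : Type u} [Group S]

local notation:max "𝐂(" R ")" => Subgroup.centralizer (SetLike.coe R)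

theorem mem_centralizer_comm' {H : Type*} [Group H] {A : Subgroup H} {x a : H} (hx : x ∈ 𝐂(A)) (ha : a ∈ A) :
    Commute x a := (Subgroup.mem_centralizer_iff.1 hx a ha).symm

theorem mem_omegaOne {H : Type*} [Group H] {p : ℕ} {U : Subgroup H} (hU : U ≤ 𝐂(U)) {x : H} :
    x ∈ omegaOne p U ↔ x ∈ U ∧ x ^ p = 1 := by
  refine ⟨fun h => ?_, fun h => Subgroup.subset_closure h⟩
  let K : Subgroup H :=
    { carrier := {x | x ∈ U ∧ x ^ p = 1}
      one_mem' := ⟨U.one_mem, one_pow p⟩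
      mul_mem' := fun {a b} ha hb => ⟨U.mul_mem ha.1 hb.1, by
        rw [(mem_centralizer_comm'  (hU ha.1) hb.1).mul_pow, ha.2, hb.2, mul_one]⟩
      inv_mem' := fun {a} ha => ⟨U.inv_mem ha.1, by rw [inv_pow, ha.2, inv_one]⟩ }
  exact (Subgroup.closure_le K).2 (fun y hy => hy) h

/-- The abelian subgroups of largest order with the most elements of order `p`. -/
def bestAbelian (p : ℕ) (S : Type u) [Group S] : Set (Subgroup S) :=
  {A | A ∈ maxAbelianSubgroups S ∧ ∀ B ∈ maxAbelianSubgroups S, Nat.card (omegaOne p B) ≤ Nat.card (omegaOne p A)}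

/-- The `p`-th powers of the elements of those. -/
def bestPow (p : ℕ) (S : Type u) [Group S] : Subgroup S :=
  Subgroup.closure {y | ∃ A ∈ bestAbelian p S, ∃ a ∈ A, y = a ^ p}

variable {p : ℕ}

theorem maxAbelian_map (φ : S ≃* S) {A : Subgroup S} (hA : A ∈ maxAbelianSubgroups S) :
    A.map φ.toMonoidHom ∈ maxAbelianSubgroups S := by
  haveI := hA.1
  refine ⟨inferInstance, fun B hB => ?_⟩
  haveI := hB
  rw [Subgroup.card_map_of_injective (f := φ.toMonoidHom) φ.injective]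
  calc Nat.card B = Nat.card ↥(B.map φ.symm.toMonoidHom) :=
        (Subgroup.card_map_of_injective (f := φ.symm.toMonoidHom) φ.symm.injective).symm
    _ ≤ _ := hA.2 _ inferInstance

theorem omegaOne_map (φ : S ≃* S) (A : Subgroup S) :
    omegaOne p (A.map φ.toMonoidHom) = (omegaOne p A).map φ.toMonoidHom := by
  rw [omegaOne, omegaOne, MonoidHom.map_closure]
  congr 1
  ext x
  constructor
  · rintro ⟨⟨a, ha, rfl⟩, hx⟩
    exact ⟨a, ⟨ha, φ.injective (by rw [map_pow, map_one]; exact hx)⟩, rfl⟩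
  · rintro ⟨a, ⟨ha, hap⟩, rfl⟩
    refine ⟨⟨a, ha, rfl⟩, ?_⟩
    show φ a ^ p = 1
    rw [← map_pow, hap, map_one]

variable [Finite S]

theorem bestAbelian_map (φ : S ≃* S) {A : Subgroup S} (hA : A ∈ bestAbelian p S) :
    A.map φ.toMonoidHom ∈ bestAbelian p S := by
  refine ⟨maxAbelian_map φ hA.1, fun B hB => ?_⟩
  rw [omegaOne_map, Subgroup.card_map_of_injective (f := φ.toMonoidHom) φ.injective]
  exact hA.2 B hB

theorem bestAbelian_nonempty (p : ℕ) (S : Type u) [Group S] [Finite S] : (bestAbelian p S).Nonempty := by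
  obtain ⟨A, hA, hmax⟩ := Set.exists_max_image (maxAbelianSubgroups S) (fun A => Nat.card (omegaOne p A))
    (Set.toFinite _) (exists_maxAb S)
  exact ⟨A, hA, hmax⟩

theorem bestPow_characteristic : (bestPow p S).Characteristic := by
  rw [Subgroup.characteristic_iff_map_le]
  intro φ
  rw [bestPow, MonoidHom.map_closure, Subgroup.closure_le]
  rintro _ ⟨_, ⟨A, hA, a, ha, rfl⟩, rfl⟩
  exact Subgroup.subset_closure ⟨_, bestAbelian_map φ hA, φ a, ⟨a, ha, rfl⟩, map_pow φ a p⟩

theorem bestJoin_characteristic : (sSup (bestAbelian p S) : Subgroup S).Characteristic := by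
  rw [Subgroup.characteristic_iff_map_le]
  intro φ
  rw [Subgroup.map_le_iff_le_comap]
  exact sSup_le fun A hA => Subgroup.map_le_iff_le_comap.1 (le_sSup (bestAbelian_map φ hA))

variable [hp : Fact p.Prime]

/-- In the exceptional class the `p`-th powers are central. -/
theorem pow_mem_center (hS : IsPGroup p S) (hexc : Exc p S) (x : S) : x ^ p ∈ Subgroup.center S := by
  obtain ⟨-, -, hZ, hΦ, h2, h3, h5, -⟩ := hexc
  have hxΦ := CfsgLib.PGroup.pow_mem_frattini hS x
  have := hp.out.two_le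
  rcases (show p = 2 ∨ p = 3 ∨ 3 < p by omega) with e | e | e
  · exact h2 e hxΦ
  · subst e
    refine Subgroup.mem_center_iff.2 fun y => ?_
    set c := ⁅x, y⁆ with hc
    have hcΦ : c ∈ frattini S := CfsgLib.PGroup.commutator_le_frattini hS
      (Subgroup.commutator_mem_commutator (Subgroup.mem_top x) (Subgroup.mem_top y))
    set z := ⁅x, c⁆ with hz
    have hzc : z ∈ Subgroup.center S := by
      rw [hz, ← commutatorElement_inv, ← Subgroup.upperCentralSeries_one]
      exact Subgroup.inv_mem _ (Subgroup.mem_upperCentralSeries_succ_iff.1 (h3 rfl hcΦ) x)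
    have zc : ∀ w, Commute z w := fun w => (Subgroup.mem_center_iff.1 hzc w).symm
    have e1 : x * y * x⁻¹ = c * y := by rw [hc, commutatorElement_def]; group
    have e2 : x * c * x⁻¹ = z * c := by rw [hz, commutatorElement_def]; group
    have e3 : x * z * x⁻¹ = z := by rw [← (zc x).eq, mul_inv_cancel_right]
    have hcz : (z * c) ^ 3 = 1 := by rw [(zc c).mul_pow, hZ.2 z hzc, hΦ.2 c hcΦ, one_mul]
    have e4 : x ^ 3 * y * (x ^ 3)⁻¹ = y := by
      calc x ^ 3 * y * (x ^ 3)⁻¹ = x * (x * (x * y * x⁻¹) * x⁻¹) * x⁻¹ := by simp only [pow_three, mul_inv_rev]; group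
        _ = x * (x * (c * y) * x⁻¹) * x⁻¹ := by rw [e1]
        _ = x * ((x * c * x⁻¹) * (x * y * x⁻¹)) * x⁻¹ := by group
        _ = x * ((z * c) * (c * y)) * x⁻¹ := by rw [e1, e2]
        _ = (x * z * x⁻¹) * (x * c * x⁻¹) * (x * c * x⁻¹) * (x * y * x⁻¹) := by group
        _ = z * ((z * c) * (z * c)) * (c * y) := by rw [e1, e2, e3]; group
        _ = (z * c) ^ 3 * y := by rw [(zc ((z * c) * (z * c))).eq, pow_three]; group
        _ = y := by rw [hcz, one_mul]
    calc y * x ^ 3 = (x ^ 3 * y * (x ^ 3)⁻¹) * x ^ 3 := by rw [e4]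
      _ = _ := by group
  · have hx : x ^ p = 1 := by rw [← (h5 e).2]; exact Monoid.pow_exponent_eq_one x
    rw [hx]
    exact Subgroup.one_mem _

section Local

variable {G : Type u} [Group G] [Finite G] {τ : S →* G} (hτ : Function.Injective τ)
  (hE : IsPushingUpSituation p τ.range)

include hτ hE in
/-- Conjugates inside the core of the best subgroups are best subgroups. -/
theorem best_conj {A : Subgroup S} (hA : A ∈ bestAbelian p S) (hAT : A.map τ ≤ pCore p G) (g : G) :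
    ∃ B ∈ bestAbelian p S, B.map τ = cjg g (A.map τ) := by
  haveI : (pCore p G).Normal := pCore_normal p G
  have hle : cjg g (A.map τ) ≤ τ.range := by
    refine le_trans ?_ (pCore_le hE)
    rintro _ ⟨a, ha, rfl⟩
    exact (inferInstance : (pCore p G).Normal).conj_mem a (hAT ha) g
  set B := (cjg g (A.map τ)).comap τ with hB
  have eB : B.map τ = cjg g (A.map τ) := Subgroup.map_comap_eq_self hle
  have hcard : Nat.card B = Nat.card A := by
    rw [← Subgroup.card_map_of_injective hτ (K := B), eB, cjg,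
      Subgroup.card_map_of_injective (MulEquiv.injective _), Subgroup.card_map_of_injective hτ]
  have hBc : B ≤ 𝐂(B) := by
    rw [← comm_map hτ, eB, ← cjg_centralizer]
    exact cjg_mono ((comm_map hτ).2 ((comm_iff A).1 hA.1.1))
  refine ⟨B, ⟨⟨(comm_iff B).2 hBc, fun C hC => hcard ▸ hA.1.2 C hC⟩, fun C hC => (hA.2 C hC).trans ?_⟩, eB⟩
  rw [← Subgroup.card_map_of_injective hτ (K := omegaOne p A), ← Subgroup.card_map_of_injective
    (f := (MulAut.conj g).toMonoidHom) (MulEquiv.injective _) (K := (omegaOne p A).map τ),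
    ← Subgroup.card_map_of_injective hτ (K := omegaOne p B)]
  refine Subgroup.card_le_of_le ?_
  rintro _ ⟨_, ⟨a, ha, rfl⟩, rfl⟩
  obtain ⟨haA, hap⟩ := (mem_omegaOne ((comm_iff A).1 hA.1.1)).1 ha
  obtain ⟨b, hb, e⟩ : (MulAut.conj g).toMonoidHom (τ a) ∈ B.map τ := eB.ge ⟨_, ⟨a, haA, rfl⟩, rfl⟩
  refine ⟨b, (mem_omegaOne hBc).2 ⟨hb, hτ ?_⟩, e⟩
  rw [map_pow, e, ← map_pow, ← map_pow, hap, map_one, map_one]

include hτ hE in
/-- A best subgroup has the same powers as one inside the core. -/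
theorem best_core {q : ℕ} {V N : Subgroup G} (hb : Edge p q ⊤ τ.range (pCore p G) V N)
    {A : Subgroup S} (hA : A ∈ bestAbelian p S) :
    ∃ B ∈ bestAbelian p S, B.map τ ≤ pCore p G ∧ ∀ a ∈ A, ∃ b ∈ B, b ^ p = a ^ p := by
  by_cases hAT : A.map τ ≤ pCore p G
  · exact ⟨A, hA, hAT, fun a ha => ⟨a, ha, rfl⟩⟩
  set T := pCore p G with hTdef
  haveI : T.Normal := pCore_normal p G
  have hAl := isLargeIn_map hτ hA.1
  set A' := A.map τ
  set D := A' ⊓ T
  have hZA : τ.range ⊓ 𝐂(τ.range) ≤ A' := fun z hz =>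
    hAl.mem_of_commute hz.1 (Subgroup.centralizer_le (SetLike.coe_subset_coe.2 hAl.le) hz.2)
  have hAV : A' ⊓ V = τ.range ⊓ 𝐂(τ.range) := by
    refine le_antisymm ?_ (le_inf hZA hb.Z_le)
    rw [← hb.mem_Z_of_commute hAl.le hAT]
    exact le_inf inf_le_right (inf_le_left.trans hAl.comm)
  have hDV : D ⊓ V = τ.range ⊓ 𝐂(τ.range) := by
    rw [← hAV, inf_assoc, inf_eq_right.2 hb.V_le]
  have hDn : D ≤ Subgroup.normalizer (V : Set G) :=
    (inf_le_left.trans hAl.le).trans hb.nV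
  set B' := D ⊔ V with hB'
  have hB'T : B' ≤ T := sup_le inf_le_right hb.V_le
  have hB'c : B' ≤ 𝐂(B') :=
    comm_sup (inf_le_left.trans (hAl.comm.trans (cent_mono inf_le_left))) hb.toSide.V_comm
      (inf_le_right.trans hb.toSide.T_cent)
  have hB'E : B' ≤ τ.range := hB'T.trans hb.T_le
  have hsect : ∀ X : Subgroup G, X ≤ A' → Nat.card X ≤ q * Nat.card ↥(X ⊓ T) := by
    intro X hX
    have h1 := CfsgLib.LocalEvenSix.card_mul_card_le X T
    have h2 := Subgroup.card_le_of_le (sup_le (hX.trans hAl.le) hb.T_le)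
    rw [hb.cardE] at h2
    refine Nat.le_of_mul_le_mul_right ?_ (Nat.card_pos (α := T))
    calc Nat.card X * Nat.card T ≤ Nat.card ↥(X ⊔ T) * Nat.card ↥(X ⊓ T) := h1
      _ ≤ q * Nat.card T * Nat.card ↥(X ⊓ T) := Nat.mul_le_mul_right _ h2
      _ = _ := by ring
  have hcB : Nat.card B' = q * Nat.card D := by
    have e := CfsgLib.Coprime.card_sup_mul_card_inf hDn
    rw [inf_comm, hDV, hb.cardV] at e
    exact Nat.eq_of_mul_eq_mul_right Nat.card_pos (e.trans (by ring))
  have hcard : Nat.card B' = Nat.card A' :=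
    le_antisymm (hAl.max B' hB'E hB'c) ((hsect A' le_rfl).trans hcB.ge)
  set B := B'.comap τ with hBdef
  have eB : B.map τ = B' := Subgroup.map_comap_eq_self hB'E
  have hBmax : B ∈ maxAbelianSubgroups S :=
    mem_maxAbelian_comap hτ ⟨hB'E, hB'c, fun C hC hCc => hcard ▸ hAl.max C hC hCc⟩
  have hBc : B ≤ 𝐂(B) := (comm_iff B).1 hBmax.1
  have hAc : A ≤ 𝐂(A) := (comm_iff A).1 hA.1.1
  set O := (omegaOne p A).map τ
  have hOA : O ≤ A' := Subgroup.map_mono fun x hx => ((mem_omegaOne hAc).1 hx).1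
  set OD := O ⊓ T with hOD
  have hODV : OD ⊔ V ≤ (omegaOne p B).map τ := by
    refine sup_le ?_ ?_
    · rintro _ ⟨⟨a, ha, rfl⟩, hT⟩
      obtain ⟨haA, hap⟩ := (mem_omegaOne hAc).1 ha
      refine ⟨a, (mem_omegaOne hBc).2 ⟨?_, hap⟩, rfl⟩
      exact Subgroup.mem_sup_left ⟨⟨a, haA, rfl⟩, hT⟩
    · intro v hv
      obtain ⟨b, hb', rfl⟩ := eB.ge (Subgroup.mem_sup_right hv)
      refine ⟨b, (mem_omegaOne hBc).2 ⟨hb', hτ ?_⟩, rfl⟩
      rw [map_pow, map_one]
      exact hb.pow _ hv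
  have hODn : OD ≤ Subgroup.normalizer (V : Set G) := (inf_le_right.trans hb.T_le).trans hb.nV
  have hqO : q * Nat.card OD ≤ Nat.card ↥(OD ⊔ V) := by
    have e := CfsgLib.Coprime.card_sup_mul_card_inf hODn
    rw [hb.cardV] at e
    have h1 : Nat.card ↥(V ⊓ OD) ≤ Nat.card ↥(τ.range ⊓ 𝐂(τ.range)) := by
      refine Subgroup.card_le_of_le ?_
      rw [← hAV]
      exact le_inf (inf_le_right.trans (inf_le_left.trans hOA)) inf_le_left
    refine Nat.le_of_mul_le_mul_right ?_ (Nat.card_pos (α := ↥(τ.range ⊓ 𝐂(τ.range))))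
    calc q * Nat.card OD * Nat.card ↥(τ.range ⊓ 𝐂(τ.range))
        = Nat.card ↥(OD ⊔ V) * Nat.card ↥(V ⊓ OD) := by rw [e]; ring
      _ ≤ _ := Nat.mul_le_mul_left _ h1
  have hOB : Nat.card O ≤ Nat.card (omegaOne p B) := by
    rw [← Subgroup.card_map_of_injective hτ (K := omegaOne p B)]
    exact ((hsect O hOA).trans hqO).trans (Subgroup.card_le_of_le hODV)
  have hBbest : B ∈ bestAbelian p S := ⟨hBmax, fun C hC => (hA.2 C hC).trans (by
    rw [← Subgroup.card_map_of_injective hτ (K := omegaOne p A)]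
    exact hOB)⟩
  refine ⟨B, hBbest, eB.le.trans hB'T, ?_⟩
  have hOq : q * Nat.card OD ≤ Nat.card O := by
    refine hqO.trans ((Subgroup.card_le_of_le hODV).trans ?_)
    rw [Subgroup.card_map_of_injective hτ, Subgroup.card_map_of_injective hτ]
    exact hA.2 B hBmax
  have hgen : A' = O ⊔ D := by
    refine (Subgroup.eq_of_le_of_card_ge (sup_le hOA inf_le_left) ?_).symm
    have h1 := CfsgLib.LocalEvenSix.card_mul_card_le O D
    have h2 : O ⊓ D = OD := by
      rw [hOD]
      exact le_antisymm (inf_le_inf_left _ inf_le_right) (le_inf inf_le_left (le_inf (inf_le_left.trans hOA) inf_le_right))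
    rw [h2] at h1
    refine Nat.le_of_mul_le_mul_right ?_ (Nat.card_pos (α := OD))
    calc Nat.card A' * Nat.card OD ≤ q * Nat.card D * Nat.card OD := Nat.mul_le_mul_right _ (hsect A' le_rfl)
      _ = (q * Nat.card OD) * Nat.card D := by ring
      _ ≤ Nat.card O * Nat.card D := Nat.mul_le_mul_right _ hOq
      _ ≤ _ := h1
  intro a ha
  obtain ⟨o, ho, d, hd, e⟩ := CfsgLib.Coprime.exists_mul_of_mem_sup
    ((hOA.trans hAl.comm).trans ((cent_mono inf_le_left).trans (Subgroup.centralizer_le_normalizer _)))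
    (hgen.le ⟨a, ha, rfl⟩)
  obtain ⟨o', ho', rfl⟩ := ho
  obtain ⟨b, hb', hbd⟩ := eB.ge (Subgroup.mem_sup_left hd)
  refine ⟨b, hb', hτ ?_⟩
  rw [map_pow, map_pow, hbd, e]
  have hc : Commute (τ o') d :=
    (mem_centralizer_comm'  (hAl.comm (hOA ⟨o', ho', rfl⟩)) hd.1)
  rw [hc.mul_pow, ← map_pow, ((mem_omegaOne hAc).1 ho').2, map_one, one_mul]

end Local

/-- The pair in the exceptional class without elementary abelian subgroups of largest order. -/
theorem pair_omega (hS : IsPGroup p S) (hexc : Exc p S)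
    (hno : ¬ ∃ A ∈ maxAbelianSubgroups S, IsElementaryAbelian p A) :
    bestPow p S ≠ ⊥ ∧ (sSup (bestAbelian p S) : Subgroup S) ≠ ⊥ ∧ bestPow p S ≤ Subgroup.center S ∧
      𝐂(zj S) = ⊤ ∧ Good p (bestPow p S) (sSup (bestAbelian p S)) := by
  have hexc' := hexc
  obtain ⟨-, hJtop, hZ, -⟩ := hexc'
  have hJ : 𝐂(zj S) = ⊤ := by
    rw [zj, hJtop, top_inf_eq, Subgroup.coe_top, Subgroup.centralizer_univ, eq_top_iff]
    exact fun x _ => Subgroup.mem_centralizer_iff.2 fun z hz => (Subgroup.mem_center_iff.1 hz x).symm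
  obtain ⟨A₀, hA₀⟩ := bestAbelian_nonempty p S
  obtain ⟨a, ha, hap⟩ : ∃ a ∈ A₀, a ^ p ≠ 1 := by
    by_contra h
    push Not at h
    exact hno ⟨A₀, hA₀.1, hA₀.1.1, h⟩
  have hle : bestPow p S ≤ Subgroup.center S := by
    rw [bestPow, Subgroup.closure_le]
    rintro _ ⟨A, -, x, -, rfl⟩
    exact pow_mem_center hS hexc x
  refine ⟨fun e => hap ?_, fun e => hap ?_, hle, hJ, fun G _ _ τ hτ hE => ?_⟩
  · rw [← Subgroup.mem_bot, ← e]
    exact Subgroup.subset_closure ⟨A₀, hA₀, a, ha, rfl⟩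
  · have h1 : a ∈ (sSup (bestAbelian p S) : Subgroup S) := le_sSup hA₀ ha
    rw [e, Subgroup.mem_bot] at h1
    rw [h1, one_pow]
  rcases center_cases hτ hle with h | hnc
  · exact Or.inl h
  by_cases hall : ∀ A ∈ bestAbelian p S, A.map τ ≤ pCore p G
  · refine Or.inr (normal_of_conj_le fun g => ?_)
    rw [Subgroup.map_map, Subgroup.map_le_iff_le_comap]
    refine sSup_le fun A hA => ?_
    rw [← Subgroup.map_le_iff_le_comap, ← Subgroup.map_map]
    obtain ⟨B, hB, e⟩ := best_conj hτ hE hA (hall A hA) g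
    exact e.ge.trans (Subgroup.map_mono (le_sSup hB))
  push Not at hall
  obtain ⟨A₁, hA₁, hA₁T⟩ := hall
  obtain ⟨F, _, _, ⟨pr⟩⟩ := exists_proj_field (τ := τ) hE
  have hb := base_edge hE pr hnc (isLargeIn_map hτ hA₁.1) hA₁T (range_le_centralizer_zj hτ hJ) fun z hz => by
    rw [← map_center_eq hτ] at hz
    obtain ⟨x, hx, rfl⟩ := hz
    rw [← map_pow, hZ.2 x hx, map_one]
  refine Or.inl (normal_of_conj_le fun g => ?_)
  rw [Subgroup.map_map, bestPow, MonoidHom.map_closure, Subgroup.closure_le]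
  rintro _ ⟨_, ⟨A, hA, x, hx, rfl⟩, rfl⟩
  obtain ⟨B, hB, hBT, hpow⟩ := best_core hτ hE hb hA
  obtain ⟨b, hb', e⟩ := hpow x hx
  obtain ⟨C, hC, eC⟩ := best_conj hτ hE hB hBT g
  obtain ⟨c, hc, ec⟩ := eC.ge ⟨τ b, ⟨b, hb', rfl⟩, rfl⟩
  refine ⟨c ^ p, Subgroup.subset_closure ⟨C, hC, c, hc, rfl⟩, ?_⟩
  rw [map_pow, ec, ← e]
  simp

end CfsgLib.PushingUp.Family
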